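import Groth.Agent.KFlat.StalkTot

/-!
`f^*(M ⊗ N) ≅ f^*M ⊗ f^*N`, naturally in `M` and `N`, and on complexes.
-/

set_option autoImplicit false
universe u

namespace Groth.Agent.KFlat

open CategoryTheory Limits Opposite TopologicalSpace MonoidalCategory AlgebraicGeometry TensorProduct

section PresheafLemmas

variable {T : TopCat.{u}} {R : T.Presheaf CommRingCat.{u}}
  (P N : PresheafOfModules.{u} (R ⋙ forget₂ CommRingCat.{u} RingCat.{u}))

lemma ptmul_smul_left {U : Opens T} (r : R.obj (op U)) (p : P.obj (op U)) (n : N.obj (op U)) :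
    ptmul P N (r • p) n = r • ptmul P N p n :=
  (smul_tmul' _ _ _).symm

lemma ptmul_smul_right {U : Opens T} (r : R.obj (op U)) (p : P.obj (op U)) (n : N.obj (op U)) :
    ptmul P N p (r • n) = r • ptmul P N p n :=
  tmul_smul _ _ _

lemma app_pres {P Q : PresheafOfModules.{u} (R ⋙ forget₂ CommRingCat.{u} RingCat.{u})} (φ : P ⟶ Q)
    {U V : Opens T} (h : V ≤ U) (s : P.obj (op U)) :
    φ.app (op V) (pres P h s) = pres Q h (φ.app (op U) s) :=
  PresheafOfModules.naturality_apply φ (homOfLE h).op s

end PresheafLemmas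

variable {X Y : Scheme.{u}} (f : X ⟶ Y)

/-- the unit `M ⟶ f_* f^* M` on sections -/
noncomputable def pullSec (M : Y.Modules) (U : Y.Opens) :
    (DCoh.toP.obj M).obj (op U) →+
      (DCoh.toP.obj ((Scheme.Modules.pullback f).obj M)).obj (op (f ⁻¹ᵁ U)) :=
  (((Scheme.Modules.pullbackPushforwardAdjunction f).unit.app M).app U).hom

lemma pullSec_smul (M : Y.Modules) (U : Y.Opens) (r : (Y.sheaf.obj ⋙ forget₂ CommRingCat.{u} RingCat.{u}).obj (op U))
    (s : (DCoh.toP.obj M).obj (op U)) :
    pullSec f M U (r • s) =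
      (show (X.sheaf.obj ⋙ forget₂ CommRingCat.{u} RingCat.{u}).obj (op (f ⁻¹ᵁ U)) from f.app U r) • pullSec f M U s :=
  Scheme.Modules.Hom.app_smul _ r s

lemma pullSec_res (M : Y.Modules) {U V : Y.Opens} (h : V ≤ U) (s : (DCoh.toP.obj M).obj (op U)) :
    pullSec f M V (pres (DCoh.toP.obj M) h s) =
      pres (DCoh.toP.obj ((Scheme.Modules.pullback f).obj M)) (f.preimage_mono h) (pullSec f M U s) :=
  ConcreteCategory.congr_hom
    (((Scheme.Modules.pullbackPushforwardAdjunction f).unit.app M).mapPresheaf.naturality (homOfLE h).op) s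

variable (x : X)

/-- the map from the stalk to the stalk of the pullback -/
noncomputable def kap (M : Y.Modules) :
    PStalk (DCoh.toP.obj M) (f.base x) →+ PStalk (DCoh.toP.obj ((Scheme.Modules.pullback f).obj M)) x :=
  pDesc _ _ (fun U hU => (pgerm (DCoh.toP.obj ((Scheme.Modules.pullback f).obj M)) x (f ⁻¹ᵁ U) hU).comp
      (pullSec f M U))
    fun U V h _ hV s => by
      exact (congrArg (pgerm _ x (f ⁻¹ᵁ V) hV) (pullSec_res f M h s)).trans
        (pgerm_res _ x (f.preimage_mono h) hV _)

lemma kap_germ (M : Y.Modules) (U : Y.Opens) (hU : f.base x ∈ U) (s : (DCoh.toP.obj M).obj (op U)) :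
    kap f x M (pgerm (DCoh.toP.obj M) (f.base x) U hU s) =
      pgerm (DCoh.toP.obj ((Scheme.Modules.pullback f).obj M)) x (f ⁻¹ᵁ U) hU (pullSec f M U s) :=
  pDesc_germ (DCoh.toP.obj M) (f.base x) _ _ U hU s

lemma kap_smul (M : Y.Modules) (r : Y.presheaf.stalk (f.base x)) (m : PStalk (DCoh.toP.obj M) (f.base x)) :
    kap f x M (r • m) = (f.stalkMap x).hom r • kap f x M m := by
  obtain ⟨U, hU, r, rfl⟩ := TopCat.Presheaf.exists_germ_eq Y.presheaf (x := f.base x) r
  obtain ⟨V, hV, m, rfl⟩ := exists_pgerm (DCoh.toP.obj M) (f.base x) m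
  have hx : f.base x ∈ U ⊓ V := mem_inf' (f.base x) hU hV
  rw [← pgerm_res _ (f.base x) (show U ⊓ V ≤ V from inf_le_right) hx,
    ← TopCat.Presheaf.germ_res_apply Y.presheaf (homOfLE (show U ⊓ V ≤ U from inf_le_left)) (f.base x) hx r]
  refine (congrArg (kap f x M) (pgerm_smul (DCoh.toP.obj M) (f.base x) hx _ _).symm).trans ?_
  refine (kap_germ f x M _ hx _).trans ?_
  refine (congrArg (pgerm _ x _ hx) (pullSec_smul f M (U ⊓ V) _ _)).trans ?_
  refine (pgerm_smul _ x hx _ _).trans ?_
  exact congrArg₂ (· • ·) (Scheme.Hom.germ_stalkMap_apply f _ x hx _).symm (kap_germ f x M _ hx _).symm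

/-- linear maps out of the stalk of the pullback are determined on the stalk -/
lemma pull_stalk_ext (M : Y.Modules) {P : ModuleCat.{u} (X.presheaf.stalk x)}
    {g g' : (DerSch.stalkFunctor X x).obj ((Scheme.Modules.pullback f).obj M) ⟶ P}
    (h : ∀ m, g.hom (kap f x M m) = g'.hom (kap f x M m)) : g = g' := by
  let adj := (skyAdjunction (X := X) x)
  refine (adj.homEquiv _ P).injective (((Scheme.Modules.pullbackPushforwardAdjunction f).homEquiv M _).injective ?_)
  rw [Adjunction.homEquiv_unit (adj := Scheme.Modules.pullbackPushforwardAdjunction f),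
    Adjunction.homEquiv_unit (adj := Scheme.Modules.pullbackPushforwardAdjunction f)]
  refine Scheme.Modules.hom_ext _ _ fun U => ?_
  ext s
  refine funext fun hx => ?_
  have h' := h (pgerm (DCoh.toP.obj M) (f.base x) U hx.down s)
  have hk := kap_germ f x M U hx.down s
  exact (congrArg g.hom hk).symm.trans (h'.trans (congrArg g'.hom hk))

/-- semilinear maps extend to the stalk of the pullback -/
lemma exists_pull_stalk_desc (M : Y.Modules) {P : ModuleCat.{u} (X.presheaf.stalk x)}
    (h : (DerSch.stalkFunctor Y (f.base x)).obj M ⟶ (ModuleCat.restrictScalars (f.stalkMap x).hom).obj P) :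
    ∃ g : (DerSch.stalkFunctor X x).obj ((Scheme.Modules.pullback f).obj M) ⟶ P,
      ∀ m, g.hom (kap f x M m) = h.hom m := by
  let adj := (skyAdjunction (X := X) x)
  let adjf := Scheme.Modules.pullbackPushforwardAdjunction f
  let ψ : M ⟶ (Scheme.Modules.pushforward f).obj ((sky x).obj P) := toSky (f.base x) h ≫ (skyPushIso f x P).hom
  refine ⟨(adj.homEquiv _ P).symm ((adjf.homEquiv M _).symm ψ), fun m => ?_⟩
  obtain ⟨U, hU, s, rfl⟩ := exists_pgerm (DCoh.toP.obj M) (f.base x) m
  rw [kap_germ]
  generalize hg : (adj.homEquiv _ P).symm ((adjf.homEquiv M _).symm ψ) = g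
  rw [Equiv.symm_apply_eq, Equiv.symm_apply_eq, Adjunction.homEquiv_unit (adj := adjf)] at hg
  have h1 : (ψ.app U).hom s = (((adjf.unit.app M) ≫ (Scheme.Modules.pushforward f).map ((adj.homEquiv _ P) g)).app U).hom s := by
    rw [hg]
  exact (congrFun h1 ⟨hU⟩).symm

section Comparison

variable (M N : Y.Modules)

/-- the presheaf map `M ⊗ N ⟶ f_*(f^*M ⊗ f^*N)` -/
noncomputable def pullTensorPre :
    PT (DCoh.toP.obj M) (DCoh.toP.obj N) ⟶ DCoh.toP.obj ((Scheme.Modules.pushforward f).obj
      (((schB X).obj ((Scheme.Modules.pullback f).obj M)).obj ((Scheme.Modules.pullback f).obj N))) :=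
  let A := DCoh.toP.obj ((Scheme.Modules.pullback f).obj M)
  let B := DCoh.toP.obj ((Scheme.Modules.pullback f).obj N)
  let β (U : (Y.Opens)ᵒᵖ) (m : (DCoh.toP.obj M).obj U) (n : (DCoh.toP.obj N).obj U) :=
    (shUnit (PT A B)).app (op (f ⁻¹ᵁ U.unop)) (ptmul A B (pullSec f M U.unop m) (pullSec f N U.unop n))
  { app := fun U => ModuleCat.MonoidalCategory.tensorLift (fun m n => β U m n)
      (fun m m' n => by
        simp only [β, map_add]
        exact (congrArg _ (add_tmul _ _ _)).trans (map_add _ _ _))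
      (fun r m n => by
        simp only [β]
        exact (congrArg _ ((congrArg (fun z => ptmul A B z _) (pullSec_smul f M U.unop r m)).trans
          (ptmul_smul_left A B (f.app U.unop r) _ _))).trans
          (((shUnit (PT A B)).app (op (f ⁻¹ᵁ U.unop))).hom.map_smul _ _))
      (fun m n n' => by
        simp only [β, map_add]
        exact (congrArg _ (tmul_add _ _ _)).trans (map_add _ _ _))
      (fun r m n => by
        simp only [β]
        exact (congrArg _ ((congrArg (fun z => ptmul A B _ z) (pullSec_smul f N U.unop r n)).trans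
          (ptmul_smul_right A B (f.app U.unop r) _ _))).trans
          (((shUnit (PT A B)).app (op (f ⁻¹ᵁ U.unop))).hom.map_smul _ _))
    naturality := fun {U V} i => ModuleCat.MonoidalCategory.tensor_ext fun m n => by
      change β V (pres (DCoh.toP.obj M) i.unop.le m) (pres (DCoh.toP.obj N) i.unop.le n) =
        pres (DCoh.toP.obj (DCoh.shP.obj (PT A B))) (f.preimage_mono i.unop.le) (β U m n)
      simp only [β]
      rw [pullSec_res, pullSec_res, ← pres_ptmul]
      exact app_pres (shUnit (PT A B)) (f.preimage_mono i.unop.le) _ }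

/-- the comparison map -/
noncomputable def pullTensorHom :
    (Scheme.Modules.pullback f).obj (((schB Y).obj M).obj N) ⟶
      ((schB X).obj ((Scheme.Modules.pullback f).obj M)).obj ((Scheme.Modules.pullback f).obj N) :=
  ((Scheme.Modules.pullbackPushforwardAdjunction f).homEquiv _ _).symm
    (((PresheafOfModules.sheafificationAdjunction.{u} (R := Y.ringCatSheaf) (𝟙 Y.ringCatSheaf.obj)).homEquiv _ _).symm
      (pullTensorPre f M N))

lemma pullTensorHom_spec (U : Y.Opens) (m : (DCoh.toP.obj M).obj (op U)) (n : (DCoh.toP.obj N).obj (op U)) :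
    ((pullTensorHom f M N).app (f ⁻¹ᵁ U)).hom (pullSec f (((schB Y).obj M).obj N) U
        ((shUnit (PT (DCoh.toP.obj M) (DCoh.toP.obj N))).app (op U) (ptmul _ _ m n))) =
      (shUnit _).app (op (f ⁻¹ᵁ U)) (ptmul _ _ (pullSec f M U m) (pullSec f N U n)) := by
  let adjf := Scheme.Modules.pullbackPushforwardAdjunction f
  let adjs := PresheafOfModules.sheafificationAdjunction.{u} (R := Y.ringCatSheaf) (𝟙 Y.ringCatSheaf.obj)
  have h : adjf.homEquiv _ _ (pullTensorHom f M N) = (adjs.homEquiv _ _).symm (pullTensorPre f M N) :=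
    Equiv.apply_symm_apply _ _
  have h2 : adjs.homEquiv _ _ (adjf.homEquiv _ _ (pullTensorHom f M N)) = pullTensorPre f M N := by
    exact (congrArg (adjs.homEquiv _ _) h).trans (Equiv.apply_symm_apply _ _)
  replace h2 := ((adjs.homEquiv_unit _ _ _).symm.trans
    (congrArg (adjs.homEquiv _ _) (adjf.homEquiv_unit _ _ _).symm)).trans h2
  exact congrArg (fun t : PT (DCoh.toP.obj M) (DCoh.toP.obj N) ⟶ _ => (t.app (op U)).hom (ptmul _ _ m n)) h2

lemma pullTensorHom_kap (m : PStalk (DCoh.toP.obj M) (f.base x)) (n : PStalk (DCoh.toP.obj N) (f.base x)) :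
    ((DerSch.stalkFunctor X x).map (pullTensorHom f M N)).hom
        (kap f x (((schB Y).obj M).obj N) ((stTensorIso M N (f.base x)).hom.hom (m ⊗ₜ n))) =
      (stTensorIso _ _ x).hom.hom (kap f x M m ⊗ₜ kap f x N n) := by
  obtain ⟨U₁, hU₁, m, rfl⟩ := exists_pgerm (DCoh.toP.obj M) (f.base x) m
  obtain ⟨U₂, hU₂, n, rfl⟩ := exists_pgerm (DCoh.toP.obj N) (f.base x) n
  have hU : f.base x ∈ U₁ ⊓ U₂ := mem_inf' (f.base x) hU₁ hU₂
  rw [← pgerm_res _ (f.base x) (show U₁ ⊓ U₂ ≤ U₁ from inf_le_left) hU m,
    ← pgerm_res _ (f.base x) (show U₁ ⊓ U₂ ≤ U₂ from inf_le_right) hU n]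
  generalize pres (DCoh.toP.obj M) (show U₁ ⊓ U₂ ≤ U₁ from inf_le_left) m = a
  generalize pres (DCoh.toP.obj N) (show U₁ ⊓ U₂ ≤ U₂ from inf_le_right) n = b
  have hst : ∀ {Z : Scheme.{u}} (z : Z) (A B : Z.Modules) (W : Z.Opens) (hW : z ∈ W)
      (a : (DCoh.toP.obj A).obj (op W)) (b : (DCoh.toP.obj B).obj (op W)),
      (stTensorIso A B z).hom.hom (pgerm (DCoh.toP.obj A) z W hW a ⊗ₜ pgerm (DCoh.toP.obj B) z W hW b) =
        pgerm (DCoh.toP.obj (((schB Z).obj A).obj B)) z W hW
          ((shUnit (PT (DCoh.toP.obj A) (DCoh.toP.obj B))).app (op W) (ptmul _ _ a b)) := by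
    intro Z z A B W hW a b
    exact (congrArg (pstMap (shUnit (PT (DCoh.toP.obj A) (DCoh.toP.obj B))) z)
      (stEquiv_tmul (DCoh.toP.obj A) (DCoh.toP.obj B) hW a b)).trans (pstMap_germ _ z hW _)
  refine ((congrArg (fun z => ((DerSch.stalkFunctor X x).map (pullTensorHom f M N)).hom (kap f x _ z))
    (hst (f.base x) M N _ hU a b)).trans ?_).trans
    ((congrArg₂ (fun z w => (stTensorIso _ _ x).hom.hom (z ⊗ₜ w)) (kap_germ f x M _ hU a)
      (kap_germ f x N _ hU b)).trans (hst x _ _ _ hU _ _)).symm
  refine (congrArg ((DerSch.stalkFunctor X x).map (pullTensorHom f M N)).hom (kap_germ f x _ _ hU _)).trans ?_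
  exact (pstMap_germ (DCoh.toP.map (pullTensorHom f M N)) x hU _).trans
    (congrArg _ (pullTensorHom_spec f M N _ a b))

end Comparison

lemma isIso_pullTensorHom_stalk (M N : Y.Modules) : IsIso ((DerSch.stalkFunctor X x).map (pullTensorHom f M N)) := by
  let φ := (f.stalkMap x).hom
  let T := (DerSch.stalkFunctor X x).obj ((Scheme.Modules.pullback f).obj (((schB Y).obj M).obj N))
  let A := (DerSch.stalkFunctor X x).obj ((Scheme.Modules.pullback f).obj M)
  let B := (DerSch.stalkFunctor X x).obj ((Scheme.Modules.pullback f).obj N)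
  let k := kap f x (((schB Y).obj M).obj N)
  let τ := (stTensorIso M N (f.base x)).hom.hom
  -- `n ↦ κ (m ⊗ n)` extends to a linear map on the stalk of the pullback
  let hm (m : (DerSch.stalkFunctor Y (f.base x)).obj M) :
      (DerSch.stalkFunctor Y (f.base x)).obj N ⟶ (ModuleCat.restrictScalars φ).obj T :=
    ModuleCat.ofHom (Y := ((ModuleCat.restrictScalars φ).obj T))
      { toFun := fun n => (show (ModuleCat.restrictScalars φ).obj T from k (τ (m ⊗ₜ n)))
        map_add' := fun n n' => (congrArg (fun z => k (τ z)) (tmul_add m n n')).trans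
          ((congrArg k (map_add τ _ _)).trans (map_add k _ _))
        map_smul' := fun r (n : ((DerSch.stalkFunctor Y (f.base x)).obj N : Type u)) =>
          (congrArg (fun z => k (τ z)) (tmul_smul r m n)).trans
            ((congrArg k (map_smul τ r _)).trans (kap_smul f x _ r _)) }
  choose R hR using fun m => exists_pull_stalk_desc f x N (hm m)
  let H : (DerSch.stalkFunctor Y (f.base x)).obj M ⟶
      (ModuleCat.restrictScalars φ).obj (ModuleCat.of (X.presheaf.stalk x) (B →ₗ[X.presheaf.stalk x] T)) :=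
    ModuleCat.ofHom
      (Y := ((ModuleCat.restrictScalars φ).obj (ModuleCat.of (X.presheaf.stalk x) (B →ₗ[X.presheaf.stalk x] T))))
      { toFun := fun m => (show (ModuleCat.restrictScalars φ).obj (ModuleCat.of (X.presheaf.stalk x) (B →ₗ[X.presheaf.stalk x] T)) from (R m).hom)
        map_add' := fun m m' => congrArg ModuleCat.Hom.hom (pull_stalk_ext f x N
          (g := R (m + m')) (g' := R m + R m') fun n => by
            refine (hR (m + m') n).trans ?_
            refine Eq.trans ?_ (congrArg₂ (· + ·) (hR m n) (hR m' n)).symm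
            change k (τ ((m + m') ⊗ₜ n)) = k (τ (m ⊗ₜ n)) + k (τ (m' ⊗ₜ n))
            exact (congrArg (fun z => k (τ z))
              (add_tmul (R := Y.presheaf.stalk (f.base x)) (M := ((DerSch.stalkFunctor Y (f.base x)).obj M))
                (N := ((DerSch.stalkFunctor Y (f.base x)).obj N)) m m' n)).trans
              ((congrArg k (map_add τ _ _)).trans (map_add k _ _)))
        map_smul' := fun r m => congrArg ModuleCat.Hom.hom (pull_stalk_ext f x N
          (g := R (r • m)) (g' := ModuleCat.ofHom (φ r • (R m).hom)) fun n => by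
            refine (hR (r • m) n).trans ?_
            refine Eq.trans ?_ (congrArg (φ r • ·) (hR m n)).symm
            change k (τ ((r • m) ⊗ₜ n)) = φ r • k (τ (m ⊗ₜ n))
            exact (congrArg (fun z => k (τ z))
              (smul_tmul' (R := Y.presheaf.stalk (f.base x)) (M := ((DerSch.stalkFunctor Y (f.base x)).obj M))
                (N := ((DerSch.stalkFunctor Y (f.base x)).obj N)) r m n).symm).trans
              ((congrArg k (map_smul τ r _)).trans (kap_smul f x _ r _))) }
  obtain ⟨F, hF⟩ := exists_pull_stalk_desc f x M H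
  let ρ : MonoidalCategoryStruct.tensorObj A B ⟶ T := ModuleCat.ofHom (TensorProduct.lift F.hom)
  have hρ : ∀ m n, ρ.hom (kap f x M m ⊗ₜ kap f x N n) = k (τ (m ⊗ₜ n)) := fun m n =>
    ((TensorProduct.lift.tmul _ _).trans (congrArg (fun (g : B →ₗ[X.presheaf.stalk x] T) => g (kap f x N n)) (hF m))).trans
      ((show (show B →ₗ[X.presheaf.stalk x] T from H.hom m) (kap f x N n) = (R m).hom (kap f x N n) from rfl).trans (hR m n))
  let e := stTensorIso ((Scheme.Modules.pullback f).obj M) ((Scheme.Modules.pullback f).obj N) x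
  refine ⟨e.inv ≫ ρ, ?_, ?_⟩
  · refine pull_stalk_ext f x (((schB Y).obj M).obj N) fun z => ?_
    obtain ⟨w, rfl⟩ := (ModuleCat.epi_iff_surjective (stTensorIso M N (f.base x)).hom).1 inferInstance z
    let L := (((DerSch.stalkFunctor X x).map (pullTensorHom f M N) ≫ e.inv ≫ ρ).hom.toAddMonoidHom.comp
      (k.comp τ.toAddMonoidHom))
    change L w = k (τ w)
    induction w using TensorProduct.induction_on with
    | zero => exact (map_zero L).trans ((congrArg k (map_zero τ)).trans (map_zero k)).symm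
    | tmul m n =>
      change ρ.hom (e.inv.hom (((DerSch.stalkFunctor X x).map (pullTensorHom f M N)).hom (k (τ (m ⊗ₜ n))))) = _
      rw [pullTensorHom_kap f x M N m n]
      exact (congrArg ρ.hom (ConcreteCategory.congr_hom e.hom_inv_id _)).trans (hρ m n)
    | add a b ha hb =>
      exact (map_add L a b).trans ((congrArg₂ (· + ·) ha hb).trans
        ((congrArg k (map_add τ a b)).trans (map_add k _ _)).symm)
  · rw [Category.assoc, Iso.inv_comp_eq, Category.comp_id]
    refine ModuleCat.hom_ext (TensorProduct.ext ?_)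
    refine congrArg ModuleCat.Hom.hom (pull_stalk_ext f x M
      (P := ModuleCat.of _ (B →ₗ[X.presheaf.stalk x] _))
      (g := ModuleCat.ofHom _) (g' := ModuleCat.ofHom _) fun m => ?_)
    refine congrArg ModuleCat.Hom.hom (pull_stalk_ext f x N (g := ModuleCat.ofHom _) (g' := ModuleCat.ofHom _) fun n => ?_)
    change ((DerSch.stalkFunctor X x).map (pullTensorHom f M N)).hom (ρ.hom (kap f x M m ⊗ₜ kap f x N n)) = _
    rw [hρ]
    exact pullTensorHom_kap f x M N m n

lemma isIso_of_stalks {M N : X.Modules} (g : M ⟶ N) (h : ∀ x : X, IsIso ((DerSch.stalkFunctor X x).map g)) :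
    IsIso g := by
  have : (Scheme.Modules.toPresheaf X).ReflectsIsomorphisms := inferInstance
  let g' : (SheafOfModules.toSheaf.{u} X.ringCatSheaf).obj M ⟶ (SheafOfModules.toSheaf.{u} X.ringCatSheaf).obj N :=
    (SheafOfModules.toSheaf.{u} X.ringCatSheaf).map g
  have h2 : ∀ x : X, IsIso ((TopCat.Presheaf.stalkFunctor AddCommGrpCat.{u} x).map g'.hom) := fun x => by
    have := h x
    exact inferInstanceAs (IsIso ((forget₂ (ModuleCat.{u} _) AddCommGrpCat.{u}).map
      ((DerSch.stalkFunctor X x).map g)))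
  have hg : IsIso g' := TopCat.Presheaf.isIso_of_stalkFunctor_map_iso g'
  have : IsIso ((Scheme.Modules.toPresheaf X).map g) :=
    @Functor.map_isIso _ _ _ _ _ _ (TopCat.Sheaf.forget AddCommGrpCat.{u} X.toTopCat) g' hg
  exact isIso_of_reflects_iso g (Scheme.Modules.toPresheaf X)

instance isIso_pullTensorHom (M N : Y.Modules) : IsIso (pullTensorHom f M N) :=
  isIso_of_stalks _ fun x => isIso_pullTensorHom_stalk f x M N

/-- `f^*(M ⊗ N) ≅ f^*M ⊗ f^*N` -/
noncomputable def pullTensorIso (M N : Y.Modules) :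
    ((schB X).obj ((Scheme.Modules.pullback f).obj M)).obj ((Scheme.Modules.pullback f).obj N) ≅
      (Scheme.Modules.pullback f).obj (((schB Y).obj M).obj N) :=
  (asIso (pullTensorHom f M N)).symm

lemma pullTensorHom_natural {M M' N N' : Y.Modules} (a : M ⟶ M') (b : N ⟶ N') :
    (Scheme.Modules.pullback f).map (DCoh.shP.map (DCoh.toP.map a ⊗ₘ DCoh.toP.map b)) ≫ pullTensorHom f M' N' =
      pullTensorHom f M N ≫ DCoh.shP.map (DCoh.toP.map ((Scheme.Modules.pullback f).map a) ⊗ₘ
        DCoh.toP.map ((Scheme.Modules.pullback f).map b)) := by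
  refine ((Scheme.Modules.pullbackPushforwardAdjunction f).homEquiv _ _).injective ?_
  refine ((PresheafOfModules.sheafificationAdjunction.{u} (R := Y.ringCatSheaf) (𝟙 Y.ringCatSheaf.obj)).homEquiv
    _ _).injective ?_
  let adjf := Scheme.Modules.pullbackPushforwardAdjunction f
  let adjs := PresheafOfModules.sheafificationAdjunction.{u} (R := Y.ringCatSheaf) (𝟙 Y.ringCatSheaf.obj)
  have hh : ∀ M N, adjs.homEquiv _ _ (adjf.homEquiv _ _ (pullTensorHom f M N)) = pullTensorPre f M N := fun M N =>
    (congrArg (adjs.homEquiv _ _) (Equiv.apply_symm_apply _ _)).trans (Equiv.apply_symm_apply _ _)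
  refine ((congrArg (adjs.homEquiv _ _) (adjf.homEquiv_naturality_left _ _)).trans
    (adjs.homEquiv_naturality_left _ _)).trans (Eq.trans ?_
    ((congrArg (adjs.homEquiv _ _) (adjf.homEquiv_naturality_right _ _)).trans
      (adjs.homEquiv_naturality_right _ _)).symm)
  refine (congrArg (_ ≫ ·) (hh M' N')).trans (Eq.trans ?_ (congrArg (· ≫ _) (hh M N)).symm)
  refine PresheafOfModules.hom_ext fun U => ModuleCat.MonoidalCategory.tensor_ext fun m n => ?_
  have e1 : ∀ {A A' : Y.Modules} (c : A ⟶ A') (s : (DCoh.toP.obj A).obj U),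
      pullSec f A' U.unop ((DCoh.toP.map c).app U s) =
        (DCoh.toP.map ((Scheme.Modules.pullback f).map c)).app (op (f ⁻¹ᵁ U.unop)) (pullSec f A U.unop s) :=
    fun c s => congrArg (fun t => (t.app U.unop).hom s) (adjf.unit.naturality c)
  change (shUnit _).app _ (ptmul _ _ (pullSec f M' U.unop ((DCoh.toP.map a).app U m))
    (pullSec f N' U.unop ((DCoh.toP.map b).app U n))) = _
  rw [e1, e1]
  exact congrArg (fun t => (t.app (op (f ⁻¹ᵁ U.unop))).hom (ptmul _ _ (pullSec f M U.unop m) (pullSec f N U.unop n)))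
    (shUnit_natural (DCoh.toP.map ((Scheme.Modules.pullback f).map a) ⊗ₘ
      DCoh.toP.map ((Scheme.Modules.pullback f).map b)))

lemma pullTensorIso_natural_left {M M' : Y.Modules} (a : M ⟶ M') (N : Y.Modules) :
    ((schB X).map ((Scheme.Modules.pullback f).map a)).app ((Scheme.Modules.pullback f).obj N) ≫
        (pullTensorIso f M' N).hom =
      (pullTensorIso f M N).hom ≫ (Scheme.Modules.pullback f).map (((schB Y).map a).app N) := by
  have h := pullTensorHom_natural f a (𝟙 N)
  simp only [CategoryTheory.Functor.map_id, tensorHom_id] at h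
  rw [pullTensorIso, pullTensorIso, Iso.symm_hom, Iso.symm_hom, Iso.comp_inv_eq, Category.assoc]
  exact ((asIso (pullTensorHom f M N)).inv_comp_eq.2 h).symm.trans rfl

lemma pullTensorIso_natural_right (M : Y.Modules) {N N' : Y.Modules} (b : N ⟶ N') :
    ((schB X).obj ((Scheme.Modules.pullback f).obj M)).map ((Scheme.Modules.pullback f).map b) ≫
        (pullTensorIso f M N').hom =
      (pullTensorIso f M N).hom ≫ (Scheme.Modules.pullback f).map (((schB Y).obj M).map b) := by
  have h := pullTensorHom_natural f (𝟙 M) b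
  simp only [CategoryTheory.Functor.map_id, id_tensorHom] at h
  rw [pullTensorIso, pullTensorIso, Iso.symm_hom, Iso.symm_hom, Iso.comp_inv_eq, Category.assoc]
  exact ((asIso (pullTensorHom f M N)).inv_comp_eq.2 h).symm.trans rfl

/-- pullback of total tensor products -/
noncomputable def pullTotIso (L K : CochainComplex Y.Modules ℤ) :
    (DCoh.tensorCx.obj (((Scheme.Modules.pullback f).mapHomologicalComplex (ComplexShape.up ℤ)).obj L)).obj
        (((Scheme.Modules.pullback f).mapHomologicalComplex (ComplexShape.up ℤ)).obj K) ≅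
      ((Scheme.Modules.pullback f).mapHomologicalComplex (ComplexShape.up ℤ)).obj ((DCoh.tensorCx.obj L).obj K) :=
  have : PreservesColimitsOfSize.{u, u} (Scheme.Modules.pullback f) :=
    (Scheme.Modules.pullbackPushforwardAdjunction f).leftAdjoint_preservesColimits
  have : PreservesColimitsOfSize.{0, 0} (Scheme.Modules.pullback f) := preservesSmallestColimits_of_preservesColimits _
  mapTensIso (Scheme.Modules.pullback f) (Scheme.Modules.pullback f) (𝟭 _) (𝟭 _) (Scheme.Modules.pullback f)
    (schB Y) (schB X) (fun M N => pullTensorIso f M N) (fun a N => pullTensorIso_natural_left f a N)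
    (fun M _ _ b => pullTensorIso_natural_right f M b) L K

end Groth.Agent.KFlat
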