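import Groth.Agent.KFlat.TorAmp
import Mathlib.RingTheory.Flat.Stability
import Mathlib.Algebra.Homology.ShortComplex.ModuleCat
import Mathlib.CategoryTheory.Limits.Preserves.Shapes.Kernels

/-!
Tor amplitude gives flat amplitude; flatness through Tor; pullback of flat amplitude.
-/

set_option autoImplicit false
set_option linter.unusedSectionVars false
universe u

namespace Groth.Agent.KFlat

open CategoryTheory Limits AlgebraicGeometry HomologicalComplex MonoidalCategory

attribute [local instance] HasDerivedCategory.standard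

variable {X Y : Scheme.{u}}

lemma exactAt_stalk_tensor {K : CochainComplex X.Modules ℤ} (x : X) (M : ModuleCat.{u} (X.presheaf.stalk x))
    (i : ℤ) (h : ((tR ((sky x).obj M)).obj K).ExactAt i) :
    (((tensorRight M).mapHomologicalComplex (ComplexShape.up ℤ)).obj ((stCx x).obj K)).ExactAt i := by
  have h' : ((stCx x).obj ((tR ((sky x).obj M)).obj K)).ExactAt i := by
    rw [exactAt_iff]
    exact ShortComplex.Exact.map h (DerSch.stalkFunctor X x)
  have e : DerSch.stalkFunctor X x ⋙ tensorRight M ≅ (schB X).flip.obj ((sky x).obj M) ⋙ DerSch.stalkFunctor X x :=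
    Functor.isoWhiskerLeft _ ((tensoringRight _).mapIso (skyStalkIso x M)).symm ≪≫ stTensorRightIso _ x
  exact h'.of_iso (Hom.isoOfComponents (fun n => e.app (K.X n))
    fun i j _ => (e.hom.naturality (K.d i j)).symm).symm

/-- universal exactness below a flat term makes the cokernel flat -/
lemma isFlat_opcycles {K : CochainComplex X.Modules ℤ} (a : ℤ) (hK : FlatMod.IsFlat (K.X a))
    (h : ∀ M : X.Modules, ((tR M).obj K).ExactAt (a - 1)) : FlatMod.IsFlat (K.opcycles a) := by
  intro x
  let R := X.presheaf.stalk x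
  let P := (stCx x).obj K
  have : Module.Flat R (P.X a) := hK x
  have hfg : (P.d (a - 1) a).hom ∘ₗ (P.d (a - 1 - 1) (a - 1)).hom = 0 :=
    ModuleCat.hom_ext_iff.1 (P.d_comp_d (a - 1 - 1) (a - 1) a)
  have hex : ∀ (M : Type u) [AddCommGroup M] [Module R M],
      Function.Exact ((P.d (a - 1 - 1) (a - 1)).hom.rTensor M) ((P.d (a - 1) a).hom.rTensor M) := by
    intro M _ _
    have h1 := exactAt_stalk_tensor x (ModuleCat.of R M) (a - 1) (h _)
    rw [exactAt_iff' _ (a - 1 - 1) (a - 1) a (by simp) (by simp)] at h1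
    exact LinearMap.exact_iff.2 ((ShortComplex.moduleCat_exact_iff_range_eq_ker _).1 h1).symm
  have hflat : Module.Flat R ((P.X a : Type u) ⧸ LinearMap.range (P.d (a - 1) a).hom) :=
    flat_quotient_range_of_exact_tensor _ _ hfg hex
  have hc := CokernelCofork.mapIsColimit _ (K.opcyclesIsCokernel (a - 1) a (by simp)) (DerSch.stalkFunctor X x)
  let e := hc.coconePointUniqueUpToIso (ModuleCat.cokernelIsColimit ((DerSch.stalkFunctor X x).map (K.d (a - 1) a)))
  have : Module.Flat R (ModuleCat.cokernelCocone ((DerSch.stalkFunctor X x).map (K.d (a - 1) a))).pt := hflat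
  exact Module.Flat.of_linearEquiv e.toLinearEquiv

lemma isFlat_of_iso {F G : X.Modules} (e : F ≅ G) (h : FlatMod.IsFlat F) : FlatMod.IsFlat G := fun x => by
  have : Module.Flat (X.presheaf.stalk x) ((DerSch.stalkFunctor X x).obj F) := h x
  exact Module.Flat.of_linearEquiv ((DerSch.stalkFunctor X x).mapIso e).toLinearEquiv.symm

lemma isFlat_of_isZero {F : X.Modules} (h : IsZero F) : FlatMod.IsFlat F := fun x => by
  have : Subsingleton ((DerSch.stalkFunctor X x).obj F) :=
    ModuleCat.subsingleton_of_isZero ((DerSch.stalkFunctor X x).map_isZero h)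
  change Module.Flat (X.presheaf.stalk x) ((DerSch.stalkFunctor X x).obj F)
  infer_instance

lemma isFlat_pullback_obj (f : X ⟶ Y) {F : Y.Modules} (h : FlatMod.IsFlat F) :
    FlatMod.IsFlat ((Scheme.Modules.pullback f).obj F) := fun x => by
  let φ := (f.stalkMap x).hom
  have hflat : Module.Flat (X.presheaf.stalk x)
      ((ModuleCat.extendScalars.{u, u, u} φ).obj ((DerSch.stalkFunctor Y (f.base x)).obj F)) := by
    let := φ.toAlgebra
    have : Module.Flat (Y.presheaf.stalk (f.base x)) ((DerSch.stalkFunctor Y (f.base x)).obj F) := h (f.base x)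
    exact Module.Flat.baseChange (Y.presheaf.stalk (f.base x)) (X.presheaf.stalk x)
      ((DerSch.stalkFunctor Y (f.base x)).obj F)
  exact @Module.Flat.of_linearEquiv _ _ _ _ _ _ _ _ hflat ((pullStalkIso f x).app F).toLinearEquiv

/-- derived pullback of a K-flat complex -/
noncomputable def lpullIso (f : X ⟶ Y) [DCoh.HasLpull f] {K : CochainComplex Y.Modules ℤ}
    (hK : DCoh.IsKFlat K) :
    (DCoh.Lpull f).obj (DCoh.toD Y K) ≅
      DCoh.toD X (((Scheme.Modules.pullback f).mapHomologicalComplex (ComplexShape.up ℤ)).obj K) :=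
  evalIso (kFlatAcyclic_pullback f) (DCoh.Lpull f)
    ((DCoh.pullKh f).totalLeftDerivedCounit DerivedCategory.Qh
      (HomotopyCategory.quasiIso Y.Modules (ComplexShape.up ℤ))) hK

theorem torAmplitude_Lpull_sch (f : X ⟶ Y) [DCoh.HasLpull f] (E : DCoh.D Y) (a b : ℤ)
    (hE : DCoh.HasFlatAmplitudeIn a b E) : DCoh.HasTorAmplitudeIn a b ((DCoh.Lpull f).obj E) := by
  obtain ⟨K, h1, h2, ⟨e⟩⟩ := hE
  exact hasTorAmplitudeIn_of_torRep (torRep_of_flatAmplitude
    ⟨_, fun i hi => (Scheme.Modules.pullback f).map_isZero (h1 i hi), fun i => isFlat_pullback_obj f (h2 i),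
      ⟨(lpullIso f (isKFlat_of_vanishesOutside h1 h2)).symm ≪≫ (DCoh.Lpull f).mapIso e⟩⟩)

/-- the cohomology of a K-flat complex vanishes where all its tensor products do -/
lemma exactAt_of_forall_tensor {K : CochainComplex X.Modules ℤ} (i : ℤ)
    (h : ∀ M : X.Modules, ((tR M).obj K).ExactAt i) : K.ExactAt i := by
  rw [exactAt_iff_isZero_homology]
  refine isZero_of_stalks _ fun x => ?_
  have h1 := exactAt_stalk_tensor x (𝟙_ (ModuleCat.{u} (X.presheaf.stalk x))) i (h _)
  have h2 : ((stCx x).obj K).ExactAt i :=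
    h1.of_iso (Hom.isoOfComponents (fun n => ρ_ _) fun p q _ => (rightUnitor_naturality _).symm)
  exact ((exactAt_iff_isZero_homology _ _).1 h2).of_iso ((K.sc i).mapHomologyIso (DerSch.stalkFunctor X x)).symm

theorem flatAmplitude_of_torAmplitude (E : DCoh.D X) (a b : ℤ) (hab : a ≤ b)
    (h : DCoh.HasTorAmplitudeIn a b E) : DCoh.HasFlatAmplitudeIn a b E := by
  obtain ⟨K, hK, -, ⟨e⟩⟩ := exists_isKFlat_rep E
  have hex : ∀ i, (i < a ∨ b < i) → ∀ M : X.Modules, ((tR M).obj K).ExactAt i := fun i hi M =>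
    (exactAt_iff_isZero_homology _ _).2 (isZero_of_hasTorAmplitudeIn h hK e M i hi)
  have : K.IsLE b := (CochainComplex.isLE_iff K b).2 fun i hi => exactAt_of_forall_tensor i (hex i (Or.inr hi))
  have hq : QuasiIso (K.ιTruncLE b) := (CochainComplex.quasiIso_ιTruncLE_iff K b).2 inferInstance
  obtain ⟨P, q, hP, hPflat, hq', hPb⟩ := exists_resolution_le_sch (K.truncLE b) b
  let e' : DCoh.toD X P ≅ E := @asIso _ _ _ _ (DerivedCategory.Q.map (q ≫ K.ιTruncLE b)) inferInstance ≪≫ e
  have hexP : ∀ i, i < a → ∀ M : X.Modules, ((tR M).obj P).ExactAt i := fun i hi M =>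
    (exactAt_iff_isZero_homology _ _).2 (isZero_of_hasTorAmplitudeIn h hP e' M i (Or.inl hi))
  have : P.IsGE a := (CochainComplex.isGE_iff P a).2 fun i hi => exactAt_of_forall_tensor i (hexP i hi)
  have hq'' : QuasiIso (P.πTruncGE a) := (CochainComplex.quasiIso_πTruncGE_iff P a).2 inferInstance
  refine ⟨P.truncGE a, fun i hi => ?_, fun i => ?_,
    ⟨(@asIso _ _ _ _ (DerivedCategory.Q.map (P.πTruncGE a)) inferInstance).symm ≪≫ e'⟩⟩
  · rcases hi with hi | hi
    · exact (P.truncGE a).isZero_of_isStrictlyGE a i hi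
    · obtain ⟨k, rfl⟩ := Int.le.dest (show a ≤ i by lia)
      exact (P.isZero_of_isStrictlyLE b _ hi).of_iso
        (HomologicalComplex.truncGEXIso P (ComplexShape.embeddingUpIntGE a) (i := k) (by simp)
          (fun h' => by have := (ComplexShape.boundaryGE_embeddingUpIntGE_iff a k).1 h'; lia))
  · by_cases hi : a ≤ i
    · by_cases hk : i = a
      · subst hk
        exact isFlat_of_iso (HomologicalComplex.truncGEXIsoOpcycles P (ComplexShape.embeddingUpIntGE i)
          (i := 0) (i' := i) (by simp) ((ComplexShape.boundaryGE_embeddingUpIntGE_iff i 0).2 rfl)).symm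
          (isFlat_opcycles i (hPflat i) (hexP (i - 1) (by lia)))
      · obtain ⟨k, rfl⟩ := Int.le.dest hi
        exact isFlat_of_iso (HomologicalComplex.truncGEXIso P (ComplexShape.embeddingUpIntGE a) (i := k)
          (by simp) (fun h => hk (by rw [(ComplexShape.boundaryGE_embeddingUpIntGE_iff a k).1 h]; simp))).symm
          (hPflat _)
    · exact isFlat_of_isZero ((P.truncGE a).isZero_of_isStrictlyGE a i (by lia))

theorem torAmplitude_iff_flatAmplitude_sch (E : DCoh.D X) (a b : ℤ) (hab : a ≤ b) :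
    DCoh.HasTorAmplitudeIn a b E ↔ DCoh.HasFlatAmplitudeIn a b E :=
  ⟨flatAmplitude_of_torAmplitude E a b hab, fun h => hasTorAmplitudeIn_of_torRep (torRep_of_flatAmplitude h)⟩

theorem isFlat_iff_tor_one_vanishes_sch (F : X.Modules) :
    FlatMod.IsFlat F ↔ ∀ (G : X.Modules) [DCoh.HasLTensorMod G],
      IsZero (DCoh.HD ((DCoh.LTensorMod G).obj (DCoh.inD X F)) (-1)) := by
  let S := (single X.Modules (ComplexShape.up ℤ) 0).obj F
  let eS : DCoh.toD X S ≅ DCoh.inD X F := ((DerivedCategory.singleFunctorIsoCompQ X.Modules 0).app F).symm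
  constructor
  · intro hF G _
    refine hasTorAmplitudeIn_of_torRep (a := 0) (b := 0) (torRep_of_flatAmplitude
      ⟨S, fun i hi => isZero_single_obj_X (ComplexShape.up ℤ) 0 F i (by lia), fun i => ?_, ⟨eS⟩⟩) G (-1) (by lia)
    by_cases hi : i = 0
    · subst hi; exact isFlat_of_iso (singleObjXSelf (ComplexShape.up ℤ) 0 F).symm hF
    · exact isFlat_of_isZero (isZero_single_obj_X (ComplexShape.up ℤ) 0 F i hi)
  · intro h
    obtain ⟨P, q, hP, hPflat, hq, hPb⟩ := exists_resolution_le_sch S 0
    let e : DCoh.toD X P ≅ DCoh.inD X F := @asIso _ _ _ _ (DerivedCategory.Q.map q) inferInstance ≪≫ eS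
    have hex : ∀ M : X.Modules, ((tR M).obj P).ExactAt (-1) := fun M => by
      have := hasLTensorMod M
      rw [exactAt_iff_isZero_homology]
      exact (h M).of_iso ((DerivedCategory.homologyFunctor X.Modules (-1)).mapIso
        ((DCoh.LTensorMod M).mapIso e.symm ≪≫ lTensorModIso M hP) ≪≫ hdIso _ (-1)).symm
    have hfl := isFlat_opcycles 0 (hPflat 0) (fun M => by simpa using hex M)
    have hd : P.d 0 1 = 0 := (P.isZero_of_isStrictlyLE 0 1).eq_of_tgt _ _
    have := P.isIso_homologyι 0 1 (by simp) hd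
    exact isFlat_of_iso ((asIso (P.homologyι 0)).symm ≪≫ isoOfQuasiIsoAt q 0 ≪≫
      singleObjHomologySelfIso (ComplexShape.up ℤ) 0 F) hfl

end Groth.Agent.KFlat
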