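import Groth.Agent.KFlat.PullTensor
import Groth.Agent.SiteCoh.ClosedPush

/-!
Pushforward along closed immersions: stalks, exactness, projection formula for modules and complexes.
-/

set_option autoImplicit false
set_option linter.unusedSectionVars false
universe u

namespace Groth.Agent.KFlat

open CategoryTheory Limits Opposite TopologicalSpace MonoidalCategory AlgebraicGeometry TensorProduct

variable {X Y : Scheme.{u}} (f : X ⟶ Y) (x : X)

/-- the stalk of a pushforward maps to the stalk -/
noncomputable def pushStalk (A : X.Modules) :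
    PStalk (DCoh.toP.obj ((Scheme.Modules.pushforward f).obj A)) (f.base x) →+ PStalk (DCoh.toP.obj A) x :=
  (((DerSch.stalkFunctor X x).map ((Scheme.Modules.pullbackPushforwardAdjunction f).counit.app A)).hom.toAddMonoidHom).comp
    (kap f x _)

lemma pushStalk_germ (A : X.Modules) (U : Y.Opens) (hU : f.base x ∈ U)
    (s : (DCoh.toP.obj ((Scheme.Modules.pushforward f).obj A)).obj (op U)) :
    pushStalk f x A (pgerm _ (f.base x) U hU s) = pgerm (DCoh.toP.obj A) x (f ⁻¹ᵁ U) hU s := by
  refine (congrArg ((DerSch.stalkFunctor X x).map _).hom (kap_germ f x _ U hU s)).trans ?_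
  refine (pstMap_germ (DCoh.toP.map _) x hU _).trans (congrArg _ ?_)
  exact congrArg (fun t => (t.app U).hom s)
    ((Scheme.Modules.pullbackPushforwardAdjunction f).right_triangle_components A)

lemma pushStalk_smul (A : X.Modules) (r : Y.presheaf.stalk (f.base x))
    (m : PStalk (DCoh.toP.obj ((Scheme.Modules.pushforward f).obj A)) (f.base x)) :
    pushStalk f x A (r • m) = (f.stalkMap x).hom r • pushStalk f x A m :=
  (congrArg ((DerSch.stalkFunctor X x).map _).hom (kap_smul f x _ r m)).trans
    (((DerSch.stalkFunctor X x).map _).hom.map_smul _ _)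

lemma pushStalk_bijective [IsClosedImmersion f] (A : X.Modules) : Function.Bijective (pushStalk f x A) := by
  have h := TopCat.Presheaf.stalkPushforward.stalkPushforward_iso_of_isInducing
    (C := AddCommGrpCat.{u}) f.isClosedEmbedding.isInducing (DCoh.toP.obj A).presheaf x
  have hb := ConcreteCategory.bijective_of_isIso (C := AddCommGrpCat.{u})
    (TopCat.Presheaf.stalkPushforward AddCommGrpCat.{u} f.base (DCoh.toP.obj A).presheaf x)
  suffices he : ∀ m, pushStalk f x A m =
      (TopCat.Presheaf.stalkPushforward AddCommGrpCat.{u} f.base (DCoh.toP.obj A).presheaf x).hom m from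
    ⟨fun a b hab => hb.1 ((he a).symm.trans (hab.trans (he b))), fun z => (hb.2 z).imp fun a ha => (he a).trans ha⟩
  intro m
  obtain ⟨U, hU, s, rfl⟩ := exists_pgerm (DCoh.toP.obj ((Scheme.Modules.pushforward f).obj A)) (f.base x) m
  rw [pushStalk_germ]
  exact (ConcreteCategory.congr_hom
    (TopCat.Presheaf.stalkPushforward_germ AddCommGrpCat.{u} f.base (DCoh.toP.obj A).presheaf U x hU) s).symm

lemma subsingleton_stalk_push [IsClosedImmersion f] (A : X.Modules) {y : Y} (hy : y ∉ Set.range f.base) :
    Subsingleton (PStalk (DCoh.toP.obj ((Scheme.Modules.pushforward f).obj A)) y) := by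
  have h0 : ∀ m : PStalk (DCoh.toP.obj ((Scheme.Modules.pushforward f).obj A)) y, m = 0 := fun m => by
    obtain ⟨U, hU, s, rfl⟩ := exists_pgerm _ y m
    let W : Y.Opens := U ⊓ ⟨(Set.range f.base)ᶜ, f.isClosedEmbedding.isClosed_range.isOpen_compl⟩
    have hW : f ⁻¹ᵁ W = ⊥ := by
      ext z; simp [W]
    have : Subsingleton ((DCoh.toP.obj A).obj (op (f ⁻¹ᵁ W))) := by
      rw [hW]
      exact Groth.Agent.SiteCoh.subsingleton_sections_bot (X := X.toTopCat) ⟨A.presheaf, A.isSheaf⟩
    have hz : pres (DCoh.toP.obj ((Scheme.Modules.pushforward f).obj A)) (show W ≤ U from inf_le_left) s = 0 :=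
      @Subsingleton.elim ((DCoh.toP.obj A).obj (op (f ⁻¹ᵁ W))) this _ _
    exact (pgerm_res _ y (show W ≤ U from inf_le_left) (show y ∈ W from ⟨hU, hy⟩) s).symm.trans
      ((congrArg _ hz).trans (map_zero _))
  exact ⟨fun a b => (h0 a).trans (h0 b).symm⟩

lemma pushStalk_natural {A B : X.Modules} (g : A ⟶ B)
    (m : PStalk (DCoh.toP.obj ((Scheme.Modules.pushforward f).obj A)) (f.base x)) :
    pushStalk f x B (((DerSch.stalkFunctor Y (f.base x)).map ((Scheme.Modules.pushforward f).map g)).hom m) =
      ((DerSch.stalkFunctor X x).map g).hom (pushStalk f x A m) := by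
  obtain ⟨U, hU, s, rfl⟩ := exists_pgerm (DCoh.toP.obj ((Scheme.Modules.pushforward f).obj A)) (f.base x) m
  refine (congrArg (pushStalk f x B) (pstMap_germ (DCoh.toP.map ((Scheme.Modules.pushforward f).map g)) _ hU s)).trans ?_
  refine (pushStalk_germ f x B U hU _).trans ?_
  refine Eq.trans ?_ (congrArg ((DerSch.stalkFunctor X x).map g).hom (pushStalk_germ f x A U hU s)).symm
  exact (pstMap_germ (DCoh.toP.map g) x hU _).symm

lemma preservesHomology_pushforward [IsClosedImmersion f] : (Scheme.Modules.pushforward f).PreservesHomology := by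
  have : PreservesLimitsOfSize.{0, 0} (Scheme.Modules.pushforward f) :=
    (Scheme.Modules.pullbackPushforwardAdjunction f).rightAdjoint_preservesLimits
  have : PreservesFiniteLimits (Scheme.Modules.pushforward f) := inferInstance
  refine ((Scheme.Modules.pushforward f).exact_tfae.out 0 2 rfl rfl).1 fun S hS => ?_
  have h := ((Scheme.Modules.pushforward f).preservesFiniteLimits_tfae.out 3 0 rfl rfl).1 inferInstance S hS
  refine { exact := h.1, mono_f := h.2, epi_g := ?_ }
  refine Preadditive.epi_of_isZero_cokernel _ (isZero_of_stalks _ fun y => ?_)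
  have hsurj : Function.Surjective ((DerSch.stalkFunctor Y y).map ((Scheme.Modules.pushforward f).map S.g)).hom := by
    intro m
    by_cases hy : y ∈ Set.range f.base
    · obtain ⟨x, rfl⟩ := hy
      have := hS.epi_g
      have : Epi ((DerSch.stalkFunctor X x).map S.g) := inferInstance
      obtain ⟨n, hn⟩ := (ModuleCat.epi_iff_surjective ((DerSch.stalkFunctor X x).map S.g)).1 this (pushStalk f x _ m)
      obtain ⟨n', rfl⟩ := (pushStalk_bijective f x _).2 n
      exact ⟨n', (pushStalk_bijective f x _).1 ((pushStalk_natural f x S.g n').trans hn)⟩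
    · exact ⟨0, @Subsingleton.elim _ (subsingleton_stalk_push f _ hy) _ _⟩
  have : Epi ((DerSch.stalkFunctor Y y).map ((Scheme.Modules.pushforward f).map S.g)) :=
    (ModuleCat.epi_iff_surjective _).2 hsurj
  exact IsZero.of_iso (isZero_cokernel_of_epi ((DerSch.stalkFunctor Y y).map ((Scheme.Modules.pushforward f).map S.g)))
    (PreservesCokernel.iso (DerSch.stalkFunctor Y y) ((Scheme.Modules.pushforward f).map S.g))

/-- the projection morphism `f_*M ⊗ N ⟶ f_*(M ⊗ f^*N)` -/
noncomputable def projHom (M : X.Modules) (N : Y.Modules) :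
    ((schB Y).obj ((Scheme.Modules.pushforward f).obj M)).obj N ⟶
      (Scheme.Modules.pushforward f).obj (((schB X).obj M).obj ((Scheme.Modules.pullback f).obj N)) :=
  (Scheme.Modules.pullbackPushforwardAdjunction f).homEquiv _ _
    ((pullTensorIso f _ N).inv ≫
      ((schB X).map ((Scheme.Modules.pullbackPushforwardAdjunction f).counit.app M)).app _)

lemma projHom_natural_left {M M' : X.Modules} (a : M ⟶ M') (N : Y.Modules) :
    ((schB Y).map ((Scheme.Modules.pushforward f).map a)).app N ≫ projHom f M' N =
      projHom f M N ≫ (Scheme.Modules.pushforward f).map (((schB X).map a).app ((Scheme.Modules.pullback f).obj N)) := by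
  let adj := Scheme.Modules.pullbackPushforwardAdjunction f
  rw [projHom, projHom]
  refine (adj.homEquiv_naturality_left _ _).symm.trans (Eq.trans ?_ (adj.homEquiv_naturality_right _ _))
  refine congrArg _ ?_
  have h1 := pullTensorIso_natural_left f ((Scheme.Modules.pushforward f).map a) N
  have h1' : (Scheme.Modules.pullback f).map (((schB Y).map ((Scheme.Modules.pushforward f).map a)).app N) ≫
      (pullTensorIso f ((Scheme.Modules.pushforward f).obj M') N).inv =
      (pullTensorIso f ((Scheme.Modules.pushforward f).obj M) N).inv ≫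
        ((schB X).map ((Scheme.Modules.pullback f).map ((Scheme.Modules.pushforward f).map a))).app
          ((Scheme.Modules.pullback f).obj N) := by
    rw [Iso.comp_inv_eq, Category.assoc, h1, Iso.inv_hom_id_assoc]
  have h2 : ((schB X).map ((Scheme.Modules.pullback f).map ((Scheme.Modules.pushforward f).map a))).app
        ((Scheme.Modules.pullback f).obj N) ≫ ((schB X).map (adj.counit.app M')).app _ =
      ((schB X).map (adj.counit.app M)).app _ ≫ ((schB X).map a).app _ := by
    rw [← NatTrans.comp_app, ← NatTrans.comp_app, ← Functor.map_comp, ← Functor.map_comp]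
    exact congrArg (fun t => ((schB X).map t).app _) (adj.counit.naturality a)
  rw [Category.assoc, ← h2, reassoc_of% h1']

lemma projHom_natural_right (M : X.Modules) {N N' : Y.Modules} (b : N ⟶ N') :
    ((schB Y).obj ((Scheme.Modules.pushforward f).obj M)).map b ≫ projHom f M N' =
      projHom f M N ≫ (Scheme.Modules.pushforward f).map (((schB X).obj M).map ((Scheme.Modules.pullback f).map b)) := by
  let adj := Scheme.Modules.pullbackPushforwardAdjunction f
  rw [projHom, projHom]
  refine (adj.homEquiv_naturality_left _ _).symm.trans (Eq.trans ?_ (adj.homEquiv_naturality_right _ _))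
  refine congrArg _ ?_
  have h1 := pullTensorIso_natural_right f ((Scheme.Modules.pushforward f).obj M) b
  have h1' : (Scheme.Modules.pullback f).map (((schB Y).obj ((Scheme.Modules.pushforward f).obj M)).map b) ≫
      (pullTensorIso f ((Scheme.Modules.pushforward f).obj M) N').inv =
      (pullTensorIso f ((Scheme.Modules.pushforward f).obj M) N).inv ≫
        ((schB X).obj ((Scheme.Modules.pullback f).obj ((Scheme.Modules.pushforward f).obj M))).map
          ((Scheme.Modules.pullback f).map b) := by
    rw [Iso.comp_inv_eq, Category.assoc, h1, Iso.inv_hom_id_assoc]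
  rw [reassoc_of% h1', Category.assoc]
  exact congrArg (_ ≫ ·) (((schB X).map (adj.counit.app M)).naturality _)

lemma projHom_stalk (M : X.Modules) (N : Y.Modules)
    (m : PStalk (DCoh.toP.obj ((Scheme.Modules.pushforward f).obj M)) (f.base x))
    (n : PStalk (DCoh.toP.obj N) (f.base x)) :
    pushStalk f x _ (((DerSch.stalkFunctor Y (f.base x)).map (projHom f M N)).hom
        ((stTensorIso _ N (f.base x)).hom.hom (m ⊗ₜ n))) =
      (stTensorIso M _ x).hom.hom (pushStalk f x M m ⊗ₜ kap f x N n) := by
  let adj := Scheme.Modules.pullbackPushforwardAdjunction f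
  let S := DerSch.stalkFunctor X x
  let θ := (pullTensorIso f ((Scheme.Modules.pushforward f).obj M) N).inv ≫
    ((schB X).map (adj.counit.app M)).app ((Scheme.Modules.pullback f).obj N)
  have key : ∀ z, pushStalk f x _ (((DerSch.stalkFunctor Y (f.base x)).map (projHom f M N)).hom z) =
      (S.map θ).hom (kap f x _ z) := by
    intro z
    obtain ⟨U, hU, s, rfl⟩ := exists_pgerm (DCoh.toP.obj (((schB Y).obj ((Scheme.Modules.pushforward f).obj M)).obj N))
      (f.base x) z
    refine (congrArg (pushStalk f x _) (pstMap_germ (DCoh.toP.map (projHom f M N)) _ hU s)).trans ?_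
    refine (pushStalk_germ f x _ U hU _).trans ?_
    refine Eq.trans ?_ (congrArg (S.map θ).hom (kap_germ f x _ U hU s)).symm
    refine Eq.trans ?_ (pstMap_germ (DCoh.toP.map θ) x hU _).symm
    exact congrArg _ (congrArg (fun t => (t.app U).hom s) (adj.homEquiv_unit _ _ θ))
  rw [key]
  have hθ : S.map θ = S.map (pullTensorHom f _ N) ≫ S.map (((schB X).map (adj.counit.app M)).app _) :=
    S.map_comp _ _
  rw [hθ]
  refine (congrArg (S.map (((schB X).map (adj.counit.app M)).app _)).hom
    (pullTensorHom_kap f x ((Scheme.Modules.pushforward f).obj M) N m n)).trans ?_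
  exact (ConcreteCategory.congr_hom (stTensorIso_natural_left (adj.counit.app M) ((Scheme.Modules.pullback f).obj N) x)
    (kap f x _ m ⊗ₜ kap f x N n)).symm

lemma isIso_projHom [IsClosedImmersion f] (M : X.Modules) (N : Y.Modules) : IsIso (projHom f M N) := by
  refine isIso_of_stalks _ fun y => ?_
  rw [ConcreteCategory.isIso_iff_bijective]
  by_cases hy : y ∈ Set.range f.base
  swap
  · have h1 := subsingleton_stalk_push f (((schB X).obj M).obj ((Scheme.Modules.pullback f).obj N)) hy
    have h0 : Subsingleton ((DerSch.stalkFunctor Y y).obj ((Scheme.Modules.pushforward f).obj M)) :=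
      subsingleton_stalk_push f M hy
    refine ⟨fun a b _ => ?_, fun b => ⟨0, @Subsingleton.elim _ h1 _ _⟩⟩
    obtain ⟨a, rfl⟩ := (ModuleCat.epi_iff_surjective (stTensorIso _ N y).hom).1 inferInstance a
    obtain ⟨b, rfl⟩ := (ModuleCat.epi_iff_surjective (stTensorIso _ N y).hom).1 inferInstance b
    exact congrArg _ (Subsingleton.elim (α := ((DerSch.stalkFunctor Y y).obj ((Scheme.Modules.pushforward f).obj M)) ⊗[_]
      ((DerSch.stalkFunctor Y y).obj N)) a b)
  obtain ⟨x, rfl⟩ := hy
  let R := Y.presheaf.stalk (f.base x)
  let S := X.presheaf.stalk x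
  let φ := (f.stalkMap x).hom
  let F : ModuleCat.{u} R := (DerSch.stalkFunctor Y (f.base x)).obj ((Scheme.Modules.pushforward f).obj M)
  let K : ModuleCat.{u} R := (DerSch.stalkFunctor Y (f.base x)).obj N
  let A : ModuleCat.{u} S := (DerSch.stalkFunctor X x).obj M
  let B : ModuleCat.{u} S := (DerSch.stalkFunctor X x).obj ((Scheme.Modules.pullback f).obj N)
  let c : F ⟶ (ModuleCat.restrictScalars φ).obj A := ModuleCat.ofHom (Y := (ModuleCat.restrictScalars φ).obj A)
    { toFun := fun m => (show (ModuleCat.restrictScalars φ).obj A from pushStalk f x M m)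
      map_add' := fun a b => map_add (pushStalk f x M) a b
      map_smul' := fun r a => pushStalk_smul f x M r a }
  have hc : Function.Bijective c.hom := pushStalk_bijective f x M
  let e : F ≅ (ModuleCat.restrictScalars φ).obj A := (LinearEquiv.ofBijective c.hom hc).toModuleIso
  -- `A ⊗_R K`, as a module over the stalk of `X`, receives a bilinear map from `A × B`
  let : Algebra R S := φ.toAlgebra
  let : Module R A := Module.compHom A φ
  have : IsScalarTower R S A := ⟨fun r s a => by
    change (φ r * s) • a = φ r • s • a
    rw [mul_smul]⟩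
  let T := ModuleCat.of S (A ⊗[R] K)
  let hm (a : A) : K ⟶ (ModuleCat.restrictScalars φ).obj T :=
    ModuleCat.ofHom (Y := (ModuleCat.restrictScalars φ).obj T)
      { toFun := fun n => (show (ModuleCat.restrictScalars φ).obj T from a ⊗ₜ[R] n)
        map_add' := fun n n' => tmul_add a n n'
        map_smul' := fun (r : R) (n : ↑K) => (tmul_smul r a n).trans (algebraMap_smul S r (a ⊗ₜ[R] n)).symm }
  choose Rm hRm using fun a => exists_pull_stalk_desc f x N (hm a)
  let H : A →ₗ[S] B →ₗ[S] T :=
    { toFun := fun a => (Rm a).hom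
      map_add' := fun a b => congrArg ModuleCat.Hom.hom (pull_stalk_ext f x N (g := Rm (a + b)) (g' := Rm a + Rm b)
        fun n => (hRm (a + b) n).trans ((add_tmul a b _).trans (congrArg₂ (· + ·) (hRm a n) (hRm b n)).symm))
      map_smul' := fun s a => congrArg ModuleCat.Hom.hom (pull_stalk_ext f x N (g := Rm (s • a))
        (g' := ModuleCat.ofHom (s • (Rm a).hom))
        fun n => (hRm (s • a) n).trans ((smul_tmul' s a _).symm.trans (congrArg (s • ·) (hRm a n)).symm)) }
  let k : ↑K → ↑B := fun n => kap f x N n
  have hk_add : ∀ n n', k (n + n') = k n + k n' := fun n n' => map_add (kap f x N) n n'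
  have hk_smul : ∀ (r : R) (n : ↑K), k (r • n) = φ r • k n := fun r n => kap_smul f x N r n
  let α : (A ⊗[R] K) →ₗ[S] (A ⊗[S] B) :=
    AlgebraTensorModule.lift
      { toFun := fun a =>
          { toFun := fun n => a ⊗ₜ[S] k n
            map_add' := fun n n' => by rw [hk_add, tmul_add]
            map_smul' := fun r n => by
              rw [hk_smul, tmul_smul]
              exact algebraMap_smul S r _ }
        map_add' := fun a b => LinearMap.ext fun n => add_tmul a b _
        map_smul' := fun s a => LinearMap.ext fun n => (smul_tmul' s a _).symm }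
  let β : (A ⊗[S] B) →ₗ[S] (A ⊗[R] K) := TensorProduct.lift H
  have hα : Function.Bijective α := by
    refine ⟨Function.LeftInverse.injective (g := β) fun z => ?_, Function.RightInverse.surjective (g := β) fun z => ?_⟩
    · induction z using TensorProduct.induction_on with
      | zero => rw [map_zero, map_zero]
      | tmul a n => exact hRm a n
      | add u v hu hv => rw [map_add, map_add, hu, hv]
    · refine LinearMap.congr_fun (f := α.comp β) (g := LinearMap.id) (TensorProduct.ext (LinearMap.ext fun a => ?_)) z
      exact congrArg ModuleCat.Hom.hom (pull_stalk_ext f x N (P := ModuleCat.of S (A ⊗[S] B))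
        (g := ModuleCat.ofHom _) (g' := ModuleCat.ofHom (TensorProduct.mk S A B a)) fun n =>
          congrArg α (hRm a n))
  let τ := (stTensorIso ((Scheme.Modules.pushforward f).obj M) N (f.base x)).hom
  have hτ : Function.Bijective τ.hom := ConcreteCategory.bijective_of_isIso τ
  let σ := (stTensorIso M ((Scheme.Modules.pullback f).obj N) x).hom
  have hσ : Function.Bijective σ.hom := ConcreteCategory.bijective_of_isIso σ
  let w : MonoidalCategoryStruct.tensorObj F K ⟶ MonoidalCategoryStruct.tensorObj ((ModuleCat.restrictScalars φ).obj A) K :=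
    e.hom ▷ K
  have hw : Function.Bijective w.hom := ConcreteCategory.bijective_of_isIso w
  have hcomp : Function.Bijective (fun z => σ.hom (α (show A ⊗[R] K from w.hom z))) :=
    hσ.comp (hα.comp hw)
  have hsq : ∀ z, pushStalk f x _ (((DerSch.stalkFunctor Y (f.base x)).map (projHom f M N)).hom (τ.hom z)) =
      σ.hom (α (show A ⊗[R] K from w.hom z)) := by
    intro z
    let L := (pushStalk f x _).comp
      (((DerSch.stalkFunctor Y (f.base x)).map (projHom f M N)).hom.toAddMonoidHom.comp τ.hom.toAddMonoidHom)
    let L' := σ.hom.toAddMonoidHom.comp (α.toAddMonoidHom.comp w.hom.toAddMonoidHom)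
    change L z = L' z
    induction z using TensorProduct.induction_on with
    | zero => exact (map_zero L).trans (map_zero L').symm
    | tmul m n => exact projHom_stalk f x M N m n
    | add u v hu hv => exact (map_add L u v).trans ((congrArg₂ (· + ·) hu hv).trans (map_add L' u v).symm)
  refine (Function.Bijective.of_comp_iff _ hτ).1 ((Function.Bijective.of_comp_iff' (pushStalk_bijective f x _) _).1 ?_)
  exact ⟨fun a b hab => hcomp.1 ((hsq a).symm.trans (hab.trans (hsq b))),
    fun z => (hcomp.2 z).imp fun a ha => (hsq a).trans ha⟩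

/-- `f_*M ⊗ N ≅ f_*(M ⊗ f^*N)` for a closed immersion -/
noncomputable def projFormulaIso [IsClosedImmersion f] (M : X.Modules) (N : Y.Modules) :
    ((schB Y).obj ((Scheme.Modules.pushforward f).obj M)).obj N ≅
      (Scheme.Modules.pushforward f).obj (((schB X).obj M).obj ((Scheme.Modules.pullback f).obj N)) :=
  @asIso _ _ _ _ (projHom f M N) (isIso_projHom f M N)

lemma preservesColimits_pushforward [IsClosedImmersion f] :
    PreservesColimitsOfSize.{0, 0} (Scheme.Modules.pushforward f) := by
  refine ⟨fun {J} _ => ⟨fun {K} => ⟨fun {c} hc => ⟨?_⟩⟩⟩⟩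
  let G := Scheme.Modules.pushforward f
  let m : colimit (K ⋙ G) ⟶ G.obj c.pt := colimit.desc (K ⋙ G) (G.mapCocone c)
  have hm : IsIso m := by
    refine isIso_of_stalks _ fun y => ?_
    let Sy := DerSch.stalkFunctor Y y
    have : PreservesColimitsOfSize.{0, 0} Sy := preservesSmallestColimits_of_preservesColimits _
    have hd := isColimitOfPreserves Sy (colimit.isColimit (K ⋙ G))
    by_cases hy : y ∈ Set.range f.base
    · obtain ⟨x, rfl⟩ := hy
      have hbij : ∀ A : X.Modules, Function.Bijective (pushStalk f x A) := fun A => pushStalk_bijective f x A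
      let φ := (f.stalkMap x).hom
      let e : G ⋙ Sy ≅ DerSch.stalkFunctor X x ⋙ ModuleCat.restrictScalars φ :=
        NatIso.ofComponents (fun A => (LinearEquiv.ofBijective
          ({ toFun := fun m => (show (ModuleCat.restrictScalars φ).obj ((DerSch.stalkFunctor X x).obj A) from pushStalk f x A m)
             map_add' := fun a b => map_add (pushStalk f x A) a b
             map_smul' := fun r a => pushStalk_smul f x A r a } :
            (Sy.obj (G.obj A)) →ₗ[Y.presheaf.stalk (f.base x)]
              (ModuleCat.restrictScalars φ).obj ((DerSch.stalkFunctor X x).obj A)) (hbij A)).toModuleIso)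
          fun {A B} g => ModuleCat.hom_ext (LinearMap.ext fun m => pushStalk_natural f x g m)
      have : PreservesColimitsOfSize.{0, 0} (DerSch.stalkFunctor X x) := preservesSmallestColimits_of_preservesColimits _
      have : PreservesColimitsOfSize.{0, 0} (ModuleCat.restrictScalars.{u} φ) :=
        have : (ModuleCat.restrictScalars.{u} φ).IsLeftAdjoint :=
          (ModuleCat.restrictCoextendScalarsAdj.{u} φ).isLeftAdjoint
        inferInstance
      have : PreservesColimit K (G ⋙ Sy) := preservesColimit_of_natIso K e.symm
      have hS := isColimitOfPreserves (G ⋙ Sy) hc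
      have : Sy.map m = (hd.coconePointUniqueUpToIso hS).hom := hd.hom_ext fun j => by
        rw [IsColimit.comp_coconePointUniqueUpToIso_hom]
        exact (Sy.map_comp _ _).symm.trans (congrArg Sy.map (colimit.ι_desc _ j))
      rw [this]; infer_instance
    · have hz : ∀ A, IsZero (Sy.obj (G.obj A)) := fun A =>
        @ModuleCat.isZero_of_subsingleton _ _ (Sy.obj (G.obj A)) (subsingleton_stalk_push f A hy)
      have hz' : IsZero (Sy.obj (colimit (K ⋙ G))) := (IsZero.iff_id_eq_zero _).2
        (hd.hom_ext fun j => (hz (K.obj j)).eq_of_src _ _)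
      exact ⟨0, hz'.eq_of_src _ _, (hz c.pt).eq_of_src _ _⟩
  exact @IsColimit.ofPointIso _ _ _ _ _ _ (G.mapCocone c) (colimit.isColimit (K ⋙ G)) hm

/-- projection formula for total complexes -/
noncomputable def projFormulaTotIso [IsClosedImmersion f] (L : CochainComplex X.Modules ℤ) (K : CochainComplex Y.Modules ℤ) :
    (DCoh.tensorCx.obj (((Scheme.Modules.pushforward f).mapHomologicalComplex (ComplexShape.up ℤ)).obj L)).obj K ≅
      ((Scheme.Modules.pushforward f).mapHomologicalComplex (ComplexShape.up ℤ)).obj
        ((DCoh.tensorCx.obj L).obj (((Scheme.Modules.pullback f).mapHomologicalComplex (ComplexShape.up ℤ)).obj K)) :=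
  have := preservesColimits_pushforward f
  mapTensIso (Scheme.Modules.pushforward f) (𝟭 _) (𝟭 _) (Scheme.Modules.pullback f) (Scheme.Modules.pushforward f)
    (schB X) (schB Y) (fun M N => projFormulaIso f M N) (fun a N => projHom_natural_left f a N)
    (fun M _ _ b => projHom_natural_right f M b) L K

end Groth.Agent.KFlat
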