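import Groth.Agent.KFlat.RFlat
import Mathlib.Algebra.Homology.Embedding.CochainComplex
import Mathlib.CategoryTheory.Limits.Connected

/-!
A bounded above complex of flat objects is K-flat: it is a sequential colimit of its stupid
truncations, each of which is an iterated degreewise split extension of flat objects in one degree.
-/

set_option autoImplicit false
set_option linter.unusedSectionVars false
universe v u

namespace Groth.Agent.KFlat

open CategoryTheory Limits HomologicalComplex
open scoped ZeroObject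

variable {A : Type u} [Category.{v} A] [Abelian A] (K : CochainComplex A ℤ)

/-- terms of the stupid truncation in degrees `≥ m` -/
noncomputable def tX (m q : ℤ) : A := if m ≤ q then K.X q else 0

/-- inclusion of a term -/
noncomputable def tι (m q : ℤ) : tX K m q ⟶ K.X q :=
  if h : m ≤ q then eqToHom (if_pos h) else 0

/-- retraction of a term -/
noncomputable def tr (m q : ℤ) : K.X q ⟶ tX K m q :=
  if h : m ≤ q then eqToHom (if_pos h).symm else 0

lemma isZero_tX (m q : ℤ) (h : ¬ m ≤ q) : IsZero (tX K m q) := by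
  rw [tX, if_neg h]; exact Limits.isZero_zero A

@[reassoc (attr := simp)]
lemma tι_tr (m q : ℤ) : tι K m q ≫ tr K m q = 𝟙 _ := by
  by_cases h : m ≤ q
  · rw [tι, tr, dif_pos h, dif_pos h]
    exact (eqToHom_trans _ _).trans (eqToHom_refl _ _)
  · exact (isZero_tX K m q h).eq_of_src _ _

lemma tr_tι (m q : ℤ) (h : m ≤ q) : tr K m q ≫ tι K m q = 𝟙 _ := by
  rw [tι, tr, dif_pos h, dif_pos h]
  exact (eqToHom_trans _ _).trans (eqToHom_refl _ _)

lemma tι_d_tr_tι (m i j : ℤ) (hij : i + 1 = j) :
    (tι K m i ≫ K.d i j) ≫ tr K m j ≫ tι K m j = tι K m i ≫ K.d i j := by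
  by_cases h : m ≤ i
  · rw [tr_tι K m j (by lia), Category.comp_id]
  · exact (isZero_tX K m i h).eq_of_src _ _

/-- the stupid truncation in degrees `≥ m` -/
noncomputable def trunc (m : ℤ) : CochainComplex A ℤ where
  X := tX K m
  d i j := tι K m i ≫ K.d i j ≫ tr K m j
  shape i j h := by rw [K.shape i j h, zero_comp, comp_zero]
  d_comp_d' i j k (hij : i + 1 = j) _ := by
    have h := tι_d_tr_tι K m i j hij
    simp only [Category.assoc] at h ⊢
    rw [reassoc_of% h, K.d_comp_d_assoc, zero_comp, comp_zero]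

/-- the inclusion of the truncation -/
noncomputable def truncι (m : ℤ) : trunc K m ⟶ K where
  f q := tι K m q
  comm' i j (hij : i + 1 = j) := by
    have h := tι_d_tr_tι K m i j hij
    simp only [trunc, Category.assoc] at h ⊢
    exact h.symm

/-- maps between truncations -/
noncomputable def truncMap (m m' : ℤ) (h : m ≤ m') : trunc K m' ⟶ trunc K m where
  f q := tι K m' q ≫ tr K m q
  comm' i j (hij : i + 1 = j) := by
    have h1 := tι_d_tr_tι K m' i j hij
    simp only [trunc, Category.assoc] at h1 ⊢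
    rw [reassoc_of% h1]
    by_cases hi : m' ≤ i
    · rw [← Category.assoc (tr K m i) (tι K m i), tr_tι K m i (by lia), Category.id_comp]
    · exact (isZero_tX K m' i hi).eq_of_src _ _

lemma truncMap_ι (m m' : ℤ) (h : m ≤ m') : truncMap K m m' h ≫ truncι K m = truncι K m' := by
  ext q
  change (tι K m' q ≫ tr K m q) ≫ tι K m q = tι K m' q
  by_cases hq : m' ≤ q
  · rw [Category.assoc, tr_tι K m q (by lia), Category.comp_id]
  · exact (isZero_tX K m' q hq).eq_of_src _ _

/-- the bottom term -/
noncomputable def truncBot (m : ℤ) :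
    trunc K m ⟶ (single A (ComplexShape.up ℤ) m).obj (K.X m) :=
  HomologicalComplex.mkHomToSingle (tι K m m) (fun i (hi : i + 1 = m) =>
    (isZero_tX K m i (by lia)).eq_of_src _ _)

lemma truncBot_f (m : ℤ) :
    (truncBot K m).f m = tι K m m ≫ (singleObjXSelf (ComplexShape.up ℤ) m (K.X m)).inv :=
  HomologicalComplex.mkHomToSingle_f _ _

lemma truncBot_f' (m : ℤ) (n : ℤ) :
    ∃ g : tX K m n ⟶ ((single A (ComplexShape.up ℤ) m).obj (K.X m)).X n,
      (truncBot K m).f n = g := ⟨_, rfl⟩

/-- the bottom map with plain type -/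
noncomputable def truncBotF (m n : ℤ) : tX K m n ⟶ ((single A (ComplexShape.up ℤ) m).obj (K.X m)).X n :=
  (truncBot K m).f n

lemma truncBotF_self (m : ℤ) :
    truncBotF K m m = tι K m m ≫ (singleObjXSelf (ComplexShape.up ℤ) m (K.X m)).inv :=
  truncBot_f K m

/-- the sequence removing the bottom term -/
noncomputable def truncSC (m : ℤ) : ShortComplex (CochainComplex A ℤ) :=
  ShortComplex.mk (truncMap K m (m + 1) (by lia)) (truncBot K m) (by
    refine HomologicalComplex.hom_ext _ _ fun q => ?_
    by_cases h : q = m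
    · subst h
      exact (isZero_tX K (q + 1) q (by lia)).eq_of_src _ _
    · exact (isZero_single_obj_X (ComplexShape.up ℤ) m _ q h).eq_of_tgt _ _)

lemma truncSC_id (m n : ℤ) :
    (tι K m n ≫ tr K (m + 1) n) ≫ (tι K (m + 1) n ≫ tr K m n) +
      truncBotF K m n ≫
      (if h : n = m then
        (singleObjXIsoOfEq (ComplexShape.up ℤ) m (K.X m) n h).hom ≫ eqToHom (by rw [h]) ≫ tr K m n
       else 0) = 𝟙 (tX K m n) := by
  by_cases h : n = m
  · subst h
    rw [dif_pos rfl, (isZero_tX K (n + 1) n (by lia)).eq_of_tgt (tι K n n ≫ tr K (n + 1) n) 0,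
      zero_comp, zero_add, truncBotF_self]
    simp [singleObjXSelf]

  · rw [dif_neg h, comp_zero, add_zero]
    by_cases h' : m + 1 ≤ n
    · simp only [Category.assoc]
      rw [← Category.assoc (tr K (m + 1) n), tr_tι K (m + 1) n h', Category.id_comp, tι_tr]
    · exact (isZero_tX K m n (by lia)).eq_of_src _ _

/-- the splitting of `truncSC` -/
noncomputable def truncSplitting (m n : ℤ) : ((truncSC K m).map (eval A _ n)).Splitting where
  r := tι K m n ≫ tr K (m + 1) n
  s := if h : n = m then
      (singleObjXIsoOfEq (ComplexShape.up ℤ) m (K.X m) n h).hom ≫ eqToHom (by rw [h]) ≫ tr K m n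
    else 0
  f_r := by
    change (tι K (m + 1) n ≫ tr K m n) ≫ tι K m n ≫ tr K (m + 1) n = 𝟙 (tX K (m + 1) n)
    by_cases h : m + 1 ≤ n
    · rw [Category.assoc, ← Category.assoc (tr K m n), tr_tι K m n (by lia), Category.id_comp, tι_tr]
    · exact (isZero_tX K (m + 1) n h).eq_of_src _ _
  s_g := by
    by_cases h : n = m
    · subst h
      rw [dif_pos rfl]
      change (_ ≫ _ ≫ tr K n n) ≫ (truncBot K n).f n = 𝟙 _
      rw [truncBot_f]
      simp only [eqToHom_refl, Category.id_comp, Category.assoc]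
      rw [← Category.assoc (tr K n n), tr_tι K n n le_rfl, Category.id_comp]
      exact Iso.hom_inv_id _
    · exact (isZero_single_obj_X (ComplexShape.up ℤ) m _ n h).eq_of_src _ _
  id := truncSC_id K m n

/-- the system of truncations -/
noncomputable def truncSeq (b : ℤ) : ℕ ⥤ CochainComplex A ℤ where
  obj k := trunc K (b + 1 - k)
  map {k l} f := truncMap K _ _ (by have := leOfHom f; lia)
  map_id k := by
    ext q
    exact tι_tr K _ q
  map_comp {k l o} f g := by
    ext q
    change tι K _ q ≫ tr K _ q = (tι K (b + 1 - k) q ≫ tr K (b + 1 - l) q) ≫ tι K (b + 1 - l) q ≫ tr K (b + 1 - o) q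
    by_cases hq : b + 1 - l ≤ q
    · rw [Category.assoc, ← Category.assoc (tr K (b + 1 - l) q), tr_tι K _ q hq, Category.id_comp]
    · have := leOfHom f
      exact (isZero_tX K (b + 1 - k) q (by lia)).eq_of_src _ _

/-- the cocone of truncations -/
noncomputable def truncCocone (b : ℤ) : Cocone (truncSeq K b) where
  pt := K
  ι := { app := fun k => truncι K (b + 1 - k)
         naturality := fun k l f => by
           refine Eq.trans ?_ (Category.comp_id _).symm
           exact truncMap_ι K (b + 1 - l) (b + 1 - k) (by have := leOfHom f; lia) }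

lemma trunc_existsUnique (b q : ℤ) {Z : A} (t : ∀ k : ℕ, tX K (b + 1 - k) q ⟶ Z)
    (ht : ∀ k l : ℕ, k ≤ l → (tι K (b + 1 - k) q ≫ tr K (b + 1 - l) q) ≫ t l = t k) :
    ∃! d : K.X q ⟶ Z, ∀ k : ℕ, tι K (b + 1 - k) q ≫ d = t k := by
  obtain ⟨k₀, h₀⟩ : ∃ k₀ : ℕ, b + 1 - k₀ ≤ q := ⟨(b + 1 - q).toNat, by lia⟩
  refine ⟨tr K (b + 1 - k₀) q ≫ t k₀, fun k => ?_, fun m hm => ?_⟩
  · by_cases hk : b + 1 - k ≤ q
    · rw [← ht k (max k k₀) (le_max_left _ _), ← ht k₀ (max k k₀) (le_max_right _ _)]
      simp only [Category.assoc]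
      rw [← Category.assoc (tr K (b + 1 - k₀) q), tr_tι K _ q h₀, Category.id_comp]
    · exact (isZero_tX K _ q hk).eq_of_src _ _
  · rw [← hm k₀, ← Category.assoc, tr_tι K _ q h₀, Category.id_comp]

/-- a complex is the colimit of its truncations -/
noncomputable def isColimitTruncCocone (b : ℤ) : IsColimit (truncCocone K b) := by
  refine isColimitOfEval _ _ fun q => IsColimit.ofExistsUnique fun s => ?_
  exact trunc_existsUnique K b q (fun k => (s.ι.app k : _ ⟶ s.pt)) fun k l h => s.w (homOfLE h)

variable (B : A ⥤ A ⥤ A) [B.Additive] [∀ X, (B.obj X).Additive]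
  [∀ K L : CochainComplex A ℤ, HomologicalComplex.HasMapBifunctor K L B (ComplexShape.up ℤ)]
  [HasColimitsOfShape ℕ A] [HasExactColimitsOfShape ℕ A]

variable {K} in
/-- a bounded above complex of flat objects is K-flat -/
theorem rflat_of_bounded_above (hN : ∀ X, PreservesColimitsOfShape ℕ (B.obj X)) (b : ℤ)
    (hb : ∀ n, b < n → IsZero (K.X n)) (hflat : ∀ n, FlatObj B (K.X n)) : RFlat B K := by
  refine rflat_of_isColimit hN (isColimitTruncCocone K b) fun k => ?_
  change RFlat B (trunc K (b + 1 - k))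
  induction k with
  | zero =>
    refine fun L hL => acyclic_of_isZero fun i => ?_
    refine Functor.map_isZero (eval A _ i) (((tens B).obj L).map_isZero ?_)
    rw [IsZero.iff_id_eq_zero]
    ext q
    change 𝟙 (tX K (b + 1 - (0 : ℕ)) q) = 0
    by_cases hq : b + 1 - (0 : ℕ) ≤ q
    · rw [tX, if_pos hq]; exact (hb q (by lia)).eq_of_src _ _
    · exact (isZero_tX K _ q hq).eq_of_src _ _
  | succ k ih =>
    have e : b + 1 - (k : ℤ) = b + 1 - ((k + 1 : ℕ) : ℤ) + 1 := by push_cast; lia
    rw [e] at ih
    exact @rflat₂ A _ _ B _ _ _ (truncSC K (b + 1 - ((k + 1 : ℕ) : ℤ))) (truncSplitting K _) ih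
      (rflat_single (hflat _) _)

end Groth.Agent.KFlat
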