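import Groth.Agent.KFlat.RFlat
import Mathlib.CategoryTheory.Functor.OfSequence
import Mathlib.CategoryTheory.Filtered.Basic
import Mathlib.CategoryTheory.Limits.Connected

/-!
K-flat resolutions: every complex receives a degreewise epimorphic quasi-isomorphism from a K-flat
complex with flat terms, provided every object is functorially a quotient of a flat one.
(Iterated cones killing cycles, then a sequential colimit.)
-/

set_option autoImplicit false
set_option linter.unusedSectionVars false
universe v u w w'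

namespace Groth.Agent.KFlat

open CategoryTheory Limits HomologicalComplex CochainComplex HomComplex
open scoped ZeroObject

variable {A : Type u} [Category.{v} A] [Abelian A]

section Transition

variable [HasColimitsOfShape ℕ A] [HasExactColimitsOfShape ℕ A]

/-- a sequential colimit with transition maps zero in homology is acyclic -/
lemma acyclic_of_isColimit_of_homologyMap_eq_zero {D : ℕ ⥤ CochainComplex A ℤ} {c : Cocone D}
    (hc : IsColimit c)
    (h : ∀ n i, homologyMap (D.map (homOfLE (Nat.le_add_right n 1))) i = 0) : c.pt.Acyclic := by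
  intro i
  let S : ShortComplex (ℕ ⥤ A) := ShortComplex.mk
    (Functor.whiskerLeft D (dNatTrans A (ComplexShape.up ℤ) ((ComplexShape.up ℤ).prev i) i))
    (Functor.whiskerLeft D (dNatTrans A (ComplexShape.up ℤ) i ((ComplexShape.up ℤ).next i)))
    (by ext j; exact (D.obj j).d_comp_d _ _ _)
  have hz : ∀ n, S.homology.map (homOfLE (Nat.le_add_right n 1)) = 0 := by
    intro n
    have := S.homologyMap_mapNatTrans ((evaluation ℕ A).map (homOfLE (Nat.le_add_right n 1)))
    have h0 : ShortComplex.homologyMap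
        (S.mapNatTrans ((evaluation ℕ A).map (homOfLE (Nat.le_add_right n 1)))) = 0 := h n i
    rw [h0] at this
    have h1 := this.symm
    rw [← cancel_epi (S.mapHomologyIso ((evaluation ℕ A).obj n)).hom, comp_zero,
      ← cancel_mono (S.mapHomologyIso ((evaluation ℕ A).obj (n + 1))).inv, zero_comp, Category.assoc]
    exact h1
  have hcolim : IsZero (colimit S.homology) := by
    rw [IsZero.iff_id_eq_zero]
    refine colimit.hom_ext fun n => ?_
    rw [Category.comp_id, comp_zero, ← colimit.w S.homology (homOfLE (Nat.le_add_right n 1)), hz,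
      zero_comp]
  have hS : (S.map colim).Exact :=
    (ShortComplex.exact_iff_isZero_homology _).2 (hcolim.of_iso (S.mapHomologyIso colim))
  rw [exactAt_iff]
  refine (ShortComplex.exact_iff_of_iso ?_).1 hS
  let e : ∀ k, colimit (D ⋙ eval A (ComplexShape.up ℤ) k) ≅ c.pt.X k := fun k =>
    (colimit.isColimit _).coconePointUniqueUpToIso (isColimitOfPreserves (eval A _ k) hc)
  have he : ∀ k l, colimMap (Functor.whiskerLeft D (dNatTrans A (ComplexShape.up ℤ) k l)) ≫ (e l).hom =
      (e k).hom ≫ c.pt.d k l := fun k l => colimit.hom_ext fun j => by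
    rw [ι_colimMap_assoc]
    erw [IsColimit.comp_coconePointUniqueUpToIso_hom_assoc,
      IsColimit.comp_coconePointUniqueUpToIso_hom (colimit.isColimit _)]
    exact ((c.ι.app j).comm k l).symm
  exact ShortComplex.isoMk (e _) (e _) (e _) (he _ _).symm (he _ _).symm

end Transition

/-- a mapping cone with acyclic underlying object comes from a quasi-isomorphism -/
lemma quasiIso_of_acyclic_mappingCone {K L : CochainComplex A ℤ} (f : K ⟶ L)
    (h : (mappingCone f).Acyclic) : QuasiIso f :=
  quasiIso_map_of_acyclic_cone f (𝟭 _) (fun _ σ => shortExact_of_splitting σ)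
    (fun h i => h.homologyMap_eq i) h

variable (B : A ⥤ A ⥤ A) [B.Additive] [∀ X, (B.obj X).Additive]
  [∀ K L : CochainComplex A ℤ, HomologicalComplex.HasMapBifunctor K L B (ComplexShape.up ℤ)]

variable {B} in
lemma flatObj_biprod {F F' : A} (h : FlatObj B F) (h' : FlatObj B F') : FlatObj B (F ⊞ F') := by
  intro S hS
  rw [ShortComplex.exact_iff_isZero_homology, IsZero.iff_id_eq_zero]
  have e1 : ShortComplex.homologyMap (S.mapNatTrans (B.flip.map (biprod.fst : F ⊞ F' ⟶ F))) = 0 :=
    ((ShortComplex.exact_iff_isZero_homology _).1 (h S hS)).eq_of_tgt _ _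
  have e2 : ShortComplex.homologyMap (S.mapNatTrans (B.flip.map (biprod.snd : F ⊞ F' ⟶ F'))) = 0 :=
    ((ShortComplex.exact_iff_isZero_homology _).1 (h' S hS)).eq_of_tgt _ _
  have t : S.mapNatTrans (B.flip.map (biprod.fst : F ⊞ F' ⟶ F)) ≫ S.mapNatTrans (B.flip.map biprod.inl) +
      S.mapNatTrans (B.flip.map (biprod.snd : F ⊞ F' ⟶ F')) ≫ S.mapNatTrans (B.flip.map biprod.inr) =
      𝟙 (S.map (B.flip.obj (F ⊞ F'))) := by
    have key : ∀ X : A, (B.obj X).map (biprod.fst : F ⊞ F' ⟶ F) ≫ (B.obj X).map biprod.inl +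
        (B.obj X).map (biprod.snd : F ⊞ F' ⟶ F') ≫ (B.obj X).map biprod.inr = 𝟙 ((B.obj X).obj (F ⊞ F')) :=
      fun X => by rw [← Functor.map_comp, ← Functor.map_comp, ← Functor.map_add, biprod.total, CategoryTheory.Functor.map_id]
    ext <;> exact key _
  rw [← ShortComplex.homologyMap_id, ← t, ShortComplex.homologyMap_add, ShortComplex.homologyMap_comp,
    ShortComplex.homologyMap_comp, e1, e2]
  simp

variable {B} in
lemma flatObj_mappingCone_X {K L : CochainComplex A ℤ} (f : K ⟶ L) (hK : ∀ n, FlatObj B (K.X n))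
    (hL : ∀ n, FlatObj B (L.X n)) (n : ℤ) : FlatObj B ((mappingCone f).X n) :=
  flatObj_of_iso (homotopyCofiber.XIsoBiprod f n (n + 1) rfl).symm (flatObj_biprod (hK _) (hL _))

section ZeroD

/-- a complex with zero differential is the coproduct of its terms -/
lemma rflat_of_d_eq_zero [HasColimitsOfShape (Discrete ℤ) A] [HasExactColimitsOfShape (Discrete ℤ) A]
    (hB : ∀ X, PreservesColimitsOfShape (Discrete ℤ) (B.obj X))
    (Q : CochainComplex A ℤ) (hd : ∀ i j, Q.d i j = 0) (hQ : ∀ n, FlatObj B (Q.X n)) : RFlat B Q := by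
  let c : Cofan fun m : ℤ => (single A (ComplexShape.up ℤ) m).obj (Q.X m) :=
    Cofan.mk Q fun m => HomologicalComplex.mkHomFromSingle (𝟙 _) (fun j _ => by simp [hd])
  refine rflat_of_isColimit hB (c := c) (isColimitOfEval _ _ fun n => ?_)
    fun m => rflat_single (hQ m.as) m.as
  refine ⟨fun s => (singleObjXSelf (ComplexShape.up ℤ) n (Q.X n)).inv ≫ s.ι.app ⟨n⟩,
    fun s m => ?_, fun s g hg => ?_⟩
  · obtain ⟨m⟩ := m
    by_cases h : n = m
    · subst h
      change (mkHomFromSingle (𝟙 (Q.X n)) (fun j _ => by simp [hd])).f n ≫ _ = _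
      rw [mkHomFromSingle_f, Category.comp_id]
      exact Iso.hom_inv_id_assoc _ _
    · exact (isZero_single_obj_X (ComplexShape.up ℤ) m _ n h).eq_of_src _ _
  · have := hg ⟨n⟩
    change (mkHomFromSingle (𝟙 (Q.X n)) (fun j _ => by simp [hd])).f n ≫ g = _ at this
    rw [mkHomFromSingle_f, Category.comp_id] at this
    rw [← this]
    exact (Iso.inv_hom_id_assoc _ _).symm

end ZeroD

section Construction

variable (P : A → A) (π : ∀ M, P M ⟶ M) (G : CochainComplex A ℤ)

/-- a stage of the resolution -/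
structure Stage where
  /-- the complex -/
  K : CochainComplex A ℤ
  /-- its map to the target -/
  q : K ⟶ G

variable {G}

/-- spheres on covers of the cycles of the cone of a stage -/
noncomputable abbrev spheres (s : Stage G) : CochainComplex A ℤ where
  X j := P ((mappingCone s.q).cycles (j - 1))
  d _ _ := 0

/-- the component of `spheres → cone` -/
noncomputable def sphereComp (s : Stage G) (j : ℤ) :
    P ((mappingCone s.q).cycles (j - 1)) ⟶ (mappingCone s.q).X (j - 1) :=
  π _ ≫ (mappingCone s.q).iCycles (j - 1)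

lemma sphereComp_d (s : Stage G) (j k : ℤ) :
    sphereComp P π s j ≫ (mappingCone s.q).d (j - 1) k = 0 := by
  rw [sphereComp, Category.assoc, iCycles_d, comp_zero]

/-- the attaching map -/
noncomputable def attach (s : Stage G) : spheres P s ⟶ s.K where
  f j := sphereComp P π s j ≫ (mappingCone.fst s.q).1.v (j - 1) j (by lia)
  comm' i j (hij : i + 1 = j) := by
    have h : sphereComp P π s i ≫ (mappingCone s.q).d (i - 1) i ≫
        (mappingCone.fst s.q).1.v i j hij = 0 := by
      rw [← Category.assoc, sphereComp_d, zero_comp]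
    rw [mappingCone.d_fst_v s.q (i - 1) i j (by lia) hij] at h
    erw [zero_comp]
    rw [Category.assoc]
    simpa using h

/-- the null homotopy of the attaching map after composing to the target -/
noncomputable def attachNull (s : Stage G) : Cochain (spheres P s) G (-1) :=
  Cochain.mk fun p q h => -(sphereComp P π s p ≫
    (mappingCone.snd s.q).v (p - 1) q (by lia))

lemma δ_attachNull (s : Stage G) :
    δ (-1) 0 (attachNull P π s) = Cochain.ofHom (attach P π s ≫ s.q) := by
  ext p
  rw [δ_v (-1) 0 (by lia) _ p p (by lia) (p - 1) (p + 1) (by lia) rfl, Cochain.ofHom_v]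
  have this : sphereComp P π s p ≫ (mappingCone s.q).d (p - 1) p ≫
      (mappingCone.snd s.q).v p p (add_zero p) = 0 := by
    rw [← Category.assoc, sphereComp_d, zero_comp]
  rw [mappingCone.d_snd_v s.q (p - 1) p (by lia), Preadditive.comp_add,
    add_eq_zero_iff_eq_neg] at this
  simp only [attachNull, attach, spheres, Cochain.mk_v, Preadditive.neg_comp, Category.assoc,
    zero_comp, smul_zero, add_zero, HomologicalComplex.comp_f]
  exact this.symm

/-- the next stage -/
noncomputable def next (s : Stage G) : Stage G where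
  K := mappingCone (attach P π s)
  q := mappingCone.desc (attach P π s) (attachNull P π s) s.q (δ_attachNull P π s)

/-- the inl component of the next map -/
lemma inl_next_q (s : Stage G) (p q : ℤ) (h : p + (-1) = q) :
    (mappingCone.inl (attach P π s)).v p q h ≫ (next P π s).q.f q = (attachNull P π s).v p q h :=
  mappingCone.inl_v_desc_f (attach P π s) (attachNull P π s) s.q (δ_attachNull P π s) p q h

/-- the inclusion of consecutive stages -/
noncomputable def incl (s : Stage G) : s.K ⟶ (next P π s).K := mappingCone.inr (attach P π s)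

lemma incl_q (s : Stage G) : incl P π s ≫ (next P π s).q = s.q :=
  mappingCone.inr_desc (attach P π s) (attachNull P π s) s.q (δ_attachNull P π s)

/-- the inclusion of cones of consecutive stages -/
noncomputable def coneMap (s : Stage G) : mappingCone s.q ⟶ mappingCone (next P π s).q :=
  mappingCone.map _ _ (incl P π s) (𝟙 G)
    (by rw [Category.comp_id]; exact (incl_q P π s).symm)

lemma coneMap_f (s : Stage G) (n n' : ℤ) (h : n + 1 = n') : (coneMap P π s).f n =
    (mappingCone.fst s.q).1.v n n' h ≫ (incl P π s).f n' ≫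
        (mappingCone.inl (next P π s).q).v n' n (by lia) +
      (mappingCone.snd s.q).v n n (add_zero n) ≫ (mappingCone.inr (next P π s).q).f n := by
  subst h
  simp [coneMap, mappingCone.map, mappingCone.ext_from_iff _ (n + 1) n rfl]

lemma attach_boundary (s : Stage G) (j : ℤ) :
    ((mappingCone.inl (attach P π s)).v j (j - 1) (by lia) : _ ⟶ (next P π s).K.X (j - 1)) ≫
        (next P π s).K.d (j - 1) j =
      sphereComp P π s j ≫ (mappingCone.fst s.q).1.v (j - 1) j (by lia) ≫ (incl P π s).f j := by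
  refine (mappingCone.inl_v_d (attach P π s) j (j - 1) (j + 1) (by lia) (by lia)).trans ?_
  rw [show (spheres P s).d j (j + 1) = 0 from rfl, zero_comp, sub_zero]
  exact Category.assoc _ _ _

lemma homologyMap_coneMap [∀ X, Epi (π X)] (s : Stage G) (i : ℤ) :
    homologyMap (coneMap P π s) i = 0 := by
  obtain ⟨j, rfl⟩ : ∃ j, j - 1 = i := ⟨i + 1, by lia⟩
  rw [← cancel_epi ((mappingCone s.q).homologyπ (j - 1)), comp_zero,
    HomologicalComplex.homologyπ_naturality,
    ← cancel_epi (π ((mappingCone s.q).cycles (j - 1))), comp_zero]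
  let a : P ((mappingCone s.q).cycles (j - 1)) ⟶ (next P π s).K.X (j - 1) :=
    (mappingCone.inl (attach P π s)).v j (j - 1) (by lia)
  let w : P ((mappingCone s.q).cycles (j - 1)) ⟶ (mappingCone (next P π s).q).X (j - 1 - 1) :=
    -(a ≫ (mappingCone.inl (next P π s).q).v (j - 1) (j - 1 - 1) (by lia))
  have e' : a ≫ (next P π s).q.f (j - 1) =
      -(sphereComp P π s j ≫ (mappingCone.snd s.q).v (j - 1) (j - 1) (add_zero _)) :=
    (inl_next_q P π s j (j - 1) (by lia)).trans (by simp [attachNull])
  have e : a ≫ (next P π s).K.d (j - 1) j =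
      sphereComp P π s j ≫ (mappingCone.fst s.q).1.v (j - 1) j (by lia) ≫ (incl P π s).f j :=
    attach_boundary P π s j
  have hw : sphereComp P π s j ≫ (coneMap P π s).f (j - 1) =
      w ≫ (mappingCone (next P π s).q).d (j - 1 - 1) (j - 1) := by
    rw [coneMap_f P π s (j - 1) j (by lia)]
    simp only [w, Preadditive.neg_comp, Category.assoc]
    rw [mappingCone.inl_v_d (next P π s).q (j - 1) (j - 1 - 1) j (by lia) (by lia),
      Preadditive.comp_sub, reassoc_of% e', reassoc_of% e]
    simp only [Preadditive.comp_add, Preadditive.neg_comp, Category.assoc, neg_sub, sub_neg_eq_add]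
  have := HomologicalComplex.liftCycles_homologyπ_eq_zero_of_boundary
    (K := mappingCone (next P π s).q) (sphereComp P π s j ≫ (coneMap P π s).f (j - 1))
    (j - 1 + 1) (by simp) w hw
  refine Eq.trans ?_ this
  rw [← Category.assoc]
  congr 1
  rw [← cancel_mono ((mappingCone (next P π s).q).iCycles (j - 1))]
  simp [sphereComp]

variable (G) (s₀ : Stage G)

/-- the sequence of stages -/
noncomputable def stage : ℕ → Stage G
  | 0 => s₀
  | n + 1 => next P π (stage n)

/-- the sequence of complexes -/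
noncomputable def seq : ℕ ⥤ CochainComplex A ℤ :=
  Functor.ofSequence (X := fun n => (stage P π G s₀ n).K) fun n => (incl P π (stage P π G s₀ n) :
    (stage P π G s₀ n).K ⟶ (stage P π G s₀ (n + 1)).K)

/-- the cocone to the target -/
noncomputable def toTarget : seq P π G s₀ ⟶ (Functor.const ℕ).obj G :=
  NatTrans.ofSequence (fun n => (stage P π G s₀ n).q) fun n => by
    dsimp [seq]
    erw [Functor.ofSequence_map_homOfLE_succ, Category.comp_id]
    exact incl_q P π _

/-- the transition map of cones -/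
noncomputable def coneStep (n : ℕ) :
    mappingCone (stage P π G s₀ n).q ⟶ mappingCone (stage P π G s₀ (n + 1)).q :=
  coneMap P π (stage P π G s₀ n)

/-- the transition map of the sequence -/
noncomputable def step (n : ℕ) : (stage P π G s₀ n).K ⟶ (stage P π G s₀ (n + 1)).K :=
  incl P π (stage P π G s₀ n)

lemma coneStep_f (n : ℕ) (p p' : ℤ) (h : p + 1 = p') : (coneStep P π G s₀ n).f p =
    (mappingCone.fst (stage P π G s₀ n).q).1.v p p' h ≫ (step P π G s₀ n).f p' ≫
        (mappingCone.inl (stage P π G s₀ (n + 1)).q).v p' p (by lia) +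
      (mappingCone.snd (stage P π G s₀ n).q).v p p (add_zero p) ≫
        (mappingCone.inr (stage P π G s₀ (n + 1)).q).f p :=
  coneMap_f P π (stage P π G s₀ n) p p' h

/-- the sequence of cones -/
noncomputable def coneSeq : ℕ ⥤ CochainComplex A ℤ :=
  Functor.ofSequence (X := fun n => mappingCone (stage P π G s₀ n).q) (coneStep P π G s₀)

variable [HasColimitsOfShape ℕ A] [HasExactColimitsOfShape ℕ A]

/-- the resolving complex -/
noncomputable def resK : CochainComplex A ℤ := colimit (seq P π G s₀)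

/-- the inclusion of a stage -/
noncomputable def resι (n : ℕ) : (stage P π G s₀ n).K ⟶ resK P π G s₀ := colimit.ι (seq P π G s₀) n

lemma resι_w (n : ℕ) : step P π G s₀ n ≫ resι P π G s₀ (n + 1) = resι P π G s₀ n := by
  have := colimit.w (seq P π G s₀) (homOfLE (Nat.le_add_right n 1))
  erw [Functor.ofSequence_map_homOfLE_succ] at this
  exact this

/-- the resolution map -/
noncomputable def resQ : resK P π G s₀ ⟶ G := colimit.desc _ ⟨G, toTarget P π G s₀⟩

lemma ι_resQ (n : ℕ) : resι P π G s₀ n ≫ resQ P π G s₀ = (stage P π G s₀ n).q :=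
  colimit.ι_desc _ _

/-- the legs into the cone of the resolution -/
noncomputable def coneLeg (n : ℕ) : mappingCone (stage P π G s₀ n).q ⟶ mappingCone (resQ P π G s₀) :=
  mappingCone.map _ _ (resι P π G s₀ n) (𝟙 G) ((Category.comp_id _).trans (ι_resQ P π G s₀ n).symm)

lemma inl_coneLeg (n : ℕ) (p p' : ℤ) (h : p' + (-1) = p) :
    (mappingCone.inl (stage P π G s₀ n).q).v p' p h ≫ (coneLeg P π G s₀ n).f p =
      (resι P π G s₀ n).f p' ≫ (mappingCone.inl (resQ P π G s₀)).v p' p h := by
  simp [coneLeg, mappingCone.map]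

lemma inr_coneLeg (n : ℕ) (p : ℤ) :
    (mappingCone.inr (stage P π G s₀ n).q).f p ≫ (coneLeg P π G s₀ n).f p =
      (mappingCone.inr (resQ P π G s₀)).f p := by
  simp [coneLeg, mappingCone.map]

lemma coneStep_leg (n : ℕ) : coneStep P π G s₀ n ≫ coneLeg P π G s₀ (n + 1) = coneLeg P π G s₀ n := by
  ext p
  refine (mappingCone.ext_from_iff _ (p + 1) p rfl _ _).2 ⟨?_, ?_⟩
  · simp [coneStep_f P π G s₀ n p (p + 1) rfl, inl_coneLeg, ← HomologicalComplex.comp_f_assoc, resι_w]
  · simp [coneStep_f P π G s₀ n p (p + 1) rfl, inr_coneLeg]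

/-- the cocone of cones -/
noncomputable def coneCocone : Cocone (coneSeq P π G s₀) where
  pt := mappingCone (resQ P π G s₀)
  ι := NatTrans.ofSequence (coneLeg P π G s₀) fun n => by
    refine Eq.trans ?_ (Category.comp_id _).symm
    erw [Functor.ofSequence_map_homOfLE_succ]
    exact coneStep_leg P π G s₀ n

lemma resK_hom_ext {k : ℤ} {Z : A} {a b : (resK P π G s₀).X k ⟶ Z}
    (h : ∀ n, (resι P π G s₀ n).f k ≫ a = (resι P π G s₀ n).f k ≫ b) : a = b :=
  (isColimitOfPreserves (eval A (ComplexShape.up ℤ) k) (colimit.isColimit (seq P π G s₀))).hom_ext h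

lemma resK_exists_desc {k : ℤ} {Z : A} (t : ∀ n, (stage P π G s₀ n).K.X k ⟶ Z)
    (ht : ∀ n, (step P π G s₀ n).f k ≫ t (n + 1) = t n) :
    ∃ d : (resK P π G s₀).X k ⟶ Z, ∀ n, (resι P π G s₀ n).f k ≫ d = t n := by
  have hc := isColimitOfPreserves (eval A (ComplexShape.up ℤ) k) (colimit.isColimit (seq P π G s₀))
  refine ⟨hc.desc ⟨Z, NatTrans.ofSequence t fun n => ?_⟩, fun n => hc.fac _ n⟩
  refine Eq.trans ?_ (Category.comp_id _).symm
  refine Eq.trans ?_ (ht n)
  have e : (seq P π G s₀).map (homOfLE (Nat.le_add_right n 1)) = step P π G s₀ n :=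
    Functor.ofSequence_map_homOfLE_succ _ n
  exact congrArg (fun g => HomologicalComplex.Hom.f g k ≫ t (n + 1)) e

lemma coneLeg_existsUnique {p : ℤ} {Z : A} (t : ∀ n, (mappingCone (stage P π G s₀ n).q).X p ⟶ Z)
    (ht : ∀ n, (coneStep P π G s₀ n).f p ≫ t (n + 1) = t n) :
    ∃! d : (mappingCone (resQ P π G s₀)).X p ⟶ Z, ∀ n, (coneLeg P π G s₀ n).f p ≫ d = t n := by
  have hconst : ∀ n, (mappingCone.inr (stage P π G s₀ n).q).f p ≫ t n =
      (mappingCone.inr (stage P π G s₀ 0).q).f p ≫ t 0 := by
    intro n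
    induction n with
    | zero => rfl
    | succ n ih =>
      rw [← ih, ← ht n, coneStep_f P π G s₀ n p (p + 1) rfl]
      simp
  obtain ⟨d, hd⟩ := resK_exists_desc P π G s₀
    (fun n => (mappingCone.inl (stage P π G s₀ n).q).v (p + 1) p (by lia) ≫ t n) fun n => by
      rw [← ht n, coneStep_f P π G s₀ n p (p + 1) rfl]
      simp
  refine ⟨(mappingCone.fst (resQ P π G s₀)).1.v p (p + 1) rfl ≫ d +
      (mappingCone.snd (resQ P π G s₀)).v p p (add_zero p) ≫
        (mappingCone.inr (stage P π G s₀ 0).q).f p ≫ t 0, fun n => ?_, fun m hm => ?_⟩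
  · refine (mappingCone.ext_from_iff _ (p + 1) p rfl _ _).2 ⟨?_, ?_⟩
    · rw [← Category.assoc, inl_coneLeg]
      simp
      exact hd n
    · rw [← Category.assoc, inr_coneLeg]
      simp
      exact (hconst n).symm
  · refine (mappingCone.ext_from_iff _ (p + 1) p rfl _ _).2 ⟨?_, ?_⟩
    · simp
      refine resK_hom_ext P π G s₀ fun n => ?_
      rw [hd n, ← hm n]
      rw [← Category.assoc, ← inl_coneLeg, Category.assoc]
    · simp
      rw [← hm 0, ← Category.assoc _ _ m, inr_coneLeg]

/-- the cone of the resolution is the colimit of the cones -/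
noncomputable def isColimitConeCocone : IsColimit (coneCocone P π G s₀) := by
  refine isColimitOfEval _ _ fun p => IsColimit.ofExistsUnique fun s => ?_
  refine coneLeg_existsUnique P π G s₀ (fun n => (s.ι.app n : _ ⟶ s.pt)) fun n => ?_
  have h := s.w (homOfLE (Nat.le_add_right n 1))
  have e : (coneSeq P π G s₀).map (homOfLE (Nat.le_add_right n 1)) = coneStep P π G s₀ n :=
    Functor.ofSequence_map_homOfLE_succ _ n
  exact (congrArg (fun g => HomologicalComplex.Hom.f g p ≫ (s.ι.app (n + 1) : _ ⟶ s.pt)) e.symm).trans h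

lemma quasiIso_resQ [∀ X, Epi (π X)] : QuasiIso (resQ P π G s₀) := by
  refine quasiIso_of_acyclic_mappingCone _
    (acyclic_of_isColimit_of_homologyMap_eq_zero (isColimitConeCocone P π G s₀) fun n i => ?_)
  erw [Functor.ofSequence_map_homOfLE_succ]
  exact homologyMap_coneMap P π _ i

variable {P π}

lemma flatObj_resK_X (hP : ∀ M, FlatObj B (P M))
    (hN : ∀ X, PreservesColimitsOfShape ℕ (B.obj X)) (h₀ : ∀ n, FlatObj B (s₀.K.X n)) (m : ℤ) :
    FlatObj B ((resK P π G s₀).X m) := by
  refine flatObj_of_isColimit hN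
    (isColimitOfPreserves (eval A (ComplexShape.up ℤ) m) (colimit.isColimit (seq P π G s₀))) fun n => ?_
  change FlatObj B ((stage P π G s₀ n).K.X m)
  induction n generalizing m with
  | zero => exact h₀ m
  | succ n ih => exact flatObj_mappingCone_X _ (fun _ => hP _) ih m

lemma rflat_resK [HasColimitsOfShape (Discrete ℤ) A] [HasExactColimitsOfShape (Discrete ℤ) A]
    (hP : ∀ M, FlatObj B (P M)) (hN : ∀ X, PreservesColimitsOfShape ℕ (B.obj X))
    (hZ : ∀ X, PreservesColimitsOfShape (Discrete ℤ) (B.obj X)) (h₀ : RFlat B s₀.K) :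
    RFlat B (resK P π G s₀) := by
  refine rflat_of_isColimit hN (colimit.isColimit (seq P π G s₀)) fun n => ?_
  change RFlat B (stage P π G s₀ n).K
  induction n with
  | zero => exact h₀
  | succ n ih => exact rflat_mappingCone _ (rflat_of_d_eq_zero B hZ _ (fun _ _ => rfl) fun _ => hP _) ih

/-- factorisation of a map from a K-flat complex through a K-flat resolution of its target -/
theorem exists_factorization [HasColimitsOfShape (Discrete ℤ) A] [HasExactColimitsOfShape (Discrete ℤ) A]
    [∀ X, Epi (π X)] (hP : ∀ M, FlatObj B (P M))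
    (hN : ∀ X, PreservesColimitsOfShape ℕ (B.obj X))
    (hZ : ∀ X, PreservesColimitsOfShape (Discrete ℤ) (B.obj X))
    {K₀ : CochainComplex A ℤ} (a : K₀ ⟶ G) (hK : RFlat B K₀) :
    ∃ (N : CochainComplex A ℤ) (b : K₀ ⟶ N) (c : N ⟶ G), RFlat B N ∧ QuasiIso c ∧ b ≫ c = a ∧
      ((∀ n, FlatObj B (K₀.X n)) → ∀ n, FlatObj B (N.X n)) :=
  ⟨resK P π G ⟨K₀, a⟩, resι P π G ⟨K₀, a⟩ 0, resQ P π G ⟨K₀, a⟩,
    rflat_resK B G ⟨K₀, a⟩ hP hN hZ hK, quasiIso_resQ P π G ⟨K₀, a⟩, ι_resQ P π G ⟨K₀, a⟩ 0,
    fun h => flatObj_resK_X B G ⟨K₀, a⟩ hP hN h⟩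

/-- existence of K-flat resolutions with flat terms, epimorphic in each degree -/
theorem exists_resolution [HasColimitsOfShape (Discrete ℤ) A] [HasExactColimitsOfShape (Discrete ℤ) A]
    [∀ X, Epi (π X)] (hP : ∀ M, FlatObj B (P M))
    (hN : ∀ X, PreservesColimitsOfShape ℕ (B.obj X))
    (hZ : ∀ X, PreservesColimitsOfShape (Discrete ℤ) (B.obj X)) :
    ∃ (K : CochainComplex A ℤ) (q : K ⟶ G),
      RFlat B K ∧ (∀ n, FlatObj B (K.X n)) ∧ QuasiIso q ∧ ∀ n, Epi (q.f n) := by
  let R : CochainComplex A ℤ := { X := fun j => P (G.X (j - 1)), d := fun _ _ => 0 }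
  let α : Cochain R G (-1) := Cochain.mk fun p q h =>
    π (G.X (p - 1)) ≫ (G.XIsoOfEq (show p - 1 = q by lia)).hom
  let β : R ⟶ G :=
    { f := fun j => π (G.X (j - 1)) ≫ G.d (j - 1) j
      comm' := fun i j _ => by simp [R] }
  let r : mappingCone (𝟙 R) ⟶ G := mappingCone.desc (𝟙 R) α β (by
    ext p
    rw [δ_v (-1) 0 (by lia) _ p p (by lia) (p - 1) (p + 1) (by lia) rfl, Cochain.ofHom_v]
    simp [α, β, R])
  let s₀ : Stage G := ⟨(single A (ComplexShape.up ℤ) 0).obj (0 : A), 0⟩
  have hz : IsZero s₀.K := Functor.map_isZero (single A (ComplexShape.up ℤ) 0) (Limits.isZero_zero A)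
  have h₀ : RFlat B s₀.K := rflat_of_isZero hz
  have h₀' : ∀ n, FlatObj B (s₀.K.X n) := fun n =>
    flatObj_of_isZero (Functor.map_isZero (eval A (ComplexShape.up ℤ) n) hz)
  have := quasiIso_resQ P π G s₀
  refine ⟨resK P π G s₀ ⊞ mappingCone (𝟙 R), biprod.desc (resQ P π G s₀) r,
    rflat_biprod (rflat_resK B G s₀ hP hN hZ h₀) (rflat_mappingCone_id R), fun n => ?_, ?_, fun n => ?_⟩
  · exact flatObj_of_iso (biprodXIso (resK P π G s₀) (mappingCone (𝟙 R)) n).symm
      (flatObj_biprod (flatObj_resK_X B G s₀ hP hN h₀' n) (flatObj_mappingCone_X _ (fun _ => hP _) (fun _ => hP _) n))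
  · have h0 : ∀ i, IsZero ((mappingCone (𝟙 R)).homology i) :=
      acyclic_iff_isZero.1 (mappingCone_acyclic (𝟙 R))
    have : QuasiIso (biprod.inl : resK P π G s₀ ⟶ resK P π G s₀ ⊞ mappingCone (𝟙 R)) :=
      quasiIso_f (S := ShortComplex.mk (biprod.inl : resK P π G s₀ ⟶ _) biprod.snd (by simp))
        (ShortComplex.Splitting.shortExact ⟨biprod.fst, biprod.inr, by simp, by simp, biprod.total⟩)
        (mappingCone_acyclic (𝟙 R))
    have : QuasiIso ((biprod.inl : resK P π G s₀ ⟶ _) ≫ biprod.desc (resQ P π G s₀) r) := by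
      rw [biprod.inl_desc]; infer_instance
    exact quasiIso_of_comp_left (biprod.inl : resK P π G s₀ ⟶ _) _
  · obtain ⟨j, rfl⟩ : ∃ j, j - 1 = n := ⟨n + 1, by lia⟩
    have e : ((mappingCone.inl (𝟙 R)).v j (j - 1) (by lia) ≫
        (biprod.inr : _ ⟶ resK P π G s₀ ⊞ mappingCone (𝟙 R)).f (j - 1)) ≫
          (biprod.desc (resQ P π G s₀) r).f (j - 1) = π (G.X (j - 1)) := by
      rw [Category.assoc, ← HomologicalComplex.comp_f, biprod.inr_desc, mappingCone.inl_v_desc_f]
      simp [α]
    exact epi_of_epi_fac e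

end Construction

end Groth.Agent.KFlat
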