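import Groth.Agent.KFlat.Exact
import Groth.Agent.KFlat.Resolution
import Groth.Agent.KFlat.Bounded
import Groth.Agent.ModSiteTensor.Colimit
import Groth.Prelude.Def_KFlatSite
import Mathlib.RingTheory.Flat.CategoryTheory
import Mathlib.Algebra.Category.ModuleCat.Presheaf.Generator

/-!
K-flat complexes on a ringed site: symmetry, exact colimits, enough flat modules, and the resulting
theorems (resolutions, bounded above flat, two out of three).
-/

set_option autoImplicit false
set_option linter.unusedSectionVars false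
universe u

namespace Groth.Agent.KFlat

open CategoryTheory Limits Opposite MonoidalCategory PresheafOfModules

variable {C : Type u} [SmallCategory C] {J : GrothendieckTopology C} (O : Sheaf J CommRingCat.{u})

/-- symmetry of the tensor product of modules -/
noncomputable def braid : ModSite.tensorBi O ≅ (ModSite.tensorBi O).flip :=
  NatIso.ofComponents
    (fun F => NatIso.ofComponents
      (fun G => (ModSite.sheafify O).mapIso (BraidedCategory.braiding
        (C := PresheafOfModules.{u} (O.obj ⋙ forget₂ CommRingCat.{u} RingCat.{u}))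
        ((SheafOfModules.forget (ModSite.ringSh O)).obj F) ((SheafOfModules.forget (ModSite.ringSh O)).obj G)))
      (fun {G G'} g => by
        refine ((ModSite.sheafify O).map_comp _ _).symm.trans
          (Eq.trans ?_ ((ModSite.sheafify O).map_comp _ _))
        exact congrArg _ (BraidedCategory.braiding_naturality_right
          (C := PresheafOfModules.{u} (O.obj ⋙ forget₂ CommRingCat.{u} RingCat.{u})) _ _)))
    (fun {F F'} f => by
      ext G : 2
      refine ((ModSite.sheafify O).map_comp _ _).symm.trans
        (Eq.trans ?_ ((ModSite.sheafify O).map_comp _ _))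
      exact congrArg _ (BraidedCategory.braiding_naturality_left
        (C := PresheafOfModules.{u} (O.obj ⋙ forget₂ CommRingCat.{u} RingCat.{u})) _ _))

lemma isGrothendieck : IsGrothendieckAbelian.{u} (ModSite.Mod O) :=
  ModSiteGro.isGrothendieckAbelian (ModSite.ringSh O)

lemma preservesColimits_left (F : ModSite.Mod O) :
    PreservesColimitsOfSize.{u, u} ((ModSite.tensorBi O).obj F) :=
  ModSiteTensor.preservesColimits_tensorBi_obj O F

lemma preservesColimits_nat (F : ModSite.Mod O) :
    PreservesColimitsOfShape ℕ ((ModSite.tensorBi O).obj F) :=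
  have := preservesColimits_left O F
  have : PreservesColimitsOfSize.{0, 0} ((ModSite.tensorBi O).obj F) :=
    preservesSmallestColimits_of_preservesColimits _
  inferInstance

lemma preservesColimits_discrete (I : Type) (F : ModSite.Mod O) :
    PreservesColimitsOfShape (Discrete I) ((ModSite.tensorBi O).obj F) :=
  have := preservesColimits_left O F
  have : PreservesColimitsOfSize.{0, 0} ((ModSite.tensorBi O).obj F) :=
    preservesSmallestColimits_of_preservesColimits _
  inferInstance

lemma preservesFiniteColimits_left (F : ModSite.Mod O) :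
    PreservesFiniteColimits ((ModSite.tensorBi O).obj F) :=
  have := preservesColimits_left O F
  have : PreservesColimitsOfSize.{0, 0} ((ModSite.tensorBi O).obj F) :=
    preservesSmallestColimits_of_preservesColimits _
  inferInstance

instance hasExactColimits_nat : HasExactColimitsOfShape ℕ (ModSite.Mod O) :=
  have := isGrothendieck O
  HasExactColimitsOfShape.of_domain_equivalence (C := ModSite.Mod O)
    (AsSmall.equiv (C := ℕ)).symm

instance hasExactColimits_discrete (I : Type) :
    HasExactColimitsOfShape (Discrete I) (ModSite.Mod O) :=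
  have := isGrothendieck O
  HasExactColimitsOfShape.of_domain_equivalence (C := ModSite.Mod O)
    (Discrete.equivalence Equiv.ulift.{u})

/-- bridge to the predicate of the generic theory -/
lemma rflat_iff (K : CochainComplex (ModSite.Mod O) ℤ) :
    RFlat (ModSite.tensorBi O) K ↔ ModSite.IsKFlat K :=
  ⟨fun h L hL => acyclic_iff_isZero.1 (h L (acyclic_iff_isZero.2 hL)),
   fun h L hL => acyclic_iff_isZero.2 (h L (acyclic_iff_isZero.1 hL))⟩

lemma flatObj_iff (F : ModSite.Mod O) : FlatObj (ModSite.tensorBi O) F ↔ ModSite.IsFlat F :=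
  ⟨fun h => ((((ModSite.tensorBi O).flip.obj F).exact_tfae.out 1 3 rfl rfl).1 h),
   fun h => haveI := h.1; haveI := h.2; flatObj_of_preserves⟩

/-- a presheaf of modules with flat sections is flat -/
lemma preservesFiniteLimits_tensorRight_of_flat {R : Cᵒᵖ ⥤ CommRingCat.{u}}
    (F : PresheafOfModules.{u} (R ⋙ forget₂ CommRingCat.{u} RingCat.{u}))
    (hF : ∀ X : Cᵒᵖ, Module.Flat (R.obj X) (F.obj X)) : PreservesFiniteLimits (tensorRight F) := by
  refine ⟨fun I _ _ => ⟨fun {D} => ⟨fun {c} hc =>
    ⟨evaluationJointlyReflectsLimits _ _ fun X => ?_⟩⟩⟩⟩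
  let M : ModuleCat.{u} (R.obj X) := F.obj X
  have hM : PreservesFiniteLimits (tensorRight M) :=
    ((Module.Flat.iff_preservesFiniteLimits_tensorRight M).1 (hF X))
  let ev : PresheafOfModules.{u} (R ⋙ forget₂ CommRingCat.{u} RingCat.{u}) ⥤ ModuleCat.{u} (R.obj X) :=
    PresheafOfModules.evaluation (R ⋙ forget₂ CommRingCat.{u} RingCat.{u}) X
  have hev : PreservesFiniteLimits ev :=
    inferInstanceAs (PreservesFiniteLimits
      (PresheafOfModules.evaluation (R ⋙ forget₂ CommRingCat.{u} RingCat.{u}) X))
  have := @comp_preservesFiniteLimits _ _ _ _ _ _ ev (tensorRight M) hev hM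
  exact isLimitOfPreserves (ev ⋙ tensorRight M) hc

/-- the sheafification of a presheaf of modules with flat sections is flat -/
lemma flatObj_sheafify (P : PresheafOfModules.{u} (O.obj ⋙ forget₂ CommRingCat.{u} RingCat.{u}))
    (hP : ∀ X : Cᵒᵖ, Module.Flat (O.obj.obj X) (P.obj X)) :
    FlatObj (ModSite.tensorBi O) ((ModSite.sheafify O).obj P) := by
  let L : PresheafOfModules.{u} (O.obj ⋙ forget₂ CommRingCat.{u} RingCat.{u}) ⥤ ModSite.Mod O :=
    ModSite.sheafify O
  let U : ModSite.Mod O ⥤ PresheafOfModules.{u} (O.obj ⋙ forget₂ CommRingCat.{u} RingCat.{u}) :=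
    SheafOfModules.forget (ModSite.ringSh O)
  have : PreservesFiniteLimits (tensorRight P) := preservesFiniteLimits_tensorRight_of_flat P hP
  have : PreservesFiniteLimits L := inferInstanceAs (PreservesFiniteLimits (ModSite.sheafify O))
  have : PreservesFiniteLimits U :=
    inferInstanceAs (PreservesFiniteLimits (SheafOfModules.forget (ModSite.ringSh O)))
  have hiso : ∀ G, IsIso (L.map (U.obj G ◁ ModSiteTensor.η O P)) := fun G =>
    @ModSiteTensor.isIso_sheafify_map_whiskerLeft _ _ _ _ _ _ (ModSiteTensor.η O P)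
      (ModSiteTensor.unit_locallyInjective O P) (ModSiteTensor.unit_locallySurjective O P) (U.obj G)
  let e : U ⋙ tensorRight P ⋙ L ≅ (ModSite.tensorBi O).flip.obj (L.obj P) :=
    NatIso.ofComponents (fun G => @asIso _ _ _ _ _ (hiso G)) (fun {G G'} g => by
      refine (L.map_comp _ _).symm.trans (Eq.trans ?_ (L.map_comp _ _))
      exact congrArg _ (whisker_exchange (U.map g) (ModSiteTensor.η O P)).symm)
  have h1 : PreservesFiniteLimits ((ModSite.tensorBi O).flip.obj (L.obj P)) :=
    preservesFiniteLimits_of_natIso e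
  have h2 : PreservesFiniteColimits ((ModSite.tensorBi O).flip.obj (L.obj P)) :=
    exact_flip_of_rightExact (braid O) (preservesFiniteColimits_left O) _
  exact flatObj_of_preserves

lemma flatObj_sheafify_free (S : Cᵒᵖ ⥤ Type u) :
    FlatObj (ModSite.tensorBi O)
      ((ModSite.sheafify O).obj ((PresheafOfModules.free _).obj S)) :=
  flatObj_sheafify O _ fun X => inferInstanceAs (Module.Flat (O.obj.obj X) (S.obj X →₀ (O.obj.obj X : Type u)))

/-- the canonical flat cover -/
noncomputable def cover (F : ModSite.Mod O) : ModSite.Mod O :=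
  (ModSite.sheafify O).obj ((SheafOfModules.forget (ModSite.ringSh O)).obj F).freeYonedaCoproduct

/-- the map from the canonical flat cover -/
noncomputable def coverπ (F : ModSite.Mod O) : cover O F ⟶ F :=
  (ModSite.sheafify O).map ((SheafOfModules.forget (ModSite.ringSh O)).obj F).fromFreeYonedaCoproduct ≫
    (PresheafOfModules.sheafificationAdjunction.{u} (R := ModSite.ringSh O)
      (𝟙 (ModSite.ringSh O).obj)).counit.app F

instance (F : ModSite.Mod O) : Epi (coverπ O F) := by
  let adj := PresheafOfModules.sheafificationAdjunction.{u} (R := ModSite.ringSh O)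
    (𝟙 (ModSite.ringSh O).obj)
  have h1 : Epi ((ModSite.sheafify O).map
      ((SheafOfModules.forget (ModSite.ringSh O)).obj F).fromFreeYonedaCoproduct) := by
    have : (ModSite.sheafify O).PreservesEpimorphisms :=
      Functor.preservesEpimorphisms_of_adjunction adj
    exact @Functor.map_epi _ _ _ _ _ this _ _ _ inferInstance
  have h2 : IsIso adj.counit := inferInstance
  have h3 : IsIso (adj.counit.app F) := inferInstance
  exact @epi_comp _ _ _ _ _ _ h1 _ (@IsIso.epi_of_iso _ _ _ _ _ h3)

lemma flatObj_cover (F : ModSite.Mod O) : FlatObj (ModSite.tensorBi O) (cover O F) := by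
  let adj := PresheafOfModules.sheafificationAdjunction.{u} (R := ModSite.ringSh O)
    (𝟙 (ModSite.ringSh O).obj)
  have := isGrothendieck O
  let M := (SheafOfModules.forget (ModSite.ringSh O)).obj F
  have hL : PreservesColimitsOfSize.{u, u} (ModSite.sheafify O) := adj.leftAdjoint_preservesColimits
  let c := (ModSite.sheafify O).mapCocone (Cofan.mk _ (Sigma.ι (Elements.freeYoneda (M := M))))
  have hc : IsColimit c :=
    @isColimitOfPreserves _ _ _ _ _ _ _ (ModSite.sheafify O) _
      (coproductIsCoproduct (Elements.freeYoneda (M := M))) (hL.preservesColimitsOfShape.preservesColimit)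
  exact flatObj_of_isColimit (B := ModSite.tensorBi O)
    (fun X => (preservesColimits_left O X).preservesColimitsOfShape) (c := c) hc
    fun j => flatObj_sheafify_free O (yoneda.obj j.as.1.unop)

lemma exists_flat_cover (M : ModSite.Mod O) :
    ∃ (F : ModSite.Mod O) (p : F ⟶ M), Epi p ∧ FlatObj (ModSite.tensorBi O) F :=
  ⟨cover O M, coverπ O M, inferInstance, flatObj_cover O M⟩

/-- K-flat resolutions on a ringed site -/
theorem exists_resolution_site (G : CochainComplex (ModSite.Mod O) ℤ) :
    ∃ (K : CochainComplex (ModSite.Mod O) ℤ) (q : K ⟶ G),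
      RFlat (ModSite.tensorBi O) K ∧ (∀ n, FlatObj (ModSite.tensorBi O) (K.X n)) ∧ QuasiIso q ∧
        ∀ n, Epi (q.f n) :=
  exists_resolution (ModSite.tensorBi O) G (π := coverπ O) (flatObj_cover O) (preservesColimits_nat O)
    (preservesColimits_discrete O ℤ)

lemma exists_resolution_site' (G : CochainComplex (ModSite.Mod O) ℤ) :
    ∃ (K : CochainComplex (ModSite.Mod O) ℤ) (q : K ⟶ G),
      RFlat (ModSite.tensorBi O) K ∧ QuasiIso q := by
  obtain ⟨K, q, h1, _, h3, _⟩ := exists_resolution_site O G
  exact ⟨K, q, h1, h3⟩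

/-- bounded above complexes of flat modules are K-flat -/
theorem rflat_of_bounded_above_site (K : CochainComplex (ModSite.Mod O) ℤ) (b : ℤ)
    (hb : K.IsStrictlyLE b) (hflat : ∀ n, FlatObj (ModSite.tensorBi O) (K.X n)) :
    RFlat (ModSite.tensorBi O) K :=
  rflat_of_bounded_above (ModSite.tensorBi O) (preservesColimits_nat O) b
    (fun n hn => K.isZero_of_isStrictlyLE b n hn) hflat

end Groth.Agent.KFlat

namespace Groth.Agent.KFlat

open CategoryTheory Limits

variable {C : Type u} [SmallCategory C] {J : GrothendieckTopology C} (O : Sheaf J CommRingCat.{u})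

/-- factorisation through a K-flat resolution -/
theorem exists_factorization_site {K L : CochainComplex (ModSite.Mod O) ℤ} (a : K ⟶ L)
    (hK : RFlat (ModSite.tensorBi O) K) :
    ∃ (N : CochainComplex (ModSite.Mod O) ℤ) (b : K ⟶ N) (c : N ⟶ L),
      RFlat (ModSite.tensorBi O) N ∧ QuasiIso c ∧ b ≫ c = a ∧
      ((∀ n, FlatObj (ModSite.tensorBi O) (K.X n)) → ∀ n, FlatObj (ModSite.tensorBi O) (N.X n)) :=
  exists_factorization (ModSite.tensorBi O) L (π := coverπ O) (flatObj_cover O) (preservesColimits_nat O)
    (preservesColimits_discrete O ℤ) a hK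

theorem two_out_of_three_site (S : ShortComplex (CochainComplex (ModSite.Mod O) ℤ)) (hS : S.ShortExact)
    (h₃ : ∀ n, FlatObj (ModSite.tensorBi O) (S.X₃.X n)) :
    (RFlat (ModSite.tensorBi O) S.X₁ → RFlat (ModSite.tensorBi O) S.X₂ → RFlat (ModSite.tensorBi O) S.X₃) ∧
    (RFlat (ModSite.tensorBi O) S.X₁ → RFlat (ModSite.tensorBi O) S.X₃ → RFlat (ModSite.tensorBi O) S.X₂) ∧
    (RFlat (ModSite.tensorBi O) S.X₂ → RFlat (ModSite.tensorBi O) S.X₃ → RFlat (ModSite.tensorBi O) S.X₁) :=
  rflat_two_out_of_three (braid O) (preservesFiniteColimits_left O) (exists_flat_cover O) hS h₃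

theorem quasiIso_obj_map_site {P Q : CochainComplex (ModSite.Mod O) ℤ} (α : P ⟶ Q) [QuasiIso α]
    (hP : RFlat (ModSite.tensorBi O) P) (hQ : RFlat (ModSite.tensorBi O) Q)
    (F : CochainComplex (ModSite.Mod O) ℤ) :
    QuasiIso (((tens (ModSite.tensorBi O)).obj F).map α) :=
  quasiIso_obj_map_of_rflat (braid O) (exists_resolution_site' O) α hP hQ F

end Groth.Agent.KFlat

namespace Groth.Agent.KFlat

open CategoryTheory Limits

variable {C : Type u} [SmallCategory C] {J : GrothendieckTopology C} (O : Sheaf J CommRingCat.{u})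

theorem isFlat_two_out_of_three_site {S : ShortComplex (ModSite.Mod O)} (hS : S.ShortExact)
    (h₀ : ModSite.IsFlat S.X₃) :
    (ModSite.IsFlat S.X₁ → ModSite.IsFlat S.X₂) ∧ (ModSite.IsFlat S.X₂ → ModSite.IsFlat S.X₁) := by
  simp only [← flatObj_iff O] at h₀ ⊢
  exact flatObj_two_out_of_three (braid O) (preservesFiniteColimits_left O) (exists_flat_cover O) hS h₀

theorem isFlat_sigma_site {ι : Type u} (F : ι → ModSite.Mod O) (hF : ∀ i, ModSite.IsFlat (F i)) :
    ModSite.IsFlat (∐ F) := by
  have := isGrothendieck O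
  rw [← flatObj_iff O]
  exact flatObj_of_isColimit (fun X => (preservesColimits_left O X).preservesColimitsOfShape)
    (coproductIsCoproduct F) fun j => (flatObj_iff O _).2 (hF j.as)

theorem rflat₂_cone {K₁ K₂ : CochainComplex (ModSite.Mod O) ℤ} (φ : K₁ ⟶ K₂)
    (h₁ : RFlat (ModSite.tensorBi O) K₁)
    (h₃ : RFlat (ModSite.tensorBi O) (CochainComplex.mappingCone φ)) : RFlat (ModSite.tensorBi O) K₂ :=
  rflat₁ (S := coneSC φ) (coneSplitting φ) h₃ (rflat_shift h₁ 1)

theorem rflat₁_cone {K₁ K₂ : CochainComplex (ModSite.Mod O) ℤ} (φ : K₁ ⟶ K₂)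
    (h₂ : RFlat (ModSite.tensorBi O) K₂)
    (h₃ : RFlat (ModSite.tensorBi O) (CochainComplex.mappingCone φ)) : RFlat (ModSite.tensorBi O) K₁ := by
  have h := rflat₃ (S := coneSC φ) (coneSplitting φ) h₂ h₃
  exact rflat_of_iso ((shiftEquiv _ (1 : ℤ)).unitIso.app K₁).symm (rflat_shift h (-1))

end Groth.Agent.KFlat
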