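import Groth.Agent.KFlat.Skyscraper

/-!
K-flat complexes on schemes: stalkwise criterion for acyclicity, universal acyclicity, stalks of pullbacks.
-/

set_option autoImplicit false
universe u

namespace Groth.Agent.KFlat

open CategoryTheory Limits Opposite TopologicalSpace MonoidalCategory AlgebraicGeometry HomologicalComplex

variable {X Y : Scheme.{u}}

/-- the complex of stalks -/
noncomputable abbrev stCx (x : X) :
    CochainComplex X.Modules ℤ ⥤ CochainComplex (ModuleCat.{u} (X.presheaf.stalk x)) ℤ :=
  (DerSch.stalkFunctor X x).mapHomologicalComplex (ComplexShape.up ℤ)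

instance stalk_preservesHomology (x : X) : (DerSch.stalkFunctor X x).PreservesHomology where

/-- a module with zero stalks is zero -/
lemma isZero_of_stalks (M : X.Modules) (h : ∀ x : X, IsZero ((DerSch.stalkFunctor X x).obj M)) : IsZero M := by
  rw [IsZero.iff_id_eq_zero]
  refine (SheafOfModules.toSheaf.{u} X.ringCatSheaf).map_injective ?_
  have hz : IsZero ((SheafOfModules.toSheaf.{u} X.ringCatSheaf).obj M) :=
    (TopCat.Sheaf.isZero_iff_stalkFunctor_obj_isZero _).2 fun x =>
      (forget₂ (ModuleCat.{u} _) AddCommGrpCat.{u}).map_isZero (h x)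
  exact hz.eq_of_src _ _

/-- acyclicity is checked on stalks -/
lemma acyclic_iff_stalks (K : CochainComplex X.Modules ℤ) : K.Acyclic ↔ ∀ x : X, ((stCx x).obj K).Acyclic := by
  constructor
  · intro h x i
    rw [exactAt_iff]
    exact (h i).map (DerSch.stalkFunctor X x)
  · intro h i
    rw [exactAt_iff_isZero_homology]
    refine isZero_of_stalks _ fun x => ?_
    exact ((exactAt_iff_isZero_homology _ _).1 (h x i)).of_iso
      ((K.sc i).mapHomologyIso (DerSch.stalkFunctor X x)).symm

section Generic

variable {A : Type*} [Category* A] [Abelian A] (B : A ⥤ A ⥤ A) [B.Additive] [∀ X, (B.obj X).Additive]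
  [∀ K L : CochainComplex A ℤ, HomologicalComplex.HasMapBifunctor K L B (ComplexShape.up ℤ)]

/-- tensoring with an object in degree zero is tensoring termwise -/
noncomputable def tensSingleIso (L : CochainComplex A ℤ) (F : A) :
    ((B.flip.obj F).mapHomologicalComplex (ComplexShape.up ℤ)).obj L ≅
      ((tens B).obj L).obj ((single A (ComplexShape.up ℤ) 0).obj F) :=
  Hom.isoOfComponents (fun n => singleXIso B L F 0 n n (add_zero n)) fun i j (h : i + 1 = j) => by
    subst h
    exact singleXIso_comm' B L F 0 i i (i + 1) (add_zero i) (add_zero (i + 1))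

lemma acyclic_map_flip_of_acyclic_rflat (e : B ≅ B.flip)
    (hres : ∀ F : CochainComplex A ℤ, ∃ (F' : CochainComplex A ℤ) (q : F' ⟶ F), RFlat B F' ∧ QuasiIso q)
    {K : CochainComplex A ℤ} (hK : RFlat B K) (hK' : K.Acyclic) (F : A) :
    (((B.flip.obj F).mapHomologicalComplex (ComplexShape.up ℤ)).obj K).Acyclic :=
  acyclic_of_iso (tensSingleIso B K F).symm
    (acyclic_of_iso (swapIso e _ K) (acyclic_tens_of_acyclic_rflat e hres hK hK' _))

end Generic

/-- an acyclic K-flat complex stays acyclic when tensored with any module -/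
lemma acyclic_tensorRight_sch {K : CochainComplex X.Modules ℤ} (hK : DCoh.IsKFlat K) (hK' : K.Acyclic)
    (F : X.Modules) : ((((schB X).flip.obj F)).mapHomologicalComplex (ComplexShape.up ℤ)).obj K |>.Acyclic := by
  have e : schB X ≅ (schB X).flip := braid X.sheaf
  have hres : ∀ G : CochainComplex X.Modules ℤ, ∃ (G' : CochainComplex X.Modules ℤ) (q : G' ⟶ G),
      RFlat (schB X) G' ∧ QuasiIso q := exists_resolution_site' X.sheaf
  exact acyclic_map_flip_of_acyclic_rflat (schB X) e hres ((rflat_iff_sch K).1 hK) hK' F

/-- stalks of a tensor product with a fixed module, naturally -/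
noncomputable def stTensorRightIso (F : X.Modules) (x : X) :
    DerSch.stalkFunctor X x ⋙ tensorRight ((DerSch.stalkFunctor X x).obj F) ≅
      (schB X).flip.obj F ⋙ DerSch.stalkFunctor X x :=
  NatIso.ofComponents (fun G => stTensorIso G F x) fun f => stTensorIso_natural_left f F x

/-- the stalks of an acyclic K-flat complex are universally acyclic -/
lemma acyclic_stalk_tensor {K : CochainComplex X.Modules ℤ} (hK : DCoh.IsKFlat K) (hK' : K.Acyclic) (x : X)
    (M : ModuleCat.{u} (X.presheaf.stalk x)) :
    (((tensorRight M).mapHomologicalComplex (ComplexShape.up ℤ)).obj ((stCx x).obj K)).Acyclic := by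
  have h := (acyclic_iff_stalks _).1 (acyclic_tensorRight_sch hK hK' ((sky x).obj M)) x
  have e : DerSch.stalkFunctor X x ⋙ tensorRight M ≅ (schB X).flip.obj ((sky x).obj M) ⋙ DerSch.stalkFunctor X x :=
    Functor.isoWhiskerLeft _ ((tensoringRight _).mapIso (skyStalkIso x M)).symm ≪≫ stTensorRightIso _ x
  exact acyclic_of_iso (Hom.isoOfComponents (fun n => e.app (K.X n))
    fun i j _ => (e.hom.naturality (K.d i j)).symm).symm h

section PullStalk

variable (f : X ⟶ Y) (x : X)

/-- sections of pushforwards of skyscrapers -/
noncomputable def skyPushIso (M : ModuleCat.{u} (X.presheaf.stalk x)) :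
    (sky (f.base x)).obj ((ModuleCat.restrictScalars (f.stalkMap x).hom).obj M) ≅
      (Scheme.Modules.pushforward f).obj ((sky x).obj M) :=
  (SheafOfModules.fullyFaithfulForget _).preimageIso
    { hom := PresheafOfModules.homMk
        { app := fun U => AddCommGrpCat.ofHom
            { toFun := fun g h => g ⟨h.down⟩, map_zero' := rfl, map_add' := fun _ _ => rfl }
          naturality := fun _ _ _ => rfl }
        fun U r g => funext fun h => congrArg (· • (show M from g ⟨h.down⟩))
          (Scheme.Hom.germ_stalkMap_apply f U.unop x h.down r)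
      inv := PresheafOfModules.homMk
        { app := fun U => AddCommGrpCat.ofHom
            { toFun := fun g h => g ⟨h.down⟩, map_zero' := rfl, map_add' := fun _ _ => rfl }
          naturality := fun _ _ _ => rfl }
        fun U r g => funext fun h => (congrArg (· • (show M from g ⟨h.down⟩))
          (Scheme.Hom.germ_stalkMap_apply f U.unop x h.down r)).symm
      hom_inv_id := by
        apply PresheafOfModules.hom_ext
        intro U
        rfl
      inv_hom_id := by
        apply PresheafOfModules.hom_ext
        intro U
        rfl }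

/-- pushforward of skyscrapers, natural -/
noncomputable def skyPushNatIso :
    ModuleCat.restrictScalars (f.stalkMap x).hom ⋙ sky (f.base x) ≅
      sky x ⋙ Scheme.Modules.pushforward f :=
  NatIso.ofComponents (skyPushIso f x) fun g => by
    apply SheafOfModules.hom_ext
    apply PresheafOfModules.hom_ext
    intro U
    rfl

/-- stalks of pullbacks -/
noncomputable def pullStalkIso :
    Scheme.Modules.pullback f ⋙ DerSch.stalkFunctor X x ≅
      DerSch.stalkFunctor Y (f.base x) ⋙ ModuleCat.extendScalars.{u, u, u} (f.stalkMap x).hom :=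
  Adjunction.leftAdjointUniq
    (((Scheme.Modules.pullbackPushforwardAdjunction f).comp (skyAdjunction x)).ofNatIsoRight
      (skyPushNatIso f x).symm)
    ((skyAdjunction (f.base x)).comp (ModuleCat.extendRestrictScalarsAdj (f.stalkMap x).hom))

end PullStalk

/-- the pullback of an acyclic K-flat complex is acyclic -/
lemma acyclic_pullback (f : X ⟶ Y) {K : CochainComplex Y.Modules ℤ} (hK : DCoh.IsKFlat K) (hK' : K.Acyclic) :
    (((Scheme.Modules.pullback f).mapHomologicalComplex (ComplexShape.up ℤ)).obj K).Acyclic := by
  refine (acyclic_iff_stalks _).2 fun x => ?_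
  have E : (stCx x).obj (((Scheme.Modules.pullback f).mapHomologicalComplex (ComplexShape.up ℤ)).obj K) ≅
      ((ModuleCat.extendScalars.{u, u, u} (f.stalkMap x).hom).mapHomologicalComplex (ComplexShape.up ℤ)).obj
        ((stCx (f.base x)).obj K) :=
    Hom.isoOfComponents (fun n => (pullStalkIso f x).app (K.X n))
      fun i j _ => ((pullStalkIso f x).hom.naturality (K.d i j)).symm
  refine acyclic_of_iso E.symm ?_
  let φ := (f.stalkMap x).hom
  have h := acyclic_stalk_tensor hK hK' (f.base x)
    ((ModuleCat.restrictScalars φ).obj (ModuleCat.of _ (X.presheaf.stalk x)))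
  let e : tensorRight ((ModuleCat.restrictScalars φ).obj (ModuleCat.of _ (X.presheaf.stalk x))) ≅
      ModuleCat.extendScalars.{u, u, u} φ ⋙ ModuleCat.restrictScalars φ :=
    NatIso.ofComponents (fun N => BraidedCategory.braiding N _) (fun g => by
      apply ModuleCat.MonoidalCategory.tensor_ext
      intro a b
      rfl)
  intro i
  rw [exactAt_iff]
  refine (ShortComplex.exact_map_iff_of_faithful _ (ModuleCat.restrictScalars φ)).1 ?_
  exact (ShortComplex.exact_iff_of_iso
    ((((stCx (f.base x)).obj K).sc i).mapNatIso e)).1 (h i)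

end Groth.Agent.KFlat
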