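import Groth.Agent.KFlat.MapTens
import Groth.Agent.KFlat.Pullback
import Mathlib.Algebra.Homology.Monoidal
import Groth.Prelude.Def_KFlatSite

/-!
Stalks of total tensor products; K-flatness is stalkwise; pullbacks of K-flat complexes are K-flat.
-/

set_option autoImplicit false
universe u

namespace Groth.Agent.KFlat

open CategoryTheory Limits Opposite TopologicalSpace MonoidalCategory AlgebraicGeometry HomologicalComplex TensorProduct

section BaseChange

variable {R S : Type u} [CommRing R] [CommRing S] (φ : R →+* S)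

/-- `M ⊗_R N ≅ M ⊗_S (S ⊗_R N)` -/
noncomputable def projIso (M : ModuleCat.{u} S) (N : ModuleCat.{u} R) :
    (ModuleCat.restrictScalars φ).obj M ⊗ N ≅
      (ModuleCat.restrictScalars φ).obj (M ⊗ (ModuleCat.extendScalars.{u, u, u} φ).obj N) :=
  letI := φ.toAlgebra
  letI : Module R M := Module.compHom M φ
  haveI : IsScalarTower R S M := ⟨fun r s m => by
    change (φ r * s) • m = φ r • s • m
    rw [mul_smul]⟩
  let e := (AlgebraTensorModule.cancelBaseChange R S S M N).symm
  let E : ((ModuleCat.restrictScalars φ).obj M ⊗ N : ModuleCat.{u} R) ≃ₗ[R]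
      ((ModuleCat.restrictScalars φ).obj (M ⊗ (ModuleCat.extendScalars.{u, u, u} φ).obj N)) :=
    { toFun := fun x => e x
      invFun := fun y => e.symm y
      map_add' := fun a b => map_add e a b
      map_smul' := fun r x => (congrArg e (algebraMap_smul S r (show M ⊗[R] N from x)).symm).trans (e.map_smul (φ r) x)
      left_inv := fun x => e.symm_apply_apply x
      right_inv := fun y => e.apply_symm_apply y }
  LinearEquiv.toModuleIso E

lemma projIso_natural_left {M M' : ModuleCat.{u} S} (f : M ⟶ M') (N : ModuleCat.{u} R) :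
    ((ModuleCat.restrictScalars φ).map f ▷ N) ≫ (projIso φ M' N).hom =
      (projIso φ M N).hom ≫
        (ModuleCat.restrictScalars φ).map (f ▷ (ModuleCat.extendScalars.{u, u, u} φ).obj N) := by
  apply ModuleCat.MonoidalCategory.tensor_ext
  intro a b
  rfl

lemma projIso_natural_right (M : ModuleCat.{u} S) {N N' : ModuleCat.{u} R} (g : N ⟶ N') :
    ((ModuleCat.restrictScalars φ).obj M ◁ g) ≫ (projIso φ M N').hom =
      (projIso φ M N).hom ≫
        (ModuleCat.restrictScalars φ).map (M ◁ (ModuleCat.extendScalars.{u, u, u} φ).map g) := by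
  apply ModuleCat.MonoidalCategory.tensor_ext
  intro a b
  rfl

/-- base change of total tensor products -/
noncomputable def projTotIso (L : CochainComplex (ModuleCat.{u} S) ℤ) (K : CochainComplex (ModuleCat.{u} R) ℤ) :
    ((ModuleCat.restrictScalars φ).mapHomologicalComplex _).obj L ⊗ K ≅
      ((ModuleCat.restrictScalars φ).mapHomologicalComplex _).obj
        (L ⊗ ((ModuleCat.extendScalars.{u, u, u} φ).mapHomologicalComplex _).obj K) :=
  mapTensIso (ModuleCat.restrictScalars φ) (𝟭 _) (𝟭 _) (ModuleCat.extendScalars.{u, u, u} φ)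
    (ModuleCat.restrictScalars φ) (curriedTensor (ModuleCat.{u} S)) (curriedTensor (ModuleCat.{u} R))
    (projIso φ) (fun f N => projIso_natural_left φ f N) (fun M _ _ g => projIso_natural_right φ M g) L K

end BaseChange

variable {X Y : Scheme.{u}}

/-- stalks of total tensor products -/
noncomputable def stTotIso (x : X) (L K : CochainComplex X.Modules ℤ) :
    (stCx x).obj L ⊗ (stCx x).obj K ≅ (stCx x).obj ((DCoh.tensorCx.obj L).obj K) :=
  have : PreservesColimitsOfSize.{0, 0} (DerSch.stalkFunctor X x) :=
    preservesSmallestColimits_of_preservesColimits _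
  mapTensIso (DerSch.stalkFunctor X x) (DerSch.stalkFunctor X x) (𝟭 _) (𝟭 _) (DerSch.stalkFunctor X x)
    (schB X) (curriedTensor (ModuleCat.{u} (X.presheaf.stalk x))) (fun M N => stTensorIso M N x)
    (fun f N => stTensorIso_natural_left f N x)
    (fun M _ _ g => by
      have h := stTensorIso_natural (𝟙 M) g x
      simp only [CategoryTheory.Functor.map_id, id_tensorHom, NatTrans.id_app, Category.id_comp] at h
      exact h) L K

/-- the stalks of a skyscraper complex -/
noncomputable def skyCxIso (x : X) (M : CochainComplex (ModuleCat.{u} (X.presheaf.stalk x)) ℤ) :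
    (stCx x).obj (((sky x).mapHomologicalComplex (ComplexShape.up ℤ)).obj M) ≅ M :=
  Hom.isoOfComponents (fun n => (skyStalkNatIso x).app (M.X n))
    fun i j _ => ((skyStalkNatIso x).hom.naturality (M.d i j)).symm

/-- K-flatness is stalkwise -/
theorem isKFlat_iff_stalks (F : CochainComplex X.Modules ℤ) :
    DCoh.IsKFlat F ↔ ∀ x : X, DRing.IsKFlat (X.presheaf.stalk x) ((stCx x).obj F) := by
  constructor
  · intro hF x M hM
    have : (sky (X := X) x).PreservesHomology := {}
    have hsky : (((sky x).mapHomologicalComplex (ComplexShape.up ℤ)).obj M).Acyclic := fun i => by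
      rw [exactAt_iff]
      exact ((exactAt_iff_isZero_homology _ _).2 (hM i)).map (sky x)
    have h := (acyclic_iff_stalks _).1 (acyclic_iff_isZero.2 (hF _ (acyclic_iff_isZero.1 hsky))) x
    exact acyclic_iff_isZero.1 (acyclic_of_iso ((tensorIso (skyCxIso x M).symm (Iso.refl _)) ≪≫
      stTotIso x _ F).symm h)
  · intro hF L hL
    refine acyclic_iff_isZero.1 ((acyclic_iff_stalks _).2 fun x => ?_)
    exact acyclic_of_iso (stTotIso x L F) (acyclic_iff_isZero.2
      (hF x _ (acyclic_iff_isZero.1 ((acyclic_iff_stalks L).1 (acyclic_iff_isZero.2 hL) x))))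

/-- base change of ring-level K-flat complexes -/
lemma isKFlat_extendScalars {R S : Type u} [CommRing R] [CommRing S] (φ : R →+* S) {K : DRing.Cx R}
    (hK : DRing.IsKFlat R K) :
    DRing.IsKFlat S (((ModuleCat.extendScalars.{u, u, u} φ).mapHomologicalComplex _).obj K) := by
  intro M hM
  have hM' : (((ModuleCat.restrictScalars φ).mapHomologicalComplex (ComplexShape.up ℤ)).obj M).Acyclic :=
    fun i => by
      rw [exactAt_iff]
      exact ((exactAt_iff_isZero_homology _ _).2 (hM i)).map (ModuleCat.restrictScalars φ)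
  have h := acyclic_of_iso (projTotIso φ M K) (acyclic_iff_isZero.2 (hK _ (acyclic_iff_isZero.1 hM')))
  refine acyclic_iff_isZero.1 fun i => ?_
  rw [exactAt_iff]
  exact (ShortComplex.exact_map_iff_of_faithful _ (ModuleCat.restrictScalars φ)).1 (h i)

/-- pullbacks of K-flat complexes are K-flat -/
theorem isKFlat_pullback (f : X ⟶ Y) {K : CochainComplex Y.Modules ℤ} (hK : DCoh.IsKFlat K) :
    DCoh.IsKFlat (((Scheme.Modules.pullback f).mapHomologicalComplex (ComplexShape.up ℤ)).obj K) := by
  refine (isKFlat_iff_stalks _).2 fun x M hM => ?_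
  have E : (stCx x).obj (((Scheme.Modules.pullback f).mapHomologicalComplex (ComplexShape.up ℤ)).obj K) ≅
      ((ModuleCat.extendScalars.{u, u, u} (f.stalkMap x).hom).mapHomologicalComplex (ComplexShape.up ℤ)).obj
        ((stCx (f.base x)).obj K) :=
    Hom.isoOfComponents (fun n => (pullStalkIso f x).app (K.X n))
      fun i j _ => ((pullStalkIso f x).hom.naturality (K.d i j)).symm
  have h := isKFlat_extendScalars (f.stalkMap x).hom ((isKFlat_iff_stalks K).1 hK (f.base x)) M hM
  exact fun i => (h i).of_iso ((HomologicalComplex.homologyFunctor _ _ i).mapIso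
    (tensorIso (Iso.refl M) E))

end Groth.Agent.KFlat
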