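import Groth.Agent.KFlat.Absolute
import Groth.Agent.KFlat.StalkTot

/-!
The derived tensor product with a complex, computed on K-flat complexes.
-/

set_option autoImplicit false
set_option linter.unusedSectionVars false
universe u

namespace Groth.Agent.KFlat

open CategoryTheory Limits AlgebraicGeometry HomologicalComplex MonoidalCategory

attribute [local instance] HasDerivedCategory.standard

variable {X : Scheme.{u}}

/-- quasi-isomorphisms of K-flat complexes stay quasi-isomorphisms after any tensor product -/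
lemma quasiIso_map_app_of_kFlat {P Q : CochainComplex X.Modules ℤ} (α : P ⟶ Q) [QuasiIso α]
    (hP : DCoh.IsKFlat P) (hQ : DCoh.IsKFlat Q) (E : CochainComplex X.Modules ℤ) :
    QuasiIso ((DCoh.tensorCx.map α).app E) :=
  have hC : RFlat (schB X) (CochainComplex.mappingCone α) :=
    rflat_mappingCone α ((rflat_iff_sch P).1 hP) ((rflat_iff_sch Q).1 hQ)
  have e : schB X ≅ (schB X).flip := braid X.sheaf
  quasiIso_map_app_of_acyclic (B := schB X) α E
    (acyclic_of_iso (swapIso e E _) (acyclic_tens_of_acyclic_rflat e (exists_resolution_site' X.sheaf) hC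
      (mappingCone_acyclic α) E))

/-- tensor products of K-flat complexes are K-flat -/
theorem isKFlat_tensorCx {P L : CochainComplex X.Modules ℤ} (hP : DCoh.IsKFlat P) (hL : DCoh.IsKFlat L) :
    DCoh.IsKFlat ((DCoh.tensorCx.obj P).obj L) := by
  refine (isKFlat_iff_stalks _).2 fun x M hM i => ?_
  have h := (isKFlat_iff_stalks L).1 hL x _ ((isKFlat_iff_stalks P).1 hP x M hM) i
  exact h.of_iso ((HomologicalComplex.homologyFunctor _ _ i).mapIso
    (tensorIso (Iso.refl M) (stTotIso x P L).symm ≪≫ (α_ _ _ _).symm))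

/-- the resolutions deriving `- ⊗ E` -/
noncomputable def leftResTensorCx (E : CochainComplex X.Modules ℤ) :
    LeftRes (HomologicalComplex.quasiIso X.Modules (ComplexShape.up ℤ)) (DCoh.tensorCxQ E) DCoh.IsKFlat where
  ρ := resF X
  ψ := resψ X
  mem := isKFlat_resF
  weq G := quasiIso_resψ G
  isIso_map {K L} α hK hL hα := by
    have : QuasiIso α := hα
    have := quasiIso_map_app_of_kFlat α hK hL E
    exact inferInstanceAs (IsIso (DerivedCategory.Q.map ((DCoh.tensorCx.map α).app E)))

theorem hasLTensorCx (E : CochainComplex X.Modules ℤ) : DCoh.HasLTensorCx E :=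
  (leftResTensorCx E).hasLeftDerivedFunctor

/-- the counit of `- ⊗^L E` -/
noncomputable abbrev ltCounit (E : CochainComplex X.Modules ℤ) [DCoh.HasLTensorCx E] :
    DerivedCategory.Q ⋙ DCoh.LTensorCx E ⟶ DCoh.tensorCxQ E :=
  (DCoh.tensorCxQ E).totalLeftDerivedCounit DerivedCategory.Q
    (HomologicalComplex.quasiIso X.Modules (ComplexShape.up ℤ))

lemma isIso_ltCounit_app (E : CochainComplex X.Modules ℤ) [DCoh.HasLTensorCx E]
    {P : CochainComplex X.Modules ℤ} (hP : DCoh.IsKFlat P) : IsIso ((ltCounit E).app P) :=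
  (leftResTensorCx E).isIso_app (DCoh.LTensorCx E) (ltCounit E) hP

lemma isIso_ltCounit_app_of_kFlat {E : CochainComplex X.Modules ℤ} (hE : DCoh.IsKFlat E) [DCoh.HasLTensorCx E]
    (P : CochainComplex X.Modules ℤ) : IsIso ((ltCounit E).app P) := by
  have h1 := isIso_ltCounit_app E (isKFlat_resF P)
  have hq := quasiIso_map_app_sch E hE ((resψ X).app P)
  have h2 : IsIso ((DCoh.tensorCxQ E).map ((resψ X).app P)) :=
    inferInstanceAs (IsIso (DerivedCategory.Q.map ((DCoh.tensorCx.map ((resψ X).app P)).app E)))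
  have h3 : IsIso ((DerivedCategory.Q ⋙ DCoh.LTensorCx E).map ((resψ X).app P)) :=
    inferInstanceAs (IsIso ((DCoh.LTensorCx E).map (DerivedCategory.Q.map ((resψ X).app P))))
  have h := (ltCounit E).naturality ((resψ X).app P)
  have h4 : IsIso ((ltCounit E).app ((resF X).obj P) ≫ (DCoh.tensorCxQ E).map ((resψ X).app P)) :=
    IsIso.comp_isIso' h1 h2
  exact @IsIso.of_isIso_fac_left _ _ _ _ _ _ _ _ h3 h4 h

/-- `- ⊗^L E` at a K-flat complex -/
noncomputable def ltIso (E : CochainComplex X.Modules ℤ) [DCoh.HasLTensorCx E]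
    {P : CochainComplex X.Modules ℤ} (hP : DCoh.IsKFlat P) :
    (DCoh.LTensorCx E).obj (DerivedCategory.Q.obj P) ≅ DerivedCategory.Q.obj ((DCoh.tensorCx.obj P).obj E) :=
  @asIso _ _ _ _ ((ltCounit E).app P) (isIso_ltCounit_app E hP)

/-- `- ⊗^L E` for K-flat `E` -/
noncomputable def ltIsoOfKFlat {E : CochainComplex X.Modules ℤ} (hE : DCoh.IsKFlat E) [DCoh.HasLTensorCx E]
    (P : CochainComplex X.Modules ℤ) :
    (DCoh.LTensorCx E).obj (DerivedCategory.Q.obj P) ≅ DerivedCategory.Q.obj ((DCoh.tensorCx.obj P).obj E) :=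
  @asIso _ _ _ _ ((ltCounit E).app P) (isIso_ltCounit_app_of_kFlat hE P)

end Groth.Agent.KFlat
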