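import Groth.Agent.KFlat.Site
import Groth.Prelude.Def_DCoh4
import Groth.Prelude.Def_FlatMod2

/-!
K-flat complexes of modules on a scheme: bridge to the site-level theory.
-/

set_option autoImplicit false
universe u

namespace Groth.Agent.KFlat

open CategoryTheory Limits AlgebraicGeometry

attribute [local instance] HasDerivedCategory.standard

variable {X : Scheme.{u}}

/-- the tensor bifunctor of modules on a scheme -/
noncomputable abbrev schB (X : Scheme.{u}) : X.Modules ⥤ X.Modules ⥤ X.Modules := DCoh.tensorBi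

lemma rflat_iff_sch (K : CochainComplex X.Modules ℤ) : DCoh.IsKFlat K ↔ RFlat (schB X) K :=
  (rflat_iff (X.sheaf) K).symm

theorem quasiIso_map_app_sch (K : CochainComplex X.Modules ℤ) (hK : DCoh.IsKFlat K)
    {F G : CochainComplex X.Modules ℤ} (f : F ⟶ G) [QuasiIso f] :
    QuasiIso ((DCoh.tensorCx.map f).app K) :=
  ((rflat_iff_sch K).1 hK).quasiIso_map_app f

theorem quasiIso_obj_map_sch {P Q : CochainComplex X.Modules ℤ} (α : P ⟶ Q) [QuasiIso α]
    (hP : DCoh.IsKFlat P) (hQ : DCoh.IsKFlat Q) (F : CochainComplex X.Modules ℤ) :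
    QuasiIso ((DCoh.tensorCx.obj F).map α) :=
  @quasiIso_obj_map_site _ _ _ X.sheaf _ _ α ‹QuasiIso α› ((rflat_iff_sch P).1 hP) ((rflat_iff_sch Q).1 hQ) F

end Groth.Agent.KFlat
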