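import Groth.Agent.KFlat.StalkTensor
import Groth.Agent.KFlat.Scheme
import Groth.Prelude.Def_DerSch
import Mathlib.Topology.Sheaves.Abelian
import Mathlib.Topology.Sheaves.Sheafify
import Mathlib.Algebra.Category.ModuleCat.Presheaf.Submodule
import Mathlib.RingTheory.Flat.Tensor

/-!
Stalks of modules on a scheme: exactness, colimits, stalks of sheafifications, of tensor products.
-/

set_option autoImplicit false
universe u

namespace Groth.Agent.KFlat

open CategoryTheory Limits Opposite TopologicalSpace MonoidalCategory AlgebraicGeometry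

variable {X : Scheme.{u}}

instance toSheaf_preservesColimitsOfShape_sch (K : Type u) [SmallCategory K] :
    PreservesColimitsOfShape K (SheafOfModules.toSheaf.{u} X.ringCatSheaf) where
  preservesColimit {F} := by
    let R := X.ringCatSheaf
    let adj := PresheafOfModules.sheafificationAdjunction (R := R) (𝟙 R.obj)
    have : IsIso adj.counit := inferInstance
    let G := F ⋙ SheafOfModules.forget R ⋙ PresheafOfModules.restrictScalars (𝟙 R.obj)
    let e : G ⋙ PresheafOfModules.sheafification (R := R) (𝟙 R.obj) ≅ F :=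
      Functor.isoWhiskerLeft F (asIso adj.counit)
    have : PreservesColimitsOfShape K
        (PresheafOfModules.sheafification (R := R) (𝟙 R.obj) ⋙ SheafOfModules.toSheaf R) :=
      preservesColimitsOfShape_of_natIso
        (PresheafOfModules.sheafificationCompToSheaf (R := R) (𝟙 R.obj)).symm
    have : PreservesColimitsOfSize.{u, u} (PresheafOfModules.sheafification (R := R) (𝟙 R.obj)) := adj.leftAdjoint_preservesColimits
    have : PreservesColimit (G ⋙ PresheafOfModules.sheafification (R := R) (𝟙 R.obj))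
        (SheafOfModules.toSheaf.{u} R) := by
      refine preservesColimit_of_preserves_colimit_cocone
        (isColimitOfPreserves (PresheafOfModules.sheafification (R := R) (𝟙 R.obj))
          (colimit.isColimit G)) ?_
      exact isColimitOfPreserves
        (PresheafOfModules.sheafification (R := R) (𝟙 R.obj) ⋙ SheafOfModules.toSheaf R)
        (colimit.isColimit G)
    exact preservesColimit_of_iso_diagram _ e

/-- the stalk of the underlying abelian sheaf -/
noncomputable def abStalk (X : Scheme.{u}) (x : X) : X.Modules ⥤ AddCommGrpCat.{u} :=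
  SheafOfModules.toSheaf.{u} X.ringCatSheaf ⋙ TopCat.Sheaf.forget AddCommGrpCat.{u} X.toTopCat ⋙
    TopCat.Presheaf.stalkFunctor AddCommGrpCat.{u} x

/-- the stalk as modules, forgotten to abelian groups -/
noncomputable def stalkForgetIso (x : X) :
    DerSch.stalkFunctor X x ⋙ forget₂ (ModuleCat.{u} _) AddCommGrpCat.{u} ≅ abStalk X x :=
  NatIso.ofComponents (fun M => Iso.refl _) (fun f => by
    simp only [Iso.refl_hom]; rfl)

instance toSheaf_preservesFiniteColimits_sch :
    PreservesFiniteColimits (SheafOfModules.toSheaf.{u} X.ringCatSheaf) :=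
  have : PreservesColimitsOfSize.{u, u} (SheafOfModules.toSheaf.{u} X.ringCatSheaf) := ⟨fun {_} _ => inferInstance⟩
  have : PreservesColimitsOfSize.{0, 0} (SheafOfModules.toSheaf.{u} X.ringCatSheaf) :=
    preservesSmallestColimits_of_preservesColimits _
  inferInstance

lemma abStalk_preservesColimits (x : X) : PreservesColimitsOfSize.{u, u} (abStalk X x) := by
  have h1 : PreservesColimitsOfSize.{u, u} (SheafOfModules.toSheaf.{u} X.ringCatSheaf) := ⟨fun {_} _ => inferInstance⟩
  have h2 : PreservesColimitsOfSize.{u, u}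
      (TopCat.Sheaf.forget AddCommGrpCat.{u} X.toTopCat ⋙ TopCat.Presheaf.stalkFunctor AddCommGrpCat.{u} x) :=
    inferInstance
  exact @comp_preservesColimits _ _ _ _ _ _ (SheafOfModules.toSheaf.{u} X.ringCatSheaf) _ h1 h2

lemma abStalk_preservesFiniteLimits (x : X) : PreservesFiniteLimits (abStalk X x) :=
  have h2 : PreservesFiniteLimits
      (TopCat.Sheaf.forget AddCommGrpCat.{u} X.toTopCat ⋙ TopCat.Presheaf.stalkFunctor AddCommGrpCat.{u} x) :=
    inferInstance
  @comp_preservesFiniteLimits _ _ _ _ _ _ (SheafOfModules.toSheaf.{u} X.ringCatSheaf) _ inferInstance h2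

instance stalk_preservesColimits (x : X) :
    PreservesColimitsOfSize.{u, u} (DerSch.stalkFunctor X x) :=
  ⟨fun {K} _ => by
    have := abStalk_preservesColimits x
    have : PreservesColimitsOfShape K (DerSch.stalkFunctor X x ⋙ forget₂ (ModuleCat.{u} _) AddCommGrpCat) :=
      preservesColimitsOfShape_of_natIso (stalkForgetIso x).symm
    exact preservesColimitsOfShape_of_reflects_of_preserves (DerSch.stalkFunctor X x)
      (forget₂ (ModuleCat.{u} _) AddCommGrpCat)⟩

instance stalk_preservesFiniteColimits (x : X) : PreservesFiniteColimits (DerSch.stalkFunctor X x) :=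
  have : PreservesColimitsOfSize.{0, 0} (DerSch.stalkFunctor X x) :=
    preservesSmallestColimits_of_preservesColimits _
  inferInstance

instance stalk_preservesFiniteLimits (x : X) : PreservesFiniteLimits (DerSch.stalkFunctor X x) :=
  ⟨fun J _ _ => by
    have := abStalk_preservesFiniteLimits x
    have : PreservesLimitsOfShape J (DerSch.stalkFunctor X x ⋙ forget₂ (ModuleCat.{u} _) AddCommGrpCat) :=
      preservesLimitsOfShape_of_natIso (stalkForgetIso x).symm
    exact preservesLimitsOfShape_of_reflects_of_preserves (DerSch.stalkFunctor X x)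
      (forget₂ (ModuleCat.{u} _) AddCommGrpCat)⟩

end Groth.Agent.KFlat

namespace Groth.Agent.KFlat

open CategoryTheory Limits Opposite TopologicalSpace MonoidalCategory AlgebraicGeometry TensorProduct

variable {X : Scheme.{u}}

noncomputable instance pstalkModule (P : CohB1.PMod X) (x : X) : Module (X.presheaf.stalk x) (PStalk P x) :=
  inferInstanceAs (Module ↑(TopCat.Presheaf.stalk X.sheaf.obj x) (PStalk P x))

/-- stalk of tensor product, over the stalk of the structure presheaf -/
noncomputable def stEquiv (P N : CohB1.PMod X) (x : X) :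
    PStalk P x ⊗[X.presheaf.stalk x] PStalk N x ≃ₗ[X.presheaf.stalk x] PStalk (PT P N) x :=
  stalkTensorEquiv P N x

lemma stEquiv_tmul (P N : CohB1.PMod X) {x : X} {W : X.Opens} (hW : x ∈ W) (p : P.obj (op W)) (n : N.obj (op W)) :
    stEquiv P N x (pgerm P x W hW p ⊗ₜ pgerm N x W hW n) = pgerm (PT P N) x W hW (ptmul P N p n) :=
  toStalkTensor_tmul P N x hW p n

/-- the map induced on stalks of presheaves of modules -/
noncomputable def pstMap {P Q : CohB1.PMod X} (f : P ⟶ Q) (x : X) :
    PStalk P x →ₗ[X.presheaf.stalk x] PStalk Q x where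
  toFun := ((TopCat.Presheaf.stalkFunctor AddCommGrpCat.{u} x).map ((PresheafOfModules.toPresheaf _).map f)).hom
  map_add' := map_add _
  map_smul' r m := by
    obtain ⟨U, hU, r, rfl⟩ := TopCat.Presheaf.exists_germ_eq X.presheaf (x := x) r
    obtain ⟨V, hV, m, rfl⟩ := exists_pgerm P x m
    have hx : x ∈ U ⊓ V := mem_inf' x hU hV
    rw [← pgerm_res P x (show U ⊓ V ≤ V from inf_le_right) hx,
      ← TopCat.Presheaf.germ_res_apply X.presheaf (homOfLE (show U ⊓ V ≤ U from inf_le_left)) x hx r]
    erw [← pgerm_smul P x hx, TopCat.Presheaf.stalkFunctor_map_germ_apply,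
      TopCat.Presheaf.stalkFunctor_map_germ_apply]
    refine Eq.trans ?_ (pgerm_smul Q x hx _ _)
    exact congrArg _ ((f.app (op (U ⊓ V))).hom.map_smul _ _)

lemma pstMap_germ {P Q : CohB1.PMod X} (f : P ⟶ Q) (x : X) {U : X.Opens} (hU : x ∈ U)
    (s : P.obj (op U)) : pstMap f x (pgerm P x U hU s) = pgerm Q x U hU (f.app (op U) s) :=
  TopCat.Presheaf.stalkFunctor_map_germ_apply U x hU ((PresheafOfModules.toPresheaf _).map f) s

/-- stalks of presheaves of modules -/
noncomputable def pst (X : Scheme.{u}) (x : X) : CohB1.PMod X ⥤ ModuleCat.{u} (X.presheaf.stalk x) where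
  obj P := ModuleCat.of _ (PStalk P x)
  map f := ModuleCat.ofHom (pstMap f x)
  map_id P := by
    ext m
    obtain ⟨U, hU, s, rfl⟩ := exists_pgerm P x m
    exact pstMap_germ _ x hU s
  map_comp f g := by
    ext m
    obtain ⟨U, hU, s, rfl⟩ := exists_pgerm _ x m
    change pstMap (f ≫ g) x _ = pstMap g x (pstMap f x _)
    rw [pstMap_germ, pstMap_germ, pstMap_germ]
    rfl

/-- the stalk of a sheaf of modules is the stalk of the underlying presheaf -/
noncomputable def stalkPstIso (x : X) : DCoh.toP ⋙ pst X x ≅ DerSch.stalkFunctor X x :=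
  NatIso.ofComponents (fun M => LinearEquiv.toModuleIso
    { toFun := fun m => m, invFun := fun m => m, map_add' := fun _ _ => rfl, map_smul' := fun _ _ => rfl,
      left_inv := fun _ => rfl, right_inv := fun _ => rfl })
    (fun f => by ext m; rfl)

lemma stEquiv_natural {P P' N N' : CohB1.PMod X} (f : P ⟶ P') (g : N ⟶ N') (x : X)
    (z : PStalk P x ⊗[X.presheaf.stalk x] PStalk N x) :
    stEquiv P' N' x (TensorProduct.map (pstMap f x) (pstMap g x) z) =
      pstMap (f ⊗ₘ g) x (stEquiv P N x z) := by
  induction z using TensorProduct.induction_on with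
  | zero => simp only [map_zero]
  | tmul m n =>
    obtain ⟨U, hU, m, rfl⟩ := exists_pgerm P x m
    obtain ⟨V, hV, n, rfl⟩ := exists_pgerm N x n
    rw [← pgerm_res P x (show U ⊓ V ≤ U from inf_le_left) (mem_inf' x hU hV),
      ← pgerm_res N x (show U ⊓ V ≤ V from inf_le_right) (mem_inf' x hU hV),
      TensorProduct.map_tmul, pstMap_germ, pstMap_germ, stEquiv_tmul, stEquiv_tmul, pstMap_germ]
    rfl
  | add a b ha hb => simp only [map_add, ha, hb]

/-- the stalk of a tensor product of presheaves of modules -/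
noncomputable def pstTensorIso (P N : CohB1.PMod X) (x : X) :
    (pst X x).obj P ⊗ (pst X x).obj N ≅ (pst X x).obj (P ⊗ N) :=
  (stEquiv P N x).toModuleIso

lemma pstTensorIso_natural {P P' N N' : CohB1.PMod X} (f : P ⟶ P') (g : N ⟶ N') (x : X) :
    ((pst X x).map f ⊗ₘ (pst X x).map g) ≫ (pstTensorIso P' N' x).hom =
      (pstTensorIso P N x).hom ≫ (pst X x).map (f ⊗ₘ g) := by
  ext1
  exact LinearMap.ext fun z => stEquiv_natural f g x z

/-- the sheafification map is an isomorphism on stalks -/
lemma isIso_pst_unit (P : CohB1.PMod X) (x : X) :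
    IsIso ((pst X x).map ((PresheafOfModules.sheafificationAdjunction.{u} (R := X.ringCatSheaf)
      (𝟙 X.ringCatSheaf.obj)).unit.app P)) := by
  have h : IsIso ((TopCat.Presheaf.stalkFunctor AddCommGrpCat.{u} x).map
      (CategoryTheory.toSheafify (Opens.grothendieckTopology X.toTopCat) P.presheaf)) :=
    TopCat.Presheaf.stalkFunctor_map_unit_toSheafify_isIso x AddCommGrpCat.{u} P.presheaf
  exact @isIso_of_reflects_iso _ _ _ _ _ _ _ (forget₂ (ModuleCat.{u} _) AddCommGrpCat.{u}) h _

end Groth.Agent.KFlat

namespace Groth.Agent.KFlat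

open CategoryTheory Limits Opposite TopologicalSpace MonoidalCategory AlgebraicGeometry TensorProduct

variable {X : Scheme.{u}}

/-- the unit of sheafification of presheaves of modules -/
noncomputable def shUnit (P : CohB1.PMod X) : P ⟶ DCoh.toP.obj (DCoh.shP.obj P) :=
  (PresheafOfModules.sheafificationAdjunction.{u} (R := X.ringCatSheaf)
    (𝟙 X.ringCatSheaf.obj)).unit.app P

lemma shUnit_natural {P Q : CohB1.PMod X} (f : P ⟶ Q) :
    f ≫ shUnit Q = shUnit P ≫ DCoh.toP.map (DCoh.shP.map f) :=
  (PresheafOfModules.sheafificationAdjunction.{u} (R := X.ringCatSheaf)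
    (𝟙 X.ringCatSheaf.obj)).unit.naturality f

instance isIso_shUnit_stalk (P : CohB1.PMod X) (x : X) : IsIso ((pst X x).map (shUnit P)) :=
  isIso_pst_unit P x

/-- the stalk of a sheafification -/
noncomputable def stalkShIso (x : X) : pst X x ≅ DCoh.shP ⋙ DerSch.stalkFunctor X x :=
  NatIso.ofComponents
    (fun P => asIso ((pst X x).map (shUnit P)) ≪≫ (stalkPstIso x).app (DCoh.shP.obj P))
    fun {P Q} f => by
      have h := (stalkPstIso x).hom.naturality (DCoh.shP.map f)
      simp only [Functor.comp_map] at h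
      simp only [Iso.trans_hom, asIso_hom, Iso.app_hom, Category.assoc, Functor.comp_map]
      rw [← h, ← Functor.map_comp_assoc, shUnit_natural f, Functor.map_comp_assoc]

/-- the stalk of a tensor product of modules -/
noncomputable def stTensorIso (F G : X.Modules) (x : X) :
    (DerSch.stalkFunctor X x).obj F ⊗ (DerSch.stalkFunctor X x).obj G ≅
      (DerSch.stalkFunctor X x).obj (((schB X).obj F).obj G) :=
  (((stalkPstIso x).app F).symm ⊗ᵢ ((stalkPstIso x).app G).symm) ≪≫
    pstTensorIso (DCoh.toP.obj F) (DCoh.toP.obj G) x ≪≫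
      (stalkShIso x).app (DCoh.toP.obj F ⊗ DCoh.toP.obj G)

lemma stTensorIso_natural {F F' G G' : X.Modules} (f : F ⟶ F') (g : G ⟶ G') (x : X) :
    ((DerSch.stalkFunctor X x).map f ⊗ₘ (DerSch.stalkFunctor X x).map g) ≫ (stTensorIso F' G' x).hom =
      (stTensorIso F G x).hom ≫
        (DerSch.stalkFunctor X x).map (((schB X).map f).app G ≫ ((schB X).obj F').map g) := by
  have hf := (stalkPstIso x).inv.naturality f
  have hg := (stalkPstIso x).inv.naturality g
  simp only [Functor.comp_map] at hf hg
  have h1 := pstTensorIso_natural (DCoh.toP.map f) (DCoh.toP.map g) x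
  have h2 := (stalkShIso x).hom.naturality (DCoh.toP.map f ⊗ₘ DCoh.toP.map g)
  simp only [Functor.comp_map] at h2
  have h3 : ((schB X).map f).app G ≫ ((schB X).obj F').map g =
      DCoh.shP.map (DCoh.toP.map f ⊗ₘ DCoh.toP.map g) :=
    (DCoh.shP.map_comp _ _).symm.trans (congrArg _ (MonoidalCategory.tensorHom_def _ _).symm)
  rw [h3]
  simp only [stTensorIso, Iso.trans_hom, tensorIso_hom, Iso.symm_hom, Iso.app_inv, Category.assoc]
  rw [tensorHom_comp_tensorHom_assoc, hf, hg, ← tensorHom_comp_tensorHom_assoc]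
  exact congrArg (_ ≫ ·) (((reassoc_of% h1) _).trans
    ((congrArg (_ ≫ ·) h2).trans (Category.assoc _ _ _).symm))

lemma stTensorIso_natural_left {F F' : X.Modules} (f : F ⟶ F') (G : X.Modules) (x : X) :
    ((DerSch.stalkFunctor X x).map f ▷ (DerSch.stalkFunctor X x).obj G) ≫ (stTensorIso F' G x).hom =
      (stTensorIso F G x).hom ≫ (DerSch.stalkFunctor X x).map (((schB X).map f).app G) := by
  have h := stTensorIso_natural f (𝟙 G) x
  simp only [CategoryTheory.Functor.map_id, Category.comp_id, tensorHom_id] at h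
  exact h

/-- flat modules are flat for the tensor bifunctor -/
lemma flatObj_of_isFlat {F : X.Modules} (h : FlatMod.IsFlat F) : FlatObj (schB X) F :=
  have e : schB X ≅ (schB X).flip := braid X.sheaf
  have hl : ∀ G, PreservesFiniteColimits ((schB X).obj G) := preservesFiniteColimits_left X.sheaf
  flatObj_of_mono (fun G => exact_flip_of_rightExact e hl G) F
    fun M N f hf => by
      have : ∀ x : X, Mono ((DerSch.stalkFunctor X x).map (((schB X).map f).app F)) := fun x => by
        have hfl : Module.Flat (X.presheaf.stalk x) ((DerSch.stalkFunctor X x).obj F) := h x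
        have : (DerSch.stalkFunctor X x).PreservesMonomorphisms :=
          preservesMonomorphisms_of_preservesLimitsOfShape _
        have hfm : Mono ((DerSch.stalkFunctor X x).map f) := Functor.map_mono _ f
        have hm : Mono ((DerSch.stalkFunctor X x).map f ▷ (DerSch.stalkFunctor X x).obj F) :=
          (ModuleCat.mono_iff_injective _).2 (Module.Flat.rTensor_preserves_injective_linearMap _
            ((ModuleCat.mono_iff_injective _).1 hfm))
        have e := stTensorIso_natural_left f F x
        rw [← Iso.inv_comp_eq] at e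
        rw [← e]
        infer_instance
      have h2 : ∀ x : X, Mono ((TopCat.Presheaf.stalkFunctor AddCommGrpCat.{u} x).map
          ((SheafOfModules.toSheaf.{u} X.ringCatSheaf).map (((schB X).map f).app F)).hom) := fun x => by
        have := this x
        exact inferInstanceAs (Mono ((forget₂ (ModuleCat.{u} _) AddCommGrpCat.{u}).map
          ((DerSch.stalkFunctor X x).map (((schB X).map f).app F))))
      exact Functor.mono_of_mono_map (SheafOfModules.toSheaf.{u} X.ringCatSheaf)
        ((TopCat.Presheaf.mono_iff_stalk_mono _).2 h2)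

end Groth.Agent.KFlat

namespace Groth.Agent.KFlat

open CategoryTheory Limits Opposite TopologicalSpace MonoidalCategory AlgebraicGeometry TensorProduct

variable {X : Scheme.{u}}

variable (X) in
/-- the structure presheaf as a presheaf of modules -/
noncomputable abbrev pone : CohB1.PMod X := PresheafOfModules.unit _

/-- the germ of a section of the structure presheaf as a module -/
noncomputable def oneInv (x : X) : PStalk (pone X) x →+ X.presheaf.stalk x :=
  pDesc (pone X) x (fun U hU => AddMonoidHom.mk' (fun r : X.presheaf.obj (op U) => X.presheaf.germ U x hU r)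
      fun a b => map_add _ a b)
    fun _ _ h _ hV r => TopCat.Presheaf.germ_res_apply X.presheaf (homOfLE h) x hV r

/-- `r ↦ r • 1` on the stalk -/
noncomputable def oneMap (x : X) : X.presheaf.stalk x →ₗ[X.presheaf.stalk x] PStalk (pone X) x :=
  LinearMap.toSpanSingleton _ _ (pgerm (pone X) x ⊤ (by trivial) (1 : X.presheaf.obj (op ⊤)))

lemma oneMap_germ {x : X} {U : X.Opens} (hU : x ∈ U) (r : X.presheaf.obj (op U)) :
    oneMap x (X.presheaf.germ U x hU r) = pgerm (pone X) x U hU r := by
  change X.presheaf.germ U x hU r • pgerm (pone X) x ⊤ _ (1 : X.presheaf.obj (op ⊤)) = _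
  refine Eq.trans (congrArg (X.presheaf.germ U x hU r • ·)
    (pgerm_res (pone X) x (show U ≤ ⊤ from le_top) hU (1 : X.presheaf.obj (op ⊤))).symm) ?_
  refine (pgerm_smul (pone X) x hU r _).symm.trans (congrArg _ ?_)
  change r * X.presheaf.map _ (1 : X.presheaf.obj (op ⊤)) = r
  rw [map_one]
  exact mul_one r

lemma oneMap_bijective (x : X) : Function.Bijective (oneMap x) := by
  refine ⟨Function.LeftInverse.injective (g := oneInv x) fun r => ?_, fun m => ?_⟩
  · obtain ⟨U, hU, r, rfl⟩ := TopCat.Presheaf.exists_germ_eq X.presheaf (x := x) r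
    rw [oneMap_germ]
    exact pDesc_germ (pone X) x _ _ U hU r
  · obtain ⟨U, hU, s, rfl⟩ := exists_pgerm _ x m
    exact ⟨_, oneMap_germ hU s⟩

/-- the ideal presheaf generated by sections over an open, extended by zero -/
noncomputable def idealSub (U : X.Opens) {n : ℕ} (a : Fin n → X.presheaf.obj (op U)) :
    PresheafOfModules.Submodule (pone X) where
  obj V := Submodule.span _ {r : (pone X).obj V | ∃ (h : V.unop ≤ U) (i : Fin n),
    r = X.presheaf.map (homOfLE h).op (a i)}
  map {V W} f := Submodule.span_le.2 (by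
    rintro _ ⟨h, i, rfl⟩
    refine Submodule.subset_span ⟨f.unop.le.trans h, i, ?_⟩
    change X.presheaf.map f (X.presheaf.map _ (a i)) = _
    rw [← ConcreteCategory.comp_apply, ← Functor.map_comp]
    rfl)

lemma exists_stalk_generators (x : X) {n : ℕ} (s : Fin n → X.presheaf.stalk x) :
    ∃ (U : X.Opens) (hU : x ∈ U) (a : Fin n → X.presheaf.obj (op U)),
      ∀ i, X.presheaf.germ U x hU (a i) = s i := by
  choose U hU a ha using fun i => TopCat.Presheaf.exists_germ_eq X.presheaf (x := x) (s i)
  have hx : x ∈ Finset.univ.inf U :=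
    Finset.inf_induction (p := fun V : X.Opens => x ∈ V) trivial (fun _ h _ h' => ⟨h, h'⟩) fun i _ => hU i
  refine ⟨_, hx, fun i => X.presheaf.map (homOfLE (Finset.inf_le (Finset.mem_univ i))).op (a i), fun i => ?_⟩
  rw [TopCat.Presheaf.germ_res_apply]
  exact ha i

/-- modules flat for the tensor bifunctor are flat -/
lemma isFlat_of_flatObj {F : X.Modules} (h : FlatObj (schB X) F) : FlatMod.IsFlat F := fun x => by
  let Fx := (DerSch.stalkFunctor X x).obj F
  change Module.Flat (X.presheaf.stalk x) Fx
  have hlim : PreservesFiniteLimits ((schB X).flip.obj F) := ((flatObj_iff X.sheaf F).1 h).1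
  refine Module.Flat.iff_rTensor_injective.2 fun I hI => ?_
  obtain ⟨n, s, rfl⟩ := Submodule.fg_iff_exists_fin_generating_family.1 hI
  obtain ⟨U, hU, a, ha⟩ := exists_stalk_generators x s
  let N := idealSub U a
  -- tensoring the inclusion stays injective
  have hmono : Mono ((pst X x).map N.ι ▷ Fx) := by
    have : (DCoh.shP (X := X)).PreservesMonomorphisms := by
      have : PreservesFiniteLimits (DCoh.shP (X := X)) :=
        inferInstanceAs (PreservesFiniteLimits (PresheafOfModules.sheafification.{u, u, u, u}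
          (R := X.ringCatSheaf) (𝟙 X.ringCatSheaf.obj)))
      exact preservesMonomorphisms_of_preservesLimitsOfShape _
    have : ((schB X).flip.obj F).PreservesMonomorphisms := preservesMonomorphisms_of_preservesLimitsOfShape _
    have : (DerSch.stalkFunctor X x).PreservesMonomorphisms := preservesMonomorphisms_of_preservesLimitsOfShape _
    have h0 : Mono N.ι := inferInstance
    have h1 : Mono (DCoh.shP.map N.ι) := Functor.map_mono _ _
    have h2 : Mono (((schB X).map (DCoh.shP.map N.ι)).app F) := Functor.map_mono ((schB X).flip.obj F) _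
    have h3 : Mono ((DerSch.stalkFunctor X x).map (((schB X).map (DCoh.shP.map N.ι)).app F)) :=
      Functor.map_mono _ _
    have h4 : Mono ((DerSch.stalkFunctor X x).map (DCoh.shP.map N.ι) ▷ Fx) := by
      have e := stTensorIso_natural_left (DCoh.shP.map N.ι) F x
      rw [← Iso.eq_comp_inv] at e
      rw [e]
      infer_instance
    have h5 : (pst X x).map N.ι = (stalkShIso x).hom.app _ ≫
        (DerSch.stalkFunctor X x).map (DCoh.shP.map N.ι) ≫ (stalkShIso x).inv.app _ := by
      erw [← (stalkShIso x).hom.naturality_assoc, Iso.hom_inv_id_app, Category.comp_id]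
    rw [h5, comp_whiskerRight, comp_whiskerRight]
    infer_instance
  let e := LinearEquiv.ofBijective (oneMap x) (oneMap_bijective x)
  let ψ : PStalk N.toPresheafOfModules x →ₗ[X.presheaf.stalk x] X.presheaf.stalk x :=
    e.symm.toLinearMap.comp (pstMap N.ι x)
  have hψ : Function.Injective (ψ.rTensor Fx) := by
    rw [LinearMap.rTensor_comp, LinearMap.coe_comp]
    exact ((LinearEquiv.rTensor Fx e.symm).injective).comp ((ModuleCat.mono_iff_injective _).1 hmono)
  have hψ_germ : ∀ (V : X.Opens) (hV : x ∈ V) (r : N.obj (op V)),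
      ψ (pgerm _ x V hV r) = X.presheaf.germ V x hV r.1 := fun V hV r => by
    change e.symm (pstMap N.ι x (pgerm _ x V hV r)) = _
    rw [LinearEquiv.symm_apply_eq]
    exact (pstMap_germ N.ι x hV r).trans (oneMap_germ hV r.1).symm
  have hle : ∀ m, ψ m ∈ Submodule.span (X.presheaf.stalk x) (Set.range s) := fun m => by
    obtain ⟨V, hV, r, rfl⟩ := exists_pgerm _ x m
    suffices hr : X.presheaf.germ V x hV r.1 ∈ Submodule.span (X.presheaf.stalk x) (Set.range s) from
      (congrArg (· ∈ Submodule.span (X.presheaf.stalk x) (Set.range s)) (hψ_germ V hV r)).mpr hr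
    obtain ⟨r, hr⟩ := r
    change X.presheaf.germ V x hV r ∈ _
    refine Submodule.span_induction (p := fun (r : (pone X).obj (op V)) _ => X.presheaf.germ V x hV r ∈ _)
      ?_ ?_ ?_ ?_ hr
    · rintro _ ⟨hVU, i, rfl⟩
      rw [TopCat.Presheaf.germ_res_apply]
      exact Submodule.subset_span ⟨i, (ha i).symm⟩
    · exact (map_zero (X.presheaf.germ V x hV).hom).symm ▸ Submodule.zero_mem _
    · exact fun a b _ _ h h' => (map_add (X.presheaf.germ V x hV).hom a b).symm ▸ Submodule.add_mem _ h h'
    · exact fun c a _ h => (map_mul (X.presheaf.germ V x hV).hom c a).symm ▸ Submodule.smul_mem _ _ h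
  let ψ' := ψ.codRestrict _ hle
  have hsurj : Function.Surjective ψ' := by
    rw [← LinearMap.range_eq_top, eq_top_iff]
    have hr : Submodule.span _ (Set.range s) ≤ LinearMap.range ψ := Submodule.span_le.2 (by
      rintro _ ⟨i, rfl⟩
      refine ⟨pgerm N.toPresheafOfModules x U hU ⟨a i, Submodule.subset_span ⟨le_rfl, i, ?_⟩⟩,
        (hψ_germ U hU _).trans (ha i)⟩
      exact (ConcreteCategory.congr_hom (X.presheaf.map_id (op U)) (a i)).symm)
    rintro ⟨y, hy⟩ -
    obtain ⟨m, rfl⟩ := hr hy
    exact ⟨m, rfl⟩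
  intro z z' hzz'
  obtain ⟨w, rfl⟩ := LinearMap.rTensor_surjective Fx hsurj z
  obtain ⟨w', rfl⟩ := LinearMap.rTensor_surjective Fx hsurj z'
  rw [← LinearMap.rTensor_comp_apply, ← LinearMap.rTensor_comp_apply] at hzz'
  rw [hψ hzz']

lemma isFlat_iff_flatObj (F : X.Modules) : FlatMod.IsFlat F ↔ FlatObj (schB X) F :=
  ⟨flatObj_of_isFlat, isFlat_of_flatObj⟩

end Groth.Agent.KFlat

namespace Groth.Agent.KFlat

open CategoryTheory Limits AlgebraicGeometry

variable {X : Scheme.{u}}

theorem isKFlat_of_bounded_above_flat (K : CochainComplex X.Modules ℤ) (b : ℤ) (hb : K.IsStrictlyLE b)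
    (hflat : ∀ n : ℤ, FlatMod.IsFlat (K.X n)) : DCoh.IsKFlat K :=
  (rflat_iff_sch K).2 (rflat_of_bounded_above_site X.sheaf K b hb fun n => flatObj_of_isFlat (hflat n))

theorem exists_resolution_sch (G : CochainComplex X.Modules ℤ) :
    ∃ (K : CochainComplex X.Modules ℤ) (q : K ⟶ G),
      DCoh.IsKFlat K ∧ (∀ n : ℤ, FlatMod.IsFlat (K.X n)) ∧ QuasiIso q ∧ ∀ n : ℤ, Epi (q.f n) := by
  obtain ⟨K, q, h1, h2, h3, h4⟩ := exists_resolution_site X.sheaf G
  exact ⟨K, q, (rflat_iff_sch K).2 h1, fun n => isFlat_of_flatObj (h2 n), h3, h4⟩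

theorem exists_factorization_sch {K L : CochainComplex X.Modules ℤ} (a : K ⟶ L) (hK : DCoh.IsKFlat K) :
    ∃ (N : CochainComplex X.Modules ℤ) (b : K ⟶ N) (c : N ⟶ L), DCoh.IsKFlat N ∧ QuasiIso c ∧ b ≫ c = a ∧
      ((∀ n : ℤ, FlatMod.IsFlat (K.X n)) → ∀ n : ℤ, FlatMod.IsFlat (N.X n)) := by
  obtain ⟨N, b, c, h1, h2, h3, h4⟩ := exists_factorization_site X.sheaf a ((rflat_iff_sch K).1 hK)
  exact ⟨N, b, c, (rflat_iff_sch N).2 h1, h2, h3,
    fun h n => isFlat_of_flatObj (h4 (fun m => flatObj_of_isFlat (h m)) n)⟩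

theorem two_out_of_three_sch (S : ShortComplex (CochainComplex X.Modules ℤ)) (hS : S.ShortExact)
    (h3 : ∀ n : ℤ, FlatMod.IsFlat (S.X₃.X n)) :
    (DCoh.IsKFlat S.X₁ → DCoh.IsKFlat S.X₂ → DCoh.IsKFlat S.X₃) ∧
    (DCoh.IsKFlat S.X₁ → DCoh.IsKFlat S.X₃ → DCoh.IsKFlat S.X₂) ∧
    (DCoh.IsKFlat S.X₂ → DCoh.IsKFlat S.X₃ → DCoh.IsKFlat S.X₁) := by
  simp only [rflat_iff_sch]
  exact two_out_of_three_site X.sheaf S hS fun n => flatObj_of_isFlat (h3 n)

end Groth.Agent.KFlat
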