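import Mathlib.RingTheory.Flat.Basic
import Mathlib.LinearAlgebra.TensorProduct.RightExactness

/-!
A cokernel of a universally exact sequence into a flat module is flat.
-/

set_option autoImplicit false
universe u

namespace Groth.Agent.KFlat

open TensorProduct LinearMap

/-- if `A ⊗ M → B ⊗ M → C ⊗ M` is exact for all `M` and `C` is flat then `C/im g` is flat -/
theorem flat_quotient_range_of_exact_tensor {R A B C : Type u} [CommRing R] [AddCommGroup A]
    [AddCommGroup B] [AddCommGroup C] [Module R A] [Module R B] [Module R C] [Module.Flat R C]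
    (f : A →ₗ[R] B) (g : B →ₗ[R] C) (hfg : g ∘ₗ f = 0)
    (h : ∀ (M : Type u) [AddCommGroup M] [Module R M], Function.Exact (f.rTensor M) (g.rTensor M)) :
    Module.Flat R (C ⧸ LinearMap.range g) := by
  rw [Module.Flat.iff_lTensor_injectiveₛ]
  intro P _ _ N
  let _ : AddCommGroup P := Module.addCommMonoidToAddCommGroup R
  rw [injective_iff_map_eq_zero]
  intro z hz
  obtain ⟨w, rfl⟩ := rTensor_surjective N (Submodule.mkQ_surjective (LinearMap.range g)) z
  rw [← comp_apply, lTensor_comp_rTensor, ← rTensor_comp_lTensor, comp_apply] at hz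
  have hex : Function.Exact g (LinearMap.range g).mkQ := by
    intro x
    simp [Submodule.Quotient.mk_eq_zero]
  obtain ⟨u, hu⟩ := (rTensor_exact P hex (Submodule.mkQ_surjective _) _).1 hz
  let π : P →ₗ[R] P ⧸ N := N.mkQ
  have h0 : g.rTensor (P ⧸ N) (π.lTensor B u) = 0 := by
    rw [← comp_apply, rTensor_comp_lTensor, ← lTensor_comp_rTensor, comp_apply, hu, ← comp_apply,
      ← lTensor_comp, show π ∘ₗ N.subtype = 0 by ext x; simp [π], lTensor_zero, zero_apply]
  obtain ⟨v', hv'⟩ := (h (P ⧸ N) _).1 h0
  obtain ⟨v, rfl⟩ := lTensor_surjective A (Submodule.mkQ_surjective N) v'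
  have h1 : π.lTensor B (u - f.rTensor P v) = 0 := by
    rw [map_sub, sub_eq_zero, ← hv', ← comp_apply, rTensor_comp_lTensor, ← lTensor_comp_rTensor, comp_apply]
  have hexN : Function.Exact N.subtype π := LinearMap.exact_subtype_mkQ N
  obtain ⟨u', hu'⟩ := (lTensor_exact B hexN (Submodule.mkQ_surjective N) _).1 h1
  have hfg' : g.rTensor P (f.rTensor P v) = 0 := by
    rw [← comp_apply, ← rTensor_comp, hfg, rTensor_zero, zero_apply]
  have h2 : N.subtype.lTensor C (w - g.rTensor N u') = 0 := by
    rw [map_sub, sub_eq_zero, ← comp_apply (N.subtype.lTensor C), lTensor_comp_rTensor,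
      ← rTensor_comp_lTensor, comp_apply, hu', map_sub, hfg', sub_zero, hu]
  have h3 := Module.Flat.lTensor_preserves_injective_linearMap (M := C) N.subtype Subtype.val_injective
    (h2.trans (map_zero _).symm)
  rw [sub_eq_zero] at h3
  rw [h3, ← comp_apply, ← rTensor_comp, show (LinearMap.range g).mkQ ∘ₗ g = 0 by ext x; simp,
    rTensor_zero, zero_apply]

end Groth.Agent.KFlat
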