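import Groth.Agent.KFlat.SchemeStalk
import Mathlib.Algebra.Homology.Embedding.CochainComplex

/-!
Bounded above flat resolutions of bounded above complexes.
-/

set_option autoImplicit false
set_option linter.unusedSectionVars false
universe v u

namespace Groth.Agent.KFlat

open CategoryTheory Limits HomologicalComplex
open scoped ZeroObject

section Generic

variable {A : Type u} [Category.{v} A] [Abelian A] (B : A ⥤ A ⥤ A) [B.Additive] [∀ X, (B.obj X).Additive]
  [∀ K L : CochainComplex A ℤ, HomologicalComplex.HasMapBifunctor K L B (ComplexShape.up ℤ)]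

open Classical in
/-- a cover vanishing on zero objects -/
noncomputable def coverZ (P : A → A) (M : A) : A := if IsZero M then 0 else P M

open Classical in
/-- its map -/
noncomputable def coverZπ {P : A → A} (π : ∀ M, P M ⟶ M) (M : A) : coverZ P M ⟶ M :=
  if h : IsZero M then 0 else eqToHom (if_neg h) ≫ π M

lemma isZero_coverZ (P : A → A) {M : A} (h : IsZero M) : IsZero (coverZ P M) := by
  rw [coverZ, if_pos h]
  exact Limits.isZero_zero A

instance epi_coverZπ {P : A → A} (π : ∀ M, P M ⟶ M) [∀ M, Epi (π M)] (M : A) : Epi (coverZπ π M) := by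
  rw [coverZπ]
  split_ifs with h
  · exact ⟨fun a b _ => h.eq_of_src a b⟩
  · exact epi_comp' (f := eqToHom (if_neg h)) inferInstance inferInstance

lemma flatObj_coverZ {P : A → A} (hP : ∀ M, FlatObj B (P M)) (M : A) : FlatObj B (coverZ P M) := by
  unfold coverZ
  split_ifs with h
  · exact flatObj_of_isZero (Limits.isZero_zero A)
  · exact hP M

variable [HasColimitsOfShape ℕ A] [HasExactColimitsOfShape ℕ A] [HasColimitsOfShape (Discrete ℤ) A]
  [HasExactColimitsOfShape (Discrete ℤ) A]

/-- bounded above flat resolutions -/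
theorem exists_resolution_le {P : A → A} (π : ∀ M, P M ⟶ M) [∀ M, Epi (π M)] (hP : ∀ M, FlatObj B (P M))
    (hN : ∀ X, PreservesColimitsOfShape ℕ (B.obj X))
    (hZ : ∀ X, PreservesColimitsOfShape (Discrete ℤ) (B.obj X))
    (G : CochainComplex A ℤ) (b : ℤ) (hG : ∀ n, b < n → IsZero (G.X n)) :
    ∃ (K : CochainComplex A ℤ) (q : K ⟶ G), RFlat B K ∧ (∀ n, FlatObj B (K.X n)) ∧ QuasiIso q ∧
      ∀ n, b < n → IsZero (K.X n) := by
  let s₀ : Stage G := ⟨(single A (ComplexShape.up ℤ) 0).obj (0 : A), 0⟩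
  have hz : IsZero s₀.K := Functor.map_isZero (single A (ComplexShape.up ℤ) 0) (Limits.isZero_zero A)
  have hzn : ∀ n, IsZero (s₀.K.X n) := fun n => Functor.map_isZero (eval A (ComplexShape.up ℤ) n) hz
  refine ⟨resK (coverZ P) (coverZπ π) G s₀, resQ (coverZ P) (coverZπ π) G s₀,
    rflat_resK B G s₀ (flatObj_coverZ B hP) hN hZ (rflat_of_isZero hz),
    flatObj_resK_X B G s₀ (flatObj_coverZ B hP) hN (fun n => flatObj_of_isZero (hzn n)),
    quasiIso_resQ (coverZ P) (coverZπ π) G s₀, fun n hn => ?_⟩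
  rw [IsZero.iff_id_eq_zero]
  refine resK_hom_ext (coverZ P) (coverZπ π) G s₀ fun k => ?_
  have : IsZero ((stage (coverZ P) (coverZπ π) G s₀ k).K.X n) := by
    induction k generalizing n with
    | zero => exact hzn n
    | succ k ih =>
      rw [IsZero.iff_id_eq_zero]
      refine (CochainComplex.mappingCone.ext_from_iff _ (n + 1) n rfl _ _).2 ⟨?_, ?_⟩
      · refine IsZero.eq_of_src (isZero_coverZ P (IsZero.of_mono ((CochainComplex.mappingCone
          (stage (coverZ P) (coverZπ π) G s₀ k).q).iCycles (n + 1 - 1)) ?_)) _ _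
        rw [IsZero.iff_id_eq_zero]
        exact (CochainComplex.mappingCone.ext_from_iff _ (n + 1 - 1 + 1) (n + 1 - 1) rfl _ _).2
          ⟨(ih _ (by lia)).eq_of_src _ _, (hG _ (by lia)).eq_of_src _ _⟩
      · exact (ih n hn).eq_of_src _ _
  exact this.eq_of_src _ _

end Generic

section Site

variable {C : Type u} [SmallCategory C] {J : GrothendieckTopology C} (O : Sheaf J CommRingCat.{u})

/-- bounded above flat resolutions on a ringed site -/
theorem exists_resolution_le_site (G : CochainComplex (ModSite.Mod O) ℤ) (b : ℤ)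
    (hG : ∀ n, b < n → IsZero (G.X n)) :
    ∃ (K : CochainComplex (ModSite.Mod O) ℤ) (q : K ⟶ G), RFlat (ModSite.tensorBi O) K ∧
      (∀ n, FlatObj (ModSite.tensorBi O) (K.X n)) ∧ QuasiIso q ∧ ∀ n, b < n → IsZero (K.X n) :=
  exists_resolution_le (ModSite.tensorBi O) (coverπ O)
    (flatObj_cover O) (preservesColimits_nat O) (preservesColimits_discrete O ℤ) G b hG

end Site

open AlgebraicGeometry

/-- bounded above flat resolutions on a scheme -/
theorem exists_resolution_le_sch {X : Scheme.{u}} (G : CochainComplex X.Modules ℤ) (b : ℤ)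
    [G.IsStrictlyLE b] :
    ∃ (K : CochainComplex X.Modules ℤ) (q : K ⟶ G), DCoh.IsKFlat K ∧ (∀ n, FlatMod.IsFlat (K.X n)) ∧
      QuasiIso q ∧ K.IsStrictlyLE b := by
  obtain ⟨K, q, h1, h2, h3, h4⟩ := exists_resolution_le_site X.sheaf G b
    (fun n hn => G.isZero_of_isStrictlyLE b n hn)
  exact ⟨K, q, (rflat_iff_sch K).2 h1, fun n => isFlat_of_flatObj (h2 n), h3,
    (CochainComplex.isStrictlyLE_iff K b).2 h4⟩

end Groth.Agent.KFlat
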