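import Groth.Agent.KFlat.Resolution
import Mathlib.Algebra.Homology.Embedding.CochainComplex
import Mathlib.Algebra.Homology.Embedding.TruncLEHomology

/-!
Systems of bounded above resolutions by sums of given objects, with split transition maps
(`exists_system`), and their colimit.
-/

set_option autoImplicit false
set_option linter.unusedSectionVars false
set_option linter.style.haveILetI false
set_option backward.isDefEq.respectTransparency false
universe w v u

namespace Groth.Agent.KFlat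

open CategoryTheory Limits HomologicalComplex CochainComplex HomComplex
open scoped ZeroObject

variable {A : Type u} [Category.{v} A] [Abelian A] [HasCoproducts.{w} A]
variable {Idx : Type w} (T : Idx → A)

/-- isomorphic to a coproduct of members of the family -/
def IsSum (X : A) : Prop := ∃ (I : Type w) (U : I → Idx), Nonempty (X ≅ ∐ fun j => T (U j))

/-- a split mono whose cokernel is a sum of members of the family -/
def GoodMono {X Y : A} (f : X ⟶ Y) : Prop :=
  ∃ (Q : A) (e : Y ≅ X ⊞ Q), IsSum T Q ∧ f ≫ e.hom = biprod.inl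

variable {T}

lemma IsSum.of_iso {X Y : A} (h : IsSum T X) (e : X ≅ Y) : IsSum T Y := by
  obtain ⟨I, U, ⟨f⟩⟩ := h
  exact ⟨I, U, ⟨e.symm ≪≫ f⟩⟩

lemma isSum_of_isZero {X : A} (h : IsZero X) : IsSum T X := by
  refine ⟨PEmpty.{w+1}, PEmpty.elim, ⟨h.iso ?_⟩⟩
  exact (IsZero.iff_id_eq_zero _).2 (Sigma.hom_ext _ _ fun j => j.elim)

lemma isSum_sigma {I : Type w} (Q : I → A) (h : ∀ i, IsSum T (Q i)) : IsSum T (∐ Q) := by
  choose J U e using h
  exact ⟨Σ i, J i, fun p => U p.1 p.2,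
    ⟨Sigma.mapIso (fun i => (e i).some) ≪≫ sigmaSigmaIso J fun i j => T (U i j)⟩⟩

lemma isSum_biprod {X Y : A} (hX : IsSum T X) (hY : IsSum T Y) : IsSum T (X ⊞ Y) := by
  let Q : ULift.{w} Bool → A := fun b => Bool.casesOn b.down Y X
  refine (isSum_sigma Q fun b => ?_).of_iso (Y := X ⊞ Y) ?_
  · obtain ⟨_ | _⟩ := b
    · exact hY
    · exact hX
  · refine
      { hom := Sigma.desc fun b => match b with
          | ⟨false⟩ => (biprod.inr : Y ⟶ X ⊞ Y)
          | ⟨true⟩ => (biprod.inl : X ⟶ X ⊞ Y)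
        inv := biprod.desc (Sigma.ι Q ⟨true⟩) (Sigma.ι Q ⟨false⟩)
        hom_inv_id := ?_
        inv_hom_id := ?_ }
    · refine Sigma.hom_ext _ _ fun b => ?_
      obtain ⟨_ | _⟩ := b <;> simp [Q]
    · ext <;> simp [Q]

lemma GoodMono.isSum {X Y : A} {f : X ⟶ Y} (h : GoodMono T f) (hX : IsSum T X) : IsSum T Y := by
  obtain ⟨Q, e, hQ, -⟩ := h
  exact (isSum_biprod hX hQ).of_iso e.symm

lemma GoodMono.exists_retraction {X Y : A} {f : X ⟶ Y} (h : GoodMono T f) :
    ∃ r : Y ⟶ X, f ≫ r = 𝟙 _ ∧ IsSum T (cokernel f) := by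
  obtain ⟨Q, e, hQ, he⟩ := h
  refine ⟨e.hom ≫ biprod.fst, by rw [reassoc_of% he, biprod.inl_fst], hQ.of_iso ?_⟩
  refine
    { hom := biprod.inr ≫ e.inv ≫ cokernel.π f
      inv := cokernel.desc f (e.hom ≫ biprod.snd) (by rw [reassoc_of% he, biprod.inl_snd])
      hom_inv_id := by simp
      inv_hom_id := ?_ }
  rw [← cancel_epi (cokernel.π f), cokernel.π_desc_assoc, Category.comp_id, Category.assoc,
    ← cancel_epi e.inv, e.inv_hom_id_assoc]
  refine biprod.hom_ext' _ _ ?_ (by simp)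
  rw [biprod.inl_snd_assoc, zero_comp, ← Category.assoc biprod.inl, ← he]
  simp

lemma GoodMono.comp_inl {X Y C : A} {f : X ⟶ Y} (h : GoodMono T f) (hC : IsSum T C) {Z : A}
    (e' : Z ≅ Y ⊞ C) {g : X ⟶ Z} (hg : g ≫ e'.hom = f ≫ biprod.inl) : GoodMono T g := by
  obtain ⟨Q, e, hQ, he⟩ := h
  let a : Y ⊞ C ≅ X ⊞ (Q ⊞ C) :=
    { hom := biprod.desc (e.hom ≫ biprod.desc biprod.inl (biprod.inl ≫ biprod.inr))
        (biprod.inr ≫ biprod.inr)
      inv := biprod.desc (biprod.inl ≫ e.inv ≫ biprod.inl)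
        (biprod.desc (biprod.inr ≫ e.inv ≫ biprod.inl) biprod.inr)
      hom_inv_id := by
        refine biprod.hom_ext' _ _ ?_ (by simp)
        rw [biprod.inl_desc_assoc, Category.assoc, Category.comp_id, ← cancel_epi e.inv,
          e.inv_hom_id_assoc]
        refine biprod.hom_ext' _ _ ?_ ?_ <;> simp
      inv_hom_id := by
        refine biprod.hom_ext' _ _ ?_ (biprod.hom_ext' _ _ ?_ ?_) <;> simp }
  refine ⟨Q ⊞ C, e' ≪≫ a, isSum_biprod hQ hC, ?_⟩
  rw [Iso.trans_hom, reassoc_of% hg]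
  simp [a, reassoc_of% he]

/-- sequential colimit of split monos with given complements -/
lemma goodMono_of_seq (X Q : ℕ → A) (f : ∀ n, X n ⟶ X (n + 1)) (e : ∀ n, X (n + 1) ≅ Q n ⊞ X n)
    (he : ∀ n, f n ≫ (e n).hom = biprod.inr) (hQ : ∀ n, IsSum T (Q n))
    {Z : A} (ι : ∀ n, X n ⟶ Z) (hw : ∀ n, f n ≫ ι (n + 1) = ι n)
    (hext : ∀ {W : A} {a b : Z ⟶ W}, (∀ n, ι n ≫ a = ι n ≫ b) → a = b)
    (hdesc : ∀ {W : A} (t : ∀ n, X n ⟶ W), (∀ n, f n ≫ t (n + 1) = t n) →
      ∃ d : Z ⟶ W, ∀ n, ι n ≫ d = t n) : GoodMono T (ι 0) := by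
  let Q' : ULift.{w} ℕ → A := fun n => Q n.down
  let t : ∀ n, X n ⟶ X 0 ⊞ ∐ Q' := fun n => Nat.rec biprod.inl
    (fun n t => (e n).hom ≫ biprod.desc (Sigma.ι Q' ⟨n⟩ ≫ biprod.inr) t) n
  obtain ⟨d, hd⟩ := hdesc t fun n => by
    change f n ≫ (e n).hom ≫ _ = _
    rw [reassoc_of% (he n), biprod.inr_desc]
  let g : X 0 ⊞ ∐ Q' ⟶ Z :=
    biprod.desc (ι 0) (Sigma.desc fun n => biprod.inl ≫ (e n.down).inv ≫ ι (n.down + 1))
  have hg : ∀ n, t n ≫ g = ι n := by
    intro n
    induction n with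
    | zero => exact biprod.inl_desc _ _
    | succ n ih =>
      change ((e n).hom ≫ biprod.desc _ _) ≫ g = _
      rw [Category.assoc, ← cancel_epi (e n).inv, Iso.inv_hom_id_assoc]
      refine biprod.hom_ext' _ _ ?_ ?_
      · simp [g]
        rfl
      · rw [biprod.inr_desc_assoc, ih, ← hw n, ← he n, Category.assoc, Iso.hom_inv_id_assoc]
  refine ⟨∐ Q', ⟨d, g, hext fun n => by rw [reassoc_of% (hd n), hg, Category.comp_id], ?_⟩,
    isSum_sigma _ fun n => hQ n.down, hd 0⟩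
  refine biprod.hom_ext' _ _ ?_ (Sigma.hom_ext _ _ fun n => ?_)
  · simp only [g, biprod.inl_desc_assoc, Category.comp_id]
    exact hd 0
  · obtain ⟨n⟩ := n
    simp only [g, biprod.inr_desc_assoc, Sigma.ι_desc_assoc, Category.comp_id, Category.assoc]
    rw [hd (n + 1)]
    change biprod.inl ≫ (e n).inv ≫ (e n).hom ≫ _ = _
    rw [Iso.inv_hom_id_assoc, biprod.inl_desc]

section Step

variable [HasColimitsOfShape ℕ A] [HasExactColimitsOfShape ℕ A]

/-- bounded above -/
def BddAbv (K : CochainComplex A ℤ) : Prop := ∃ b : ℤ, ∀ i, b < i → IsZero (K.X i)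

/-- one step of the system: a resolution extending a stage -/
structure Res (T : Idx → A) {H : CochainComplex A ℤ} (s : Stage H) where
  /-- the complex -/
  N : CochainComplex A ℤ
  /-- the extension -/
  j : s.K ⟶ N
  /-- the map to the target -/
  p : N ⟶ H
  comm : j ≫ p = s.q
  qi : QuasiIso p
  epi : ∀ i, Epi (p.f i)
  bdd : BddAbv N
  good : ∀ i, GoodMono T (j.f i)

lemma isZero_cone_X {K L : CochainComplex A ℤ} (f : K ⟶ L) (i : ℤ) (hK : IsZero (K.X (i + 1)))
    (hL : IsZero (L.X i)) : IsZero ((mappingCone f).X i) :=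
  ((biprod_isZero_iff _ _).2 ⟨hK, hL⟩).of_iso (homotopyCofiber.XIsoBiprod f i (i + 1) rfl)

lemma inrX_XIsoBiprod {ι : Type} {c : ComplexShape ι} [DecidableRel c.Rel] {K L : HomologicalComplex A c}
    (f : K ⟶ L) (i j : ι) (hij : c.Rel i j) :
    homotopyCofiber.inrX f i ≫ (homotopyCofiber.XIsoBiprod f i j hij).hom = biprod.inr := by
  obtain rfl := c.next_eq' hij
  rw [homotopyCofiber.inrX, dif_pos hij, Category.assoc, Iso.inv_hom_id, Category.comp_id]

lemma nonempty_res (hcov : ∀ M : A, ∃ (P : A) (p : P ⟶ M), Epi p ∧ IsSum T P)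
    {H : CochainComplex A ℤ} (hH : BddAbv H) (s₀ : Stage H) (hs : BddAbv s₀.K) :
    Nonempty (Res T s₀) := by
  have hcov' : ∀ M : A, ∃ (P : A) (p : P ⟶ M), Epi p ∧ IsSum T P ∧ (IsZero M → IsZero P) := by
    intro M
    by_cases hM : IsZero M
    · exact ⟨M, 𝟙 M, inferInstance, isSum_of_isZero hM, fun h => h⟩
    · obtain ⟨P, p, hp, hP⟩ := hcov M
      exact ⟨P, p, hp, hP, fun h => absurd h hM⟩
  choose P π hπ hP hP₀ using hcov'
  haveI : ∀ X, Epi (π X) := hπ
  obtain ⟨b₁, hb₁⟩ := hH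
  obtain ⟨b₂, hb₂⟩ := hs
  let B : ℤ := max b₁ b₂
  have hHB : ∀ i, B < i → IsZero (H.X i) := fun i hi => hb₁ i (lt_of_le_of_lt (le_max_left _ _) hi)
  have hsp : ∀ s : Stage H, (∀ i, B < i → IsZero (s.K.X i)) →
      ∀ i, B < i → IsZero ((next P π s).K.X i) := by
    intro s hK i hi
    refine isZero_cone_X _ i (hP₀ _ ?_) (hK i hi)
    exact IsZero.of_mono ((mappingCone s.q).iCycles (i + 1 - 1))
      (isZero_cone_X _ _ (hK _ (by lia)) (hHB _ (by lia)))
  have hst : ∀ n i, B < i → IsZero ((stage P π H s₀ n).K.X i) := by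
    intro n
    induction n with
    | zero => exact fun i hi => hb₂ i (lt_of_le_of_lt (le_max_right _ _) hi)
    | succ n ih => exact hsp _ ih
  have hres : ∀ i, B < i → IsZero ((resK P π H s₀).X i) := fun i hi =>
    (IsZero.iff_id_eq_zero _).2 (resK_hom_ext P π H s₀ fun n => (hst n i hi).eq_of_src _ _)
  have hgood : ∀ i, GoodMono T ((resι P π H s₀ 0).f i) := by
    intro i
    refine goodMono_of_seq (fun n => (stage P π H s₀ n).K.X i)
      (fun n => (spheres P (stage P π H s₀ n)).X (i + 1))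
      (fun n => (step P π H s₀ n).f i)
      (fun n => homotopyCofiber.XIsoBiprod (attach P π (stage P π H s₀ n)) i (i + 1) rfl) (fun n => ?_) (fun n => hP _)
      (fun n => (resι P π H s₀ n).f i)
      (fun n => congrArg (fun g => HomologicalComplex.Hom.f g i) (resι_w P π H s₀ n))
      (fun h => resK_hom_ext P π H s₀ h) (fun t ht => resK_exists_desc P π H s₀ t ht)
    exact inrX_XIsoBiprod (attach P π (stage P π H s₀ n)) i (i + 1) rfl
  let R : CochainComplex A ℤ := { X := fun j => P (H.X (j - 1)), d := fun _ _ => 0 }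
  let α : Cochain R H (-1) := Cochain.mk fun p q h =>
    π (H.X (p - 1)) ≫ (H.XIsoOfEq (show p - 1 = q by lia)).hom
  let β : R ⟶ H :=
    { f := fun j => π (H.X (j - 1)) ≫ H.d (j - 1) j
      comm' := fun i j _ => by simp [R] }
  let r : mappingCone (𝟙 R) ⟶ H := mappingCone.desc (𝟙 R) α β (by
    ext p
    rw [δ_v (-1) 0 (by lia) _ p p (by lia) (p - 1) (p + 1) (by lia) rfl, Cochain.ofHom_v]
    simp [α, β, R])
  have hR : ∀ i, IsSum T ((mappingCone (𝟙 R)).X i) := fun i =>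
    (isSum_biprod (hP _) (hP _)).of_iso (homotopyCofiber.XIsoBiprod (𝟙 R) i (i + 1) rfl).symm
  have hR₀ : ∀ i, B + 1 < i → IsZero ((mappingCone (𝟙 R)).X i) := fun i hi =>
    isZero_cone_X _ i (hP₀ _ (hHB _ (by lia))) (hP₀ _ (hHB _ (by lia)))
  have := quasiIso_resQ P π H s₀
  refine ⟨⟨resK P π H s₀ ⊞ mappingCone (𝟙 R), resι P π H s₀ 0 ≫ biprod.inl,
    biprod.desc (resQ P π H s₀) r, ?_, ?_, fun n => ?_, ⟨B + 1, fun i hi => ?_⟩, fun i => ?_⟩⟩
  · rw [Category.assoc, biprod.inl_desc]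
    exact ι_resQ P π H s₀ 0
  · have : QuasiIso (biprod.inl : resK P π H s₀ ⟶ resK P π H s₀ ⊞ mappingCone (𝟙 R)) :=
      quasiIso_f (S := ShortComplex.mk (biprod.inl : resK P π H s₀ ⟶ _) biprod.snd (by simp))
        (ShortComplex.Splitting.shortExact ⟨biprod.fst, biprod.inr, by simp, by simp, biprod.total⟩)
        (mappingCone_acyclic (𝟙 R))
    have : QuasiIso ((biprod.inl : resK P π H s₀ ⟶ _) ≫ biprod.desc (resQ P π H s₀) r) := by
      rw [biprod.inl_desc]; infer_instance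
    exact quasiIso_of_comp_left (biprod.inl : resK P π H s₀ ⟶ _) _
  · obtain ⟨j, rfl⟩ : ∃ j, j - 1 = n := ⟨n + 1, by lia⟩
    have e : ((mappingCone.inl (𝟙 R)).v j (j - 1) (by lia) ≫
        (biprod.inr : _ ⟶ resK P π H s₀ ⊞ mappingCone (𝟙 R)).f (j - 1)) ≫
          (biprod.desc (resQ P π H s₀) r).f (j - 1) = π (H.X (j - 1)) := by
      rw [Category.assoc, ← HomologicalComplex.comp_f, biprod.inr_desc, mappingCone.inl_v_desc_f]
      simp [α]
    exact epi_of_epi_fac e
  · exact ((biprod_isZero_iff _ _).2 ⟨hres i (by lia), hR₀ i hi⟩).of_iso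
      (HomologicalComplex.biprodXIso (resK P π H s₀) (mappingCone (𝟙 R)) i)
  · refine (hgood i).comp_inl (hR i) (HomologicalComplex.biprodXIso _ _ i) ?_
    rw [HomologicalComplex.comp_f, Category.assoc]
    congr 1
    apply biprod.hom_ext <;> simp [← HomologicalComplex.comp_f]

lemma bddAbv_of_isStrictlyLE {K : CochainComplex A ℤ} (b : ℤ) [K.IsStrictlyLE b] : BddAbv K :=
  ⟨b, fun i hi => K.isZero_of_isStrictlyLE b i hi⟩

lemma quasiIso_g {S : ShortComplex (CochainComplex A ℤ)} (hS : S.ShortExact) (h₁ : S.X₁.Acyclic) :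
    QuasiIso S.g where
  quasiIsoAt k := by
    rw [quasiIsoAt_iff_isIso_homologyMap]
    have : Mono (homologyMap S.g k) :=
      (hS.homology_exact₂ k).mono_g ((acyclic_iff_isZero.1 h₁ _).eq_of_src _ _)
    have : Epi (homologyMap S.g k) :=
      (hS.homology_exact₃ k (k + 1) (by simp)).epi_f ((acyclic_iff_isZero.1 h₁ _).eq_of_tgt _ _)
    exact isIso_of_mono_of_epi _

lemma acyclic₁_of_quasiIso {S : ShortComplex (CochainComplex A ℤ)} (hS : S.ShortExact)
    [QuasiIso S.g] : S.X₁.Acyclic :=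
  acyclic_iff_isZero.2 fun i => (hS.homology_exact₁ (i - 1) i (by simp)).isZero_of_both_zeros
    ((cancel_epi (homologyMap S.g (i - 1))).1 (by rw [hS.comp_δ, comp_zero]))
    ((cancel_mono (homologyMap S.g i)).1 (by rw [← homologyMap_comp, S.zero, homologyMap_zero, zero_comp]))

section Colimit

variable (G : CochainComplex A ℤ) (H K : ℕ → CochainComplex A ℤ) (ι : ∀ n, H n ⟶ G)
  (j : ∀ n, K n ⟶ K (n + 1)) (π : ∀ n, K n ⟶ H n)

/-- the map from the colimit of epimorphic resolutions of an exhausting sequence is a quasi-iso -/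
lemma exists_colimit_quasiIso [∀ n, Mono (ι n)] (hι : ∀ i, ∃ n, Epi ((ι n).f i))
    (hw : ∀ n, j n ≫ π (n + 1) ≫ ι (n + 1) = π n ≫ ι n) (hq : ∀ n, QuasiIso (π n))
    (he : ∀ n i, Epi ((π n).f i)) :
    ∃ c : colimit (Functor.ofSequence j) ⟶ G,
      (∀ n, colimit.ι (Functor.ofSequence j) n ≫ c = π n ≫ ι n) ∧ QuasiIso c := by
  let F : ℕ ⥤ CochainComplex A ℤ := Functor.ofSequence j
  let φ : F ⟶ (Functor.const ℕ).obj G := NatTrans.ofSequence (fun n => π n ≫ ι n) fun n => by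
    refine Eq.trans ?_ (Category.comp_id _).symm
    erw [Functor.ofSequence_map_homOfLE_succ]
    exact hw n
  let c : colimit F ⟶ G := colimit.desc F ⟨G, φ⟩
  have hc : ∀ n, colimit.ι F n ≫ c = π n ≫ ι n := fun n => colimit.ι_desc _ _
  refine ⟨c, hc, ?_⟩
  let k : ∀ n, kernel (π n) ⟶ kernel (π (n + 1)) := fun n =>
    kernel.lift _ (kernel.ι (π n) ≫ j n) (by
      rw [← cancel_mono (ι (n + 1)), Category.assoc, Category.assoc, hw, kernel.condition_assoc,
        zero_comp, zero_comp])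
  let L : ℕ ⥤ CochainComplex A ℤ := Functor.ofSequence k
  let ψ : L ⟶ F := NatTrans.ofSequence (fun n => kernel.ι (π n)) fun n => by
    erw [Functor.ofSequence_map_homOfLE_succ, Functor.ofSequence_map_homOfLE_succ]
    exact kernel.lift_ι _ _ _
  have hψφ : ψ ≫ φ = 0 := by
    ext n : 2
    change kernel.ι (π n) ≫ π n ≫ ι n = 0
    rw [kernel.condition_assoc, zero_comp]
  let l : colimit L ⟶ colimit F := colimMap ψ
  have hlc : l ≫ c = 0 := colimit.hom_ext fun n => by
    rw [ι_colimMap_assoc, comp_zero, hc]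
    exact congr_app hψφ n
  haveI : ∀ n, Epi (π n) := fun n => HomologicalComplex.epi_of_epi_f _ (he n)
  have hS : ∀ n, (ShortComplex.mk (kernel.ι (π n)) (π n) (kernel.condition _)).ShortExact :=
    fun n => ShortComplex.ShortExact.mk' (ShortComplex.exact_kernel (π n)) inferInstance inferInstance
  have hac : (colimit L).Acyclic :=
    acyclic_of_isColimit (colimit.isColimit L) fun n =>
      haveI : QuasiIso (ShortComplex.mk (kernel.ι (π n)) (π n) (kernel.condition _)).g := hq n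
      acyclic₁_of_quasiIso (hS n)
  refine quasiIso_g (S := ShortComplex.mk l c hlc)
    (HomologicalComplex.shortExact_of_degreewise_shortExact _ fun i => ?_) hac
  let ev : CochainComplex A ℤ ⥤ A := eval A (ComplexShape.up ℤ) i
  let S : ShortComplex (ℕ ⥤ A) := ShortComplex.mk (Functor.whiskerRight ψ ev)
    (Functor.whiskerRight φ ev ≫ (Functor.constComp ℕ G ev).hom) (by
      ext n
      change (ψ.app n).f i ≫ (φ.app n).f i ≫ 𝟙 _ = 0
      rw [Category.comp_id, ← HomologicalComplex.comp_f]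
      exact congrArg (fun g => HomologicalComplex.Hom.f g i) (congr_app hψφ n))
  have hSe : S.Exact := exact_of_pointwise S fun n => by
    have h1 := ((hS n).exact.map ev)
    refine (ShortComplex.exact_iff_of_epi_of_isIso_of_mono
      (S₁ := (ShortComplex.mk (kernel.ι (π n)) (π n) (kernel.condition _)).map ev)
      (S₂ := S.map ((evaluation ℕ A).obj n))
      { τ₁ := 𝟙 _
        τ₂ := 𝟙 _
        τ₃ := (ι n).f i
        comm₁₂ := (Category.id_comp _).trans (Category.comp_id _).symm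
        comm₂₃ := by
          change 𝟙 _ ≫ (π n ≫ ι n).f i ≫ 𝟙 _ = (π n).f i ≫ (ι n).f i
          rw [Category.id_comp, Category.comp_id, HomologicalComplex.comp_f] }).1 h1
  have hF := isColimitOfPreserves ev (colimit.isColimit F)
  have hL := isColimitOfPreserves ev (colimit.isColimit L)
  haveI : IsFiltered ℕ := inferInstance
  haveI : IsConnected ℕ := IsFiltered.isConnected ℕ
  have hC : IsColimit (constCocone ℕ (G.X i)) := isColimitConstCocone ℕ (G.X i)
  have hw₁ : ∀ n, (colimit.ι L n).f i ≫ l.f i = (ψ.app n).f i ≫ (colimit.ι F n).f i := fun n => by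
    rw [← HomologicalComplex.comp_f, ι_colimMap, HomologicalComplex.comp_f]
  have hex := colim.exact_mapShortComplex hSe hL (c₂ := ev.mapCocone (colimit.cocone F)) hF
    (c₃ := constCocone ℕ (G.X i)) hC (l.f i) (c.f i) hw₁ (fun n => by
      change (colimit.ι F n).f i ≫ c.f i = ((φ.app n).f i ≫ 𝟙 _) ≫ 𝟙 _
      rw [Category.comp_id, Category.comp_id, ← HomologicalComplex.comp_f, hc]
      rfl)
  haveI : ∀ n, Mono ((kernel.ι (π n)).f i) := fun n =>
    inferInstanceAs (Mono (ev.map (kernel.ι (π n))))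
  haveI : Mono (Functor.whiskerRight ψ ev) :=
    haveI : ∀ n, Mono ((Functor.whiskerRight ψ ev).app n) := fun n =>
      inferInstanceAs (Mono ((kernel.ι (π n)).f i))
    NatTrans.mono_of_mono_app _
  have hmono : Mono (l.f i) := colim.map_mono' (Functor.whiskerRight ψ ev) hL hF (l.f i) hw₁
  have hepi : Epi (c.f i) := by
    obtain ⟨n, hn⟩ := hι i
    haveI := he n i
    exact epi_of_epi_fac (f := (colimit.ι F n).f i) (h := (π n).f i ≫ (ι n).f i)
      (by rw [← HomologicalComplex.comp_f, hc, HomologicalComplex.comp_f])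
  exact ShortComplex.ShortExact.mk' hex hmono hepi

end Colimit

section System

variable (H : ℕ → CochainComplex A ℤ) (h : ∀ n, H n ⟶ H (n + 1))

/-- resolutions of a sequence of bounded above complexes with split transition maps -/
theorem exists_system (hcov : ∀ M : A, ∃ (P : A) (p : P ⟶ M), Epi p ∧ IsSum T P)
    (hH : ∀ n, BddAbv (H n)) :
    ∃ (K : ℕ → CochainComplex A ℤ) (j : ∀ n, K n ⟶ K (n + 1)) (π : ∀ n, K n ⟶ H n),
      (∀ n, j n ≫ π (n + 1) = π n ≫ h n) ∧ (∀ n, QuasiIso (π n)) ∧ (∀ n i, Epi ((π n).f i)) ∧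
      (∀ n, BddAbv (K n)) ∧ (∀ n i, IsSum T ((K n).X i)) ∧ (∀ n i, GoodMono T ((j n).f i)) := by
  have hz : IsZero ((single A (ComplexShape.up ℤ) 0).obj (0 : A)) :=
    Functor.map_isZero (single A (ComplexShape.up ℤ) 0) (Limits.isZero_zero A)
  have hzX : ∀ i, IsZero (((single A (ComplexShape.up ℤ) 0).obj (0 : A)).X i) := fun i =>
    Functor.map_isZero (eval A (ComplexShape.up ℤ) i) hz
  let out : ∀ n (s : {s : Stage (H n) // BddAbv s.K}), Res T s.1 := fun n s =>
    (nonempty_res hcov (hH n) s.1 s.2).some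
  let src : ∀ n, {s : Stage (H n) // BddAbv s.K} := fun n => Nat.rec
    ⟨⟨(single A (ComplexShape.up ℤ) 0).obj (0 : A), 0⟩, 0, fun i _ => hzX i⟩
    (fun n s => ⟨⟨(out n s).N, (out n s).p ≫ h n⟩, (out n s).bdd⟩) n
  refine ⟨fun n => (out n (src n)).N, fun n => (out (n + 1) (src (n + 1))).j,
    fun n => (out n (src n)).p, fun n => (out (n + 1) (src (n + 1))).comm,
    fun n => (out n (src n)).qi, fun n => (out n (src n)).epi, fun n => (out n (src n)).bdd,
    fun n => ?_, fun n => (out (n + 1) (src (n + 1))).good⟩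
  induction n with
  | zero => exact fun i => ((out 0 (src 0)).good i).isSum (isSum_of_isZero (hzX i))
  | succ n ih => exact fun i => ((out (n + 1) (src (n + 1))).good i).isSum (ih i)

end System

section Trunc

variable (G : CochainComplex A ℤ)

lemma exists_truncLE_step (p q : ℤ) (hpq : p ≤ q) :
    ∃ h : G.truncLE p ⟶ G.truncLE q, h ≫ G.ιTruncLE q = G.ιTruncLE p := by
  haveI : (G.truncLE p).IsStrictlyLE q := (G.truncLE p).isStrictlyLE_of_le p q hpq
  haveI : IsIso ((G.truncLE p).ιTruncLE q) :=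
    inferInstanceAs (IsIso (HomologicalComplex.ιTruncLE (G.truncLE p) (ComplexShape.embeddingUpIntLE q)))
  refine ⟨inv ((G.truncLE p).ιTruncLE q) ≫ CochainComplex.truncLEMap (G.ιTruncLE p) q, ?_⟩
  rw [Category.assoc, CochainComplex.ιTruncLE_naturality, IsIso.inv_hom_id_assoc]

lemma isIso_ιTruncLE_f (p i : ℤ) (hi : i < p) : IsIso ((G.ιTruncLE p).f i) := by
  obtain ⟨k, rfl⟩ := Int.le.dest hi.le
  have hk : ¬ (ComplexShape.embeddingUpIntLE (i + k)).BoundaryLE k := by
    rw [ComplexShape.boundaryLE_embeddingUpIntLE_iff]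
    lia
  have hf : (ComplexShape.embeddingUpIntLE (i + k)).f k = i := by simp
  have : IsIso ((G.op.πTruncGE (ComplexShape.embeddingUpIntLE (i + k)).op).f i) := by
    dsimp [HomologicalComplex.πTruncGE]
    rw [(ComplexShape.embeddingUpIntLE (i + k)).op.isIso_liftExtend_f_iff _ _ hf]
    exact G.op.isIso_restrictionToTruncGE' _ k (by simpa using hk)
  exact inferInstanceAs
    (IsIso ((G.op.πTruncGE (ComplexShape.embeddingUpIntLE (i + k)).op).f i).unop)

/-- resolutions of the canonical truncations by bounded above complexes of sums, compatible with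
split transition maps, whose colimit resolves the complex -/
theorem exists_trunc_system (hcov : ∀ M : A, ∃ (P : A) (p : P ⟶ M), Epi p ∧ IsSum T P) :
    ∃ (Kc : ℕ ⥤ CochainComplex A ℤ) (π : ∀ n : ℕ, Kc.obj n ⟶ G.truncLE ((n : ℤ) + 1)),
      (∀ n : ℕ, Kc.map (homOfLE (Nat.le_succ n)) ≫ π (n + 1) ≫
        G.ιTruncLE (((n + 1 : ℕ) : ℤ) + 1) = π n ≫ G.ιTruncLE ((n : ℤ) + 1)) ∧
      (∀ n : ℕ, QuasiIso (π n) ∧ ∀ i : ℤ, Epi ((π n).f i)) ∧
      (∀ n : ℕ, ∃ b : ℤ, (Kc.obj n).IsStrictlyLE b) ∧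
      (∀ (n : ℕ) (i : ℤ), IsSum T ((Kc.obj n).X i)) ∧
      (∀ (n : ℕ) (i : ℤ), ∃ r : (Kc.obj (n + 1)).X i ⟶ (Kc.obj n).X i,
        (Kc.map (homOfLE (Nat.le_succ n))).f i ≫ r = 𝟙 _ ∧
          IsSum T (cokernel ((Kc.map (homOfLE (Nat.le_succ n))).f i))) ∧
      ∃ c : colimit Kc ⟶ G, (∀ n : ℕ, colimit.ι Kc n ≫ c = π n ≫ G.ιTruncLE ((n : ℤ) + 1)) ∧
        QuasiIso c := by
  choose h hh using fun n : ℕ =>
    exists_truncLE_step G ((n : ℤ) + 1) (((n + 1 : ℕ) : ℤ) + 1) (by lia)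
  obtain ⟨K, j, π, hw, hq, he, hb, hs, hg⟩ := exists_system
    (fun n : ℕ => G.truncLE ((n : ℤ) + 1)) h hcov fun n => bddAbv_of_isStrictlyLE ((n : ℤ) + 1)
  have hw' : ∀ n : ℕ, j n ≫ π (n + 1) ≫ G.ιTruncLE (((n + 1 : ℕ) : ℤ) + 1) =
      π n ≫ G.ιTruncLE ((n : ℤ) + 1) := fun n => by
    rw [← hh n, ← Category.assoc, hw, Category.assoc]
  haveI : ∀ n : ℕ, Mono (G.ιTruncLE ((n : ℤ) + 1)) := fun n =>
    inferInstanceAs (Mono (HomologicalComplex.ιTruncLE G (ComplexShape.embeddingUpIntLE ((n : ℤ) + 1))))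
  obtain ⟨c, hc, hcq⟩ := exists_colimit_quasiIso G (fun n : ℕ => G.truncLE ((n : ℤ) + 1)) K
    (fun n => G.ιTruncLE ((n : ℤ) + 1)) j π
    (fun i => ⟨i.toNat, haveI := isIso_ιTruncLE_f G ((i.toNat : ℤ) + 1) i (by lia); inferInstance⟩)
    hw' hq he
  have hmap : ∀ n, (Functor.ofSequence j).map (homOfLE (Nat.le_succ n)) = j n := fun n =>
    Functor.ofSequence_map_homOfLE_succ j n
  refine ⟨Functor.ofSequence j, π, fun n => ?_, fun n => ⟨hq n, he n⟩, fun n => ?_, hs,
    fun n i => ?_, c, hc, hcq⟩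
  · rw [hmap]
    exact hw' n
  · obtain ⟨b, hb⟩ := hb n
    exact ⟨b, (CochainComplex.isStrictlyLE_iff _ b).2 hb⟩
  · rw [hmap]
    exact (hg n i).exists_retraction

end Trunc

end Step

end Groth.Agent.KFlat
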