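import Mathlib.CategoryTheory.Functor.Derived.LeftDerived
import Mathlib.CategoryTheory.Localization.Predicate
import Mathlib.CategoryTheory.MorphismProperty.Composition

/-!
Left derived functors from functorial resolutions by objects on which the functor inverts `W`.
-/

set_option autoImplicit false

namespace Groth.Agent.KFlat

open CategoryTheory

variable {C D H : Type*} [Category* C] [Category* D] [Category* H]

/-- a functorial resolution by objects in `Q` on which `F` inverts `W` -/
structure LeftRes (W : MorphismProperty C) (F : C ⥤ H) (Q : ObjectProperty C) where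
  /-- the resolution functor -/
  ρ : C ⥤ C
  /-- its augmentation -/
  ψ : ρ ⟶ 𝟭 C
  mem : ∀ X, Q (ρ.obj X)
  weq : ∀ X, W (ψ.app X)
  isIso_map : ∀ {X Y : C} (f : X ⟶ Y), Q X → Q Y → W f → IsIso (F.map f)

namespace LeftRes

variable {W : MorphismProperty C} [W.HasTwoOutOfThreeProperty] {F : C ⥤ H} {Q : ObjectProperty C}
  (r : LeftRes W F Q) (L : C ⥤ D) [L.IsLocalization W]

lemma inverts : W.IsInvertedBy (r.ρ ⋙ F) := fun X Y f hf => by
  refine r.isIso_map _ (r.mem X) (r.mem Y) (W.of_postcomp _ _ (r.weq Y) ?_)
  rw [r.ψ.naturality]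
  exact W.comp_mem _ _ (r.weq X) hf

/-- the derived functor -/
noncomputable def derived : D ⥤ H := Localization.lift (r.ρ ⋙ F) r.inverts L

/-- the derived functor computed by the resolution -/
noncomputable def derivedIso : L ⋙ r.derived L ≅ r.ρ ⋙ F :=
  Localization.fac (r.ρ ⋙ F) r.inverts L

/-- the counit -/
noncomputable def counit : L ⋙ r.derived L ⟶ F :=
  (r.derivedIso L).hom ≫ Functor.whiskerRight r.ψ F ≫ (Functor.leftUnitor F).hom

lemma counit_app (X : C) : (r.counit L).app X = (r.derivedIso L).hom.app X ≫ F.map (r.ψ.app X) := by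
  simp [counit]

lemma isIso_counit_app {X : C} (hX : Q X) : IsIso ((r.counit L).app X) := by
  have := r.isIso_map (r.ψ.app X) (r.mem X) hX (r.weq X)
  rw [counit_app]
  exact IsIso.comp_isIso' inferInstance this

lemma isIso_map_ψ (X : C) : IsIso (L.map (r.ψ.app X)) :=
  Localization.inverts L W _ (r.weq X)

instance isLeftDerivedFunctor : (r.derived L).IsLeftDerivedFunctor (r.counit L) W where
  isRightKanExtension := by
    have hiso : ∀ (G : D ⥤ H) X, IsIso (G.map (L.map (r.ψ.app X))) := fun G X => by
      have := r.isIso_map_ψ L X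
      infer_instance
    let toρ : ∀ (G : D ⥤ H) (_ : L ⋙ G ⟶ F), L ⋙ G ⟶ r.ρ ⋙ F := fun G β =>
      { app := fun X => (@inv _ _ _ _ (G.map (L.map (r.ψ.app X))) (hiso G X)) ≫ β.app (r.ρ.obj X)
        naturality := fun X Y f => by
          have := hiso G X
          have := hiso G Y
          rw [← cancel_epi (G.map (L.map (r.ψ.app X)))]
          simp only [Functor.comp_map, Category.assoc, IsIso.hom_inv_id_assoc]
          rw [← Functor.map_comp_assoc, ← L.map_comp, show r.ψ.app X ≫ f = r.ρ.map f ≫ r.ψ.app Y from
            (r.ψ.naturality f).symm, L.map_comp, G.map_comp, Category.assoc, IsIso.hom_inv_id_assoc]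
          exact β.naturality (r.ρ.map f) }
    let lift : ∀ (G : D ⥤ H) (_ : L ⋙ G ⟶ F), G ⟶ r.derived L := fun G β =>
      (Localization.fullyFaithfulWhiskeringLeft L W H).preimage (toρ G β ≫ (r.derivedIso L).inv)
    have lift_app : ∀ (G : D ⥤ H) (β : L ⋙ G ⟶ F) (X : C),
        (lift G β).app (L.obj X) = (toρ G β).app X ≫ (r.derivedIso L).inv.app X := fun G β X =>
      NatTrans.congr_app ((Localization.fullyFaithfulWhiskeringLeft L W H).map_preimage
        (toρ G β ≫ (r.derivedIso L).inv)) X
    refine ⟨⟨Limits.IsTerminal.ofUniqueHom (fun E => CostructuredArrow.homMk (lift E.left E.hom) ?_)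
      fun E m => ?_⟩⟩
    · ext X
      change (lift E.left E.hom).app (L.obj X) ≫ (r.counit L).app X = E.hom.app X
      rw [lift_app, counit_app, Category.assoc, Iso.inv_hom_id_app_assoc]
      have := hiso E.left X
      change (inv (E.left.map (L.map (r.ψ.app X))) ≫ E.hom.app (r.ρ.obj X)) ≫ F.map (r.ψ.app X) = E.hom.app X
      rw [Category.assoc, IsIso.inv_comp_eq]
      exact (E.hom.naturality (r.ψ.app X)).symm
    · refine CostructuredArrow.hom_ext _ _ ?_
      change m.left = lift E.left E.hom
      refine Localization.natTrans_ext L W fun X => ?_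
      have := hiso E.left X
      have hQ : m.left.app (L.obj (r.ρ.obj X)) = (lift E.left E.hom).app (L.obj (r.ρ.obj X)) := by
        have := r.isIso_counit_app L (r.mem X)
        refine (cancel_mono ((r.counit L).app (r.ρ.obj X))).1 ?_
        refine (NatTrans.congr_app (CostructuredArrow.w m) (r.ρ.obj X)).trans ?_
        rw [lift_app, counit_app, Category.assoc, Iso.inv_hom_id_app_assoc]
        have := hiso E.left (r.ρ.obj X)
        change E.hom.app (r.ρ.obj X) =
          (inv (E.left.map (L.map (r.ψ.app (r.ρ.obj X)))) ≫ E.hom.app (r.ρ.obj (r.ρ.obj X))) ≫ F.map _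
        rw [Category.assoc, eq_comm, IsIso.inv_comp_eq]
        exact (E.hom.naturality (r.ψ.app (r.ρ.obj X))).symm
      rw [← cancel_epi (E.left.map (L.map (r.ψ.app X)))]
      exact ((m.left.naturality _).trans (congrArg (· ≫ (r.derived L).map (L.map (r.ψ.app X))) hQ)).trans
        ((lift E.left E.hom).naturality _).symm

include r in
lemma hasLeftDerivedFunctor : F.HasLeftDerivedFunctor W :=
  Functor.HasLeftDerivedFunctor.mk' (W := W) (r.derived W.Q) (r.counit W.Q)

end LeftRes

end Groth.Agent.KFlat

namespace Groth.Agent.KFlat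

open CategoryTheory

variable {C₀ C D H : Type*} [Category* C₀] [Category* C] [Category* D] [Category* H]

namespace LeftRes

variable {W : MorphismProperty C} [W.HasTwoOutOfThreeProperty] {F : C ⥤ H} {Q : ObjectProperty C}

/-- every left derived functor is computed on the objects in `Q` -/
lemma isIso_app (r : LeftRes W F Q) {L : C ⥤ D} [L.IsLocalization W] (G : D ⥤ H) (α : L ⋙ G ⟶ F)
    [G.IsLeftDerivedFunctor α W] {X : C} (hX : Q X) : IsIso (α.app X) := by
  let e := Functor.leftDerivedUnique (r.derived L) G α (r.counit L) W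
  have he : α.app X = (e.app (L.obj X)).hom ≫ (r.counit L).app X := by
    simp only [e, Iso.app_hom, Functor.leftDerivedUnique, Functor.leftDerivedNatIso_hom, Iso.refl_hom,
      Functor.leftDerivedNatTrans_app, NatTrans.id_app, Category.comp_id]
  have := r.isIso_counit_app L hX
  rw [he]
  exact IsIso.comp_isIso' inferInstance this

end LeftRes

section Quotient

variable (q : C₀ ⥤ C) {W₀ : MorphismProperty C₀} [q.IsLocalization W₀] (L : C ⥤ D) (G : D ⥤ H)
  {F : C ⥤ H}

/-- natural transformations on `C` from natural transformations on `C₀` -/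
noncomputable def descendTrans (α : (q ⋙ L) ⋙ G ⟶ q ⋙ F) : L ⋙ G ⟶ F :=
  (Localization.fullyFaithfulWhiskeringLeft q W₀ H).preimage ((Functor.associator q L G).inv ≫ α)

lemma descendTrans_app (α : (q ⋙ L) ⋙ G ⟶ q ⋙ F) (X : C₀) :
    (descendTrans q (W₀ := W₀) L G α).app (q.obj X) = α.app X := by
  refine (NatTrans.congr_app ((Localization.fullyFaithfulWhiskeringLeft q W₀ H).map_preimage
    ((Functor.associator q L G).inv ≫ α)) X).trans ?_
  simp

variable (W' : MorphismProperty C₀) [(q ⋙ L).IsLocalization W'] (W : MorphismProperty C) [L.IsLocalization W]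

/-- left derived functors can be computed before passing to a quotient category -/
theorem isLeftDerivedFunctor_descend (α : (q ⋙ L) ⋙ G ⟶ q ⋙ F) [G.IsLeftDerivedFunctor α W'] :
    G.IsLeftDerivedFunctor (descendTrans q (W₀ := W₀) L G α) W where
  isRightKanExtension := by
    have := Localization.faithful_whiskeringLeft q W₀ H
    refine ⟨⟨Limits.IsTerminal.ofUniqueHom (fun E => CostructuredArrow.homMk
      (G.leftDerivedLift α W' E.left ((Functor.associator q L E.left).hom ≫ Functor.whiskerLeft q E.hom)) ?_)
      fun E m => ?_⟩⟩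
    · refine ((Functor.whiskeringLeft C₀ C H).obj q).map_injective ?_
      ext X
      change _ ≫ (descendTrans q (W₀ := W₀) L G α).app (q.obj X) = E.hom.app (q.obj X)
      rw [descendTrans_app]
      refine (G.leftDerived_fac_app α W' E.left _ X).trans ?_
      simp
    · refine CostructuredArrow.hom_ext _ _ ?_
      refine G.leftDerived_ext α W' _ _ _ ?_
      ext X
      change m.left.app (L.obj (q.obj X)) ≫ α.app X = _
      refine Eq.trans ?_ (NatTrans.congr_app (G.leftDerived_fac α W' E.left
        ((Functor.associator q L E.left).hom ≫ Functor.whiskerLeft q E.hom)).symm X)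
      refine (congrArg (_ ≫ ·) (descendTrans_app q (W₀ := W₀) L G α X).symm).trans
        ((NatTrans.congr_app (CostructuredArrow.w m) (q.obj X)).trans ?_)
      simp

end Quotient

end Groth.Agent.KFlat
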