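import Groth.Agent.KFlat.Resolution
import Mathlib.Algebra.Homology.HomotopyCategory.Pretriangulated

/-!
The cellular K-flat resolution is functorial when the flat cover is.
-/

set_option autoImplicit false
set_option linter.unusedSectionVars false
universe v u w w'

namespace Groth.Agent.KFlat

open CategoryTheory Limits HomologicalComplex CochainComplex HomComplex
open scoped ZeroObject

variable {A : Type u} [Category.{v} A] [Abelian A] (P : A ⥤ A) (π : P ⟶ 𝟭 A)
  {G G' G'' : CochainComplex A ℤ}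

/-- the map of spheres induced by a map of stages -/
noncomputable def spheresMap (s : Stage G) (s' : Stage G') (g : s.K ⟶ s'.K) (φ : G ⟶ G')
    (h : s.q ≫ φ = g ≫ s'.q) : spheres P.obj s ⟶ spheres P.obj s' where
  f j := P.map (cyclesMap (mappingCone.map s.q s'.q g φ h) (j - 1))
  comm' _ _ _ := comp_zero.trans zero_comp.symm

lemma sphereComp_natural (s : Stage G) (s' : Stage G') (g : s.K ⟶ s'.K) (φ : G ⟶ G')
    (h : s.q ≫ φ = g ≫ s'.q) (j : ℤ) :
    (spheresMap P s s' g φ h).f j ≫ sphereComp P.obj (fun M => π.app M) s' j =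
      sphereComp P.obj (fun M => π.app M) s j ≫ (mappingCone.map s.q s'.q g φ h).f (j - 1) := by
  simp only [spheresMap, sphereComp, Category.assoc]
  erw [π.naturality_assoc, cyclesMap_i]

lemma attach_natural (s : Stage G) (s' : Stage G') (g : s.K ⟶ s'.K) (φ : G ⟶ G')
    (h : s.q ≫ φ = g ≫ s'.q) :
    attach P.obj (fun M => π.app M) s ≫ g =
      spheresMap P s s' g φ h ≫ attach P.obj (fun M => π.app M) s' := by
  ext j
  simp only [HomologicalComplex.comp_f, attach]
  rw [← Category.assoc ((spheresMap P s s' g φ h).f j), sphereComp_natural, Category.assoc, Category.assoc]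
  congr 1
  refine (mappingCone.ext_from_iff _ j (j - 1) (by lia) _ _).2 ⟨?_, ?_⟩ <;> simp [mappingCone.map]

/-- the map of next stages -/
noncomputable def nextMap (s : Stage G) (s' : Stage G') (g : s.K ⟶ s'.K) (φ : G ⟶ G')
    (h : s.q ≫ φ = g ≫ s'.q) :
    (next P.obj (fun M => π.app M) s).K ⟶ (next P.obj (fun M => π.app M) s').K :=
  mappingCone.map _ _ (spheresMap P s s' g φ h) g (attach_natural P π s s' g φ h)

lemma nextMap_q (s : Stage G) (s' : Stage G') (g : s.K ⟶ s'.K) (φ : G ⟶ G')
    (h : s.q ≫ φ = g ≫ s'.q) :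
    (next P.obj (fun M => π.app M) s).q ≫ φ = nextMap P π s s' g φ h ≫ (next P.obj (fun M => π.app M) s').q := by
  ext n
  obtain ⟨j, rfl⟩ : ∃ j, j - 1 = n := ⟨n + 1, by lia⟩
  have e := sphereComp_natural P π s s' g φ h j
  have hsnd : (mappingCone.map s.q s'.q g φ h).f (j - 1) ≫
      (mappingCone.snd s'.q).v (j - 1) (j - 1) (add_zero _) =
        (mappingCone.snd s.q).v (j - 1) (j - 1) (add_zero _) ≫ φ.f (j - 1) := by
    simp [mappingCone.ext_from_iff _ j (j - 1) (by lia), mappingCone.map]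
  refine (mappingCone.ext_from_iff _ j (j - 1) (by lia) _ _).2 ⟨?_, ?_⟩
  · simp only [next, nextMap, mappingCone.map, HomologicalComplex.comp_f, mappingCone.inl_v_desc_f_assoc]
    simp [attachNull, reassoc_of% e, hsnd]
  · simp only [next, nextMap, mappingCone.map, HomologicalComplex.comp_f, mappingCone.inr_f_desc_f_assoc]
    simpa using congr_hom h (j - 1)

lemma incl_nextMap (s : Stage G) (s' : Stage G') (g : s.K ⟶ s'.K) (φ : G ⟶ G')
    (h : s.q ≫ φ = g ≫ s'.q) :
    incl P.obj (fun M => π.app M) s ≫ nextMap P π s s' g φ h = g ≫ incl P.obj (fun M => π.app M) s' := by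
  simp only [incl, nextMap, mappingCone.map]
  apply mappingCone.inr_desc

lemma nextMap_id (s : Stage G) (g : s.K ⟶ s.K) (hg : g = 𝟙 _) (h : s.q ≫ 𝟙 G = g ≫ s.q) :
    nextMap P π s s g (𝟙 G) h = 𝟙 _ := by
  subst hg
  have : spheresMap P s s (𝟙 _) (𝟙 G) h = 𝟙 _ := by
    ext j
    simp only [spheresMap, mappingCone.map_id, cyclesMap_id, CategoryTheory.Functor.map_id]
    rfl
  simp only [nextMap, this]
  exact mappingCone.map_id _

lemma nextMap_comp (s : Stage G) (s' : Stage G') (s'' : Stage G'') (g : s.K ⟶ s'.K) (g' : s'.K ⟶ s''.K)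
    (φ : G ⟶ G') (φ' : G' ⟶ G'') (h : s.q ≫ φ = g ≫ s'.q) (h' : s'.q ≫ φ' = g' ≫ s''.q)
    (g'' : s.K ⟶ s''.K) (hg : g'' = g ≫ g') (h'' : s.q ≫ φ ≫ φ' = g'' ≫ s''.q) :
    nextMap P π s s'' g'' (φ ≫ φ') h'' = nextMap P π s s' g φ h ≫ nextMap P π s' s'' g' φ' h' := by
  subst hg
  have : spheresMap P s s'' (g ≫ g') (φ ≫ φ') h'' = spheresMap P s s' g φ h ≫ spheresMap P s' s'' g' φ' h' := by
    ext j
    simp only [spheresMap, mappingCone.map_comp _ _ _ _ _ h _ _ h', cyclesMap_comp,
      CategoryTheory.Functor.map_comp]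
    rfl
  simp only [nextMap, this]
  exact mappingCone.map_comp _ _ _ _ _ _ _ _ _

variable (G) in
/-- the initial stage -/
noncomputable def zeroStage : Stage G :=
  ⟨(single A (ComplexShape.up ℤ) 0).obj (0 : A), 0⟩

/-- the map of stages induced by a map of targets -/
noncomputable def stageMap (φ : G ⟶ G') : ∀ n : ℕ,
    {g : (stage P.obj (fun M => π.app M) G (zeroStage G) n).K ⟶
        (stage P.obj (fun M => π.app M) G' (zeroStage G') n).K //
      (stage P.obj (fun M => π.app M) G (zeroStage G) n).q ≫ φ =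
        g ≫ (stage P.obj (fun M => π.app M) G' (zeroStage G') n).q}
  | 0 => ⟨𝟙 _, zero_comp.trans comp_zero.symm⟩
  | n + 1 => ⟨nextMap P π _ _ (stageMap φ n).1 φ (stageMap φ n).2, nextMap_q P π _ _ _ φ _⟩

lemma stageMap_id (n : ℕ) : (stageMap P π (𝟙 G) n).1 = 𝟙 _ := by
  induction n with
  | zero => rfl
  | succ n ih => exact nextMap_id P π _ _ ih _

lemma stageMap_comp (φ : G ⟶ G') (φ' : G' ⟶ G'') (n : ℕ) :
    (stageMap P π (φ ≫ φ') n).1 = (stageMap P π φ n).1 ≫ (stageMap P π φ' n).1 := by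
  induction n with
  | zero => exact (Category.id_comp _).symm
  | succ n ih => exact nextMap_comp P π _ _ _ _ _ φ φ' _ _ _ ih _

variable [HasColimitsOfShape ℕ A] [HasExactColimitsOfShape ℕ A]

/-- the map of sequences induced by a map of targets -/
noncomputable def seqMap (φ : G ⟶ G') :
    seq P.obj (fun M => π.app M) G (zeroStage G) ⟶ seq P.obj (fun M => π.app M) G' (zeroStage G') :=
  NatTrans.ofSequence (fun n => (stageMap P π φ n).1) fun n => by
    dsimp [seq]
    erw [Functor.ofSequence_map_homOfLE_succ, Functor.ofSequence_map_homOfLE_succ]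
    exact incl_nextMap P π _ _ _ φ _

/-- the functorial resolution -/
noncomputable def resFunctor : CochainComplex A ℤ ⥤ CochainComplex A ℤ where
  obj G := resK P.obj (fun M => π.app M) G (zeroStage G)
  map φ := colimMap (seqMap P π φ)
  map_id G := colimit.hom_ext fun n => by
    rw [ι_colimMap]
    change (stageMap P π (𝟙 G) n).1 ≫ _ = _
    rw [stageMap_id]
    exact (Category.id_comp _).trans (Category.comp_id _).symm
  map_comp φ φ' := colimit.hom_ext fun n => by
    rw [ι_colimMap]
    erw [ι_colimMap_assoc, ι_colimMap]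
    change (stageMap P π (φ ≫ φ') n).1 ≫ _ = _
    rw [stageMap_comp]
    exact Category.assoc _ _ _

/-- the augmentation of the functorial resolution -/
noncomputable def resNat : resFunctor P π ⟶ 𝟭 (CochainComplex A ℤ) where
  app G := resQ P.obj (fun M => π.app M) G (zeroStage G)
  naturality G G' φ := colimit.hom_ext fun n => by
    change colimit.ι _ n ≫ colimMap (seqMap P π φ) ≫ resQ P.obj (fun M => π.app M) G' (zeroStage G') = _
    erw [ι_colimMap_assoc]
    change (stageMap P π φ n).1 ≫ resι P.obj (fun M => π.app M) G' (zeroStage G') n ≫ _ =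
      resι P.obj (fun M => π.app M) G (zeroStage G) n ≫ _ ≫ φ
    rw [ι_resQ, ← Category.assoc, ι_resQ]
    exact (stageMap P π φ n).2.symm

variable (B : A ⥤ A ⥤ A) [B.Additive] [∀ X, (B.obj X).Additive]
  [∀ K L : CochainComplex A ℤ, HomologicalComplex.HasMapBifunctor K L B (ComplexShape.up ℤ)]
  [HasColimitsOfShape (Discrete ℤ) A] [HasExactColimitsOfShape (Discrete ℤ) A]

/-- functorial K-flat resolutions -/
theorem resFunctor_spec [∀ X, Epi (π.app X)] (hP : ∀ M, FlatObj B (P.obj M))
    (hN : ∀ X, PreservesColimitsOfShape ℕ (B.obj X))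
    (hZ : ∀ X, PreservesColimitsOfShape (Discrete ℤ) (B.obj X)) (G : CochainComplex A ℤ) :
    RFlat B ((resFunctor P π).obj G) ∧ (∀ n, FlatObj B (((resFunctor P π).obj G).X n)) ∧
      QuasiIso ((resNat P π).app G) := by
  have hz : IsZero (zeroStage G).K :=
    Functor.map_isZero (single A (ComplexShape.up ℤ) 0) (Limits.isZero_zero A)
  have h₀ : ∀ n, FlatObj B ((zeroStage G).K.X n) := fun n =>
    flatObj_of_isZero (Functor.map_isZero (eval A (ComplexShape.up ℤ) n) hz)
  exact ⟨rflat_resK B G _ hP hN hZ (rflat_of_isZero hz), flatObj_resK_X B G _ hP hN h₀,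
    quasiIso_resQ P.obj (fun M => π.app M) G _⟩

end Groth.Agent.KFlat
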