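import Groth.Agent.KFlat.Tensor
import Mathlib.CategoryTheory.GradedObject

/-!
A functor preserving coproducts carries total tensor products to total tensor products.
-/

set_option autoImplicit false
set_option linter.unusedSectionVars false

namespace Groth.Agent.KFlat

open CategoryTheory Limits HomologicalComplex

variable {C₁ C₂ A₁ A₂ A A₁' A₂' A' : Type*} [Category* C₁] [Category* C₂] [Category* A₁] [Category* A₂]
  [Category* A] [Category* A₁'] [Category* A₂'] [Category* A'] [Abelian C₁] [Abelian C₂] [Abelian A₁]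
  [Abelian A₂] [Abelian A] [Abelian A₁'] [Abelian A₂'] [Abelian A']
  (F₁ : C₁ ⥤ A₁') [F₁.Additive] (F₂ : C₂ ⥤ A₂') [F₂.Additive]
  (H₁ : C₁ ⥤ A₁) [H₁.Additive] (H₂ : C₂ ⥤ A₂) [H₂.Additive]
  (G : A ⥤ A') [G.Additive] [PreservesColimitsOfSize.{0, 0} G]
  (B : A₁ ⥤ A₂ ⥤ A) [B.Additive] [∀ X, (B.obj X).Additive]
  (B' : A₁' ⥤ A₂' ⥤ A') [B'.Additive] [∀ X, (B'.obj X).Additive]
  [∀ (K : CochainComplex A₁ ℤ) (L : CochainComplex A₂ ℤ),
    HomologicalComplex.HasMapBifunctor K L B (ComplexShape.up ℤ)]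
  [∀ (K : CochainComplex A₁' ℤ) (L : CochainComplex A₂' ℤ),
    HomologicalComplex.HasMapBifunctor K L B' (ComplexShape.up ℤ)]
  (e : ∀ M N, (B'.obj (F₁.obj M)).obj (F₂.obj N) ≅ G.obj ((B.obj (H₁.obj M)).obj (H₂.obj N)))
  (he₁ : ∀ {M M' : C₁} (f : M ⟶ M') (N : C₂),
    (B'.map (F₁.map f)).app (F₂.obj N) ≫ (e M' N).hom =
      (e M N).hom ≫ G.map ((B.map (H₁.map f)).app (H₂.obj N)))
  (he₂ : ∀ (M : C₁) {N N' : C₂} (g : N ⟶ N'),
    (B'.obj (F₁.obj M)).map (F₂.map g) ≫ (e M N').hom =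
      (e M N).hom ≫ G.map ((B.obj (H₁.obj M)).map (H₂.map g)))

/-- the degreewise comparison -/
noncomputable def mapTensX (L : CochainComplex C₁ ℤ) (K : CochainComplex C₂ ℤ) (n : ℤ) :
    (HomologicalComplex.mapBifunctor ((F₁.mapHomologicalComplex (ComplexShape.up ℤ)).obj L)
        ((F₂.mapHomologicalComplex (ComplexShape.up ℤ)).obj K) B' (ComplexShape.up ℤ)).X n ⟶
      G.obj ((HomologicalComplex.mapBifunctor ((H₁.mapHomologicalComplex (ComplexShape.up ℤ)).obj L) ((H₂.mapHomologicalComplex (ComplexShape.up ℤ)).obj K) B (ComplexShape.up ℤ)).X n) :=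
  mapBifunctorDesc fun p q h => (e (L.X p) (K.X q)).hom ≫
    G.map (ιMapBifunctor ((H₁.mapHomologicalComplex (ComplexShape.up ℤ)).obj L) ((H₂.mapHomologicalComplex (ComplexShape.up ℤ)).obj K) B (ComplexShape.up ℤ) p q n h)

lemma ι_mapTensX (L : CochainComplex C₁ ℤ) (K : CochainComplex C₂ ℤ) (n p q : ℤ)
    (h : ComplexShape.π (ComplexShape.up ℤ) (ComplexShape.up ℤ) (ComplexShape.up ℤ) (p, q) = n) :
    ιMapBifunctor ((F₁.mapHomologicalComplex (ComplexShape.up ℤ)).obj L) ((F₂.mapHomologicalComplex (ComplexShape.up ℤ)).obj K) B'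
        (ComplexShape.up ℤ) p q n h ≫ mapTensX F₁ F₂ H₁ H₂ G B B' e L K n =
      (e (L.X p) (K.X q)).hom ≫ G.map (ιMapBifunctor ((H₁.mapHomologicalComplex (ComplexShape.up ℤ)).obj L) ((H₂.mapHomologicalComplex (ComplexShape.up ℤ)).obj K) B (ComplexShape.up ℤ) p q n h) :=
  ι_mapBifunctorDesc _ p q h

lemma isIso_mapTensX (L : CochainComplex C₁ ℤ) (K : CochainComplex C₂ ℤ) (n : ℤ) : IsIso (mapTensX F₁ F₂ H₁ H₂ G B B' e L K n) := by
  let D := (((B.mapBifunctorHomologicalComplex (ComplexShape.up ℤ) (ComplexShape.up ℤ)).obj ((H₁.mapHomologicalComplex (ComplexShape.up ℤ)).obj L)).obj ((H₂.mapHomologicalComplex (ComplexShape.up ℤ)).obj K)).toGradedObject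
  let π := ComplexShape.π (ComplexShape.up ℤ) (ComplexShape.up ℤ) (ComplexShape.up ℤ)
  have hc : IsColimit (G.mapCocone (D.cofanMapObj π n)) :=
    isColimitOfPreserves G (D.isColimitCofanMapObj π n)
  let L' := (F₁.mapHomologicalComplex (ComplexShape.up ℤ)).obj L
  let K' := (F₂.mapHomologicalComplex (ComplexShape.up ℤ)).obj K
  let inj : ∀ (j : Discrete (π ⁻¹' {n})),
      (Discrete.functor (D.mapObjFun π n) ⋙ G).obj j ⟶ (HomologicalComplex.mapBifunctor L' K' B' (ComplexShape.up ℤ)).X n :=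
    fun j => (e (L.X j.as.1.1) (K.X j.as.1.2)).inv ≫
      ιMapBifunctor L' K' B' (ComplexShape.up ℤ) j.as.1.1 j.as.1.2 n j.as.2
  let g : G.obj ((HomologicalComplex.mapBifunctor ((H₁.mapHomologicalComplex (ComplexShape.up ℤ)).obj L) ((H₂.mapHomologicalComplex (ComplexShape.up ℤ)).obj K) B (ComplexShape.up ℤ)).X n) ⟶ (HomologicalComplex.mapBifunctor L' K' B' (ComplexShape.up ℤ)).X n :=
    hc.desc ⟨_, Discrete.natTrans inj⟩
  have hg : ∀ p q (h : π (p, q) = n), G.map (ιMapBifunctor ((H₁.mapHomologicalComplex (ComplexShape.up ℤ)).obj L) ((H₂.mapHomologicalComplex (ComplexShape.up ℤ)).obj K) B (ComplexShape.up ℤ) p q n h) ≫ g =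
      (e (L.X p) (K.X q)).inv ≫ ιMapBifunctor L' K' B' (ComplexShape.up ℤ) p q n h :=
    fun p q h => hc.fac ⟨_, Discrete.natTrans inj⟩ ⟨⟨(p, q), h⟩⟩
  refine ⟨g, mapBifunctor.hom_ext fun p q h => ?_, hc.hom_ext fun j => ?_⟩
  · rw [← Category.assoc]
    erw [ι_mapTensX F₁ F₂ H₁ H₂ G B B' e L K n p q h, Category.assoc, hg p q h, Iso.hom_inv_id_assoc, Category.comp_id]
  · obtain ⟨⟨⟨p, q⟩, h⟩⟩ := j
    replace h : ComplexShape.π (ComplexShape.up ℤ) (ComplexShape.up ℤ) (ComplexShape.up ℤ) (p, q) = n := h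
    change G.map (ιMapBifunctor ((H₁.mapHomologicalComplex (ComplexShape.up ℤ)).obj L) ((H₂.mapHomologicalComplex (ComplexShape.up ℤ)).obj K) B (ComplexShape.up ℤ) p q n h) ≫ g ≫ mapTensX F₁ F₂ H₁ H₂ G B B' e L K n =
      G.map (ιMapBifunctor ((H₁.mapHomologicalComplex (ComplexShape.up ℤ)).obj L) ((H₂.mapHomologicalComplex (ComplexShape.up ℤ)).obj K) B (ComplexShape.up ℤ) p q n h) ≫ 𝟙 _
    rw [reassoc_of% (hg p q h)]
    refine (Category.assoc _ _ _).trans ?_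
    erw [ι_mapTensX F₁ F₂ H₁ H₂ G B B' e L K n p q h]
    exact (Iso.inv_hom_id_assoc _ _).trans (Category.comp_id _).symm

include he₁ he₂ in
lemma mapTensX_comm (L : CochainComplex C₁ ℤ) (K : CochainComplex C₂ ℤ) (n n' : ℤ) (hn : n + 1 = n') :
    mapTensX F₁ F₂ H₁ H₂ G B B' e L K n ≫ G.map ((HomologicalComplex.mapBifunctor ((H₁.mapHomologicalComplex (ComplexShape.up ℤ)).obj L) ((H₂.mapHomologicalComplex (ComplexShape.up ℤ)).obj K) B (ComplexShape.up ℤ)).d n n') =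
      (HomologicalComplex.mapBifunctor ((F₁.mapHomologicalComplex (ComplexShape.up ℤ)).obj L)
        ((F₂.mapHomologicalComplex (ComplexShape.up ℤ)).obj K) B' (ComplexShape.up ℤ)).d n n' ≫
        mapTensX F₁ F₂ H₁ H₂ G B B' e L K n' := by
  subst hn
  refine mapBifunctor.hom_ext fun p q h => ?_
  have h' : p + q = n := h
  have hd : ιMapBifunctor ((F₁.mapHomologicalComplex (ComplexShape.up ℤ)).obj L) ((F₂.mapHomologicalComplex (ComplexShape.up ℤ)).obj K) B'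
      (ComplexShape.up ℤ) p q n h ≫ mapTensX F₁ F₂ H₁ H₂ G B B' e L K n ≫
        G.map ((HomologicalComplex.mapBifunctor ((H₁.mapHomologicalComplex (ComplexShape.up ℤ)).obj L) ((H₂.mapHomologicalComplex (ComplexShape.up ℤ)).obj K) B (ComplexShape.up ℤ)).d n (n + 1)) =
      (e (L.X p) (K.X q)).hom ≫ G.map (ιMapBifunctor ((H₁.mapHomologicalComplex (ComplexShape.up ℤ)).obj L) ((H₂.mapHomologicalComplex (ComplexShape.up ℤ)).obj K) B (ComplexShape.up ℤ) p q n h ≫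
        (HomologicalComplex.mapBifunctor ((H₁.mapHomologicalComplex (ComplexShape.up ℤ)).obj L) ((H₂.mapHomologicalComplex (ComplexShape.up ℤ)).obj K) B (ComplexShape.up ℤ)).d n (n + 1)) :=
    (Category.assoc _ _ _).symm.trans ((congrArg (· ≫ _) (ι_mapTensX F₁ F₂ H₁ H₂ G B B' e L K n p q h)).trans
      ((Category.assoc _ _ _).trans (congrArg ((e (L.X p) (K.X q)).hom ≫ ·) (G.map_comp _ _).symm)))
  have h₁ : ComplexShape.π (ComplexShape.up ℤ) (ComplexShape.up ℤ) (ComplexShape.up ℤ) (p + 1, q) = n + 1 :=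
    show p + 1 + q = n + 1 by lia
  have h₂ : ComplexShape.π (ComplexShape.up ℤ) (ComplexShape.up ℤ) (ComplexShape.up ℤ) (p, q + 1) = n + 1 :=
    show p + (q + 1) = n + 1 by lia
  have combine : ∀ {P : A'} {Q R : A} (w : P ⟶ G.obj Q) (x y : Q ⟶ R) (a b : ℤˣ),
      w ≫ G.map (a • x + b • y) = a • (w ≫ G.map x) + b • (w ≫ G.map y) := fun w x y a b => by
    simp [Units.smul_def]
  let L' := (F₁.mapHomologicalComplex (ComplexShape.up ℤ)).obj L
  let K' := (F₂.mapHomologicalComplex (ComplexShape.up ℤ)).obj K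
  let L₀ := (H₁.mapHomologicalComplex (ComplexShape.up ℤ)).obj L
  let K₀ := (H₂.mapHomologicalComplex (ComplexShape.up ℤ)).obj K
  have hB : ιMapBifunctor L₀ K₀ B (ComplexShape.up ℤ) p q n h ≫
      (HomologicalComplex.mapBifunctor L₀ K₀ B (ComplexShape.up ℤ)).d n (n + 1) =
        ComplexShape.ε₁ (ComplexShape.up ℤ) (ComplexShape.up ℤ) (ComplexShape.up ℤ) (p, q) •
          ((B.map (L₀.d p (p + 1))).app (K₀.X q) ≫ ιMapBifunctor L₀ K₀ B (ComplexShape.up ℤ) (p + 1) q (n + 1) h₁) +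
        ComplexShape.ε₂ (ComplexShape.up ℤ) (ComplexShape.up ℤ) (ComplexShape.up ℤ) (p, q) •
          ((B.obj (L₀.X p)).map (K₀.d q (q + 1)) ≫ ιMapBifunctor L₀ K₀ B (ComplexShape.up ℤ) p (q + 1) (n + 1) h₂) := by
    rw [mapBifunctor.d_eq, Preadditive.comp_add, mapBifunctor.ι_D₁, mapBifunctor.ι_D₂,
      mapBifunctor.d₁_eq _ _ _ _ (show (ComplexShape.up ℤ).Rel p (p + 1) from rfl) q (n + 1) h₁,
      mapBifunctor.d₂_eq _ _ _ _ p (show (ComplexShape.up ℤ).Rel q (q + 1) from rfl) (n + 1) h₂]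
  have hB' : ιMapBifunctor L' K' B' (ComplexShape.up ℤ) p q n h ≫
      (HomologicalComplex.mapBifunctor L' K' B' (ComplexShape.up ℤ)).d n (n + 1) ≫
        mapTensX F₁ F₂ H₁ H₂ G B B' e L K (n + 1) =
        ComplexShape.ε₁ (ComplexShape.up ℤ) (ComplexShape.up ℤ) (ComplexShape.up ℤ) (p, q) •
          (((B'.map (L'.d p (p + 1))).app (K'.X q) ≫ ιMapBifunctor L' K' B' (ComplexShape.up ℤ) (p + 1) q (n + 1) h₁) ≫
            mapTensX F₁ F₂ H₁ H₂ G B B' e L K (n + 1)) +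
        ComplexShape.ε₂ (ComplexShape.up ℤ) (ComplexShape.up ℤ) (ComplexShape.up ℤ) (p, q) •
          (((B'.obj (L'.X p)).map (K'.d q (q + 1)) ≫ ιMapBifunctor L' K' B' (ComplexShape.up ℤ) p (q + 1) (n + 1) h₂) ≫
            mapTensX F₁ F₂ H₁ H₂ G B B' e L K (n + 1)) := by
    rw [mapBifunctor.d_eq, Preadditive.add_comp, Preadditive.comp_add, mapBifunctor.ι_D₁_assoc,
      mapBifunctor.ι_D₂_assoc,
      mapBifunctor.d₁_eq _ _ _ _ (show (ComplexShape.up ℤ).Rel p (p + 1) from rfl) q (n + 1) h₁,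
      mapBifunctor.d₂_eq _ _ _ _ p (show (ComplexShape.up ℤ).Rel q (q + 1) from rfl) (n + 1) h₂,
      Linear.units_smul_comp, Linear.units_smul_comp]
  refine hd.trans (((congrArg (fun t => (e (L.X p) (K.X q)).hom ≫ G.map t) hB).trans (combine _ _ _ _ _)).trans
    (Eq.trans ?_ hB'.symm))
  refine congrArg₂ (· + ·) (congrArg (_ • ·) ?_) (congrArg (_ • ·) ?_)
  · refine Eq.trans ?_ ((congrArg (_ ≫ ·) (ι_mapTensX F₁ F₂ H₁ H₂ G B B' e L K (n + 1) (p + 1) q h₁)).symm.trans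
      (Category.assoc _ _ _).symm)
    exact (congrArg (_ ≫ ·) (G.map_comp _ _)).trans ((Category.assoc _ _ _).symm.trans
      ((congrArg (· ≫ _) (he₁ (L.d p (p + 1)) (K.X q)).symm).trans (Category.assoc _ _ _)))
  · refine Eq.trans ?_ ((congrArg (_ ≫ ·) (ι_mapTensX F₁ F₂ H₁ H₂ G B B' e L K (n + 1) p (q + 1) h₂)).symm.trans
      (Category.assoc _ _ _).symm)
    exact (congrArg (_ ≫ ·) (G.map_comp _ _)).trans ((Category.assoc _ _ _).symm.trans
      ((congrArg (· ≫ _) (he₂ (L.X p) (K.d q (q + 1))).symm).trans (Category.assoc _ _ _)))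

/-- the comparison isomorphism -/
noncomputable def mapTensIso (L : CochainComplex C₁ ℤ) (K : CochainComplex C₂ ℤ) :
    HomologicalComplex.mapBifunctor ((F₁.mapHomologicalComplex (ComplexShape.up ℤ)).obj L) ((F₂.mapHomologicalComplex (ComplexShape.up ℤ)).obj K) B' (ComplexShape.up ℤ) ≅
      (G.mapHomologicalComplex (ComplexShape.up ℤ)).obj
        (HomologicalComplex.mapBifunctor ((H₁.mapHomologicalComplex (ComplexShape.up ℤ)).obj L) ((H₂.mapHomologicalComplex (ComplexShape.up ℤ)).obj K) B (ComplexShape.up ℤ)) :=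
  Hom.isoOfComponents
    (fun n => @asIso _ _ _ _ (mapTensX F₁ F₂ H₁ H₂ G B B' e L K n) (isIso_mapTensX F₁ F₂ H₁ H₂ G B B' e L K n))
    fun i j h => mapTensX_comm F₁ F₂ H₁ H₂ G B B' e he₁ he₂ L K i j h

end Groth.Agent.KFlat
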