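import Groth.Agent.KFlat.Derived
import Groth.Agent.KFlat.BoundedRes
import Groth.Agent.KFlat.FlatCoker
import Groth.Prelude.Def_DTor2
import Mathlib.Algebra.Homology.DerivedCategory.Fractions
import Mathlib.Algebra.Category.ModuleCat.Kernels

/-!
Tor amplitude on schemes through K-flat representatives.
-/

set_option autoImplicit false
set_option linter.unusedSectionVars false
universe u

namespace Groth.Agent.KFlat

open CategoryTheory Limits AlgebraicGeometry HomologicalComplex MonoidalCategory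

attribute [local instance] HasDerivedCategory.standard

variable {X Y Z : Scheme.{u}}

section Eval

variable {T : X.Modules ⥤ Z.Modules} [T.Additive]

/-- the value of a left derived functor at a K-flat complex -/
noncomputable def evalIso (hT : KFlatAcyclic T) (G : DCoh.D X ⥤ DCoh.D Z)
    (α : DerivedCategory.Qh ⋙ G ⟶ T.mapHomotopyCategory (ComplexShape.up ℤ) ⋙ DerivedCategory.Qh)
    [G.IsLeftDerivedFunctor α (HomotopyCategory.quasiIso X.Modules (ComplexShape.up ℤ))]
    {K : CochainComplex X.Modules ℤ} (hK : DCoh.IsKFlat K) :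
    G.obj (DerivedCategory.Q.obj K) ≅
      DerivedCategory.Q.obj ((T.mapHomologicalComplex (ComplexShape.up ℤ)).obj K) :=
  G.mapIso ((DerivedCategory.quotientCompQhIso X.Modules).app K).symm ≪≫
    @asIso _ _ _ _ (α.app ((HomotopyCategory.quotient X.Modules (ComplexShape.up ℤ)).obj K))
      (isIso_app_of_kFlat hT G α hK) ≪≫
    (DerivedCategory.quotientCompQhIso Z.Modules).app ((T.mapHomologicalComplex (ComplexShape.up ℤ)).obj K)

end Eval

/-- the cohomology sheaves of a complex -/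
noncomputable def hdIso (K : CochainComplex X.Modules ℤ) (i : ℤ) : DCoh.HD (DCoh.toD X K) i ≅ K.homology i :=
  (DerivedCategory.homologyFunctorFactors X.Modules i).app K

/-- termwise tensor with a module -/
noncomputable abbrev tR (M : X.Modules) : CochainComplex X.Modules ℤ ⥤ CochainComplex X.Modules ℤ :=
  (DCoh.tensorRightMod M).mapHomologicalComplex (ComplexShape.up ℤ)

/-- derived tensor with a module, evaluated at a K-flat complex -/
noncomputable def lTensorModIso (M : X.Modules) [DCoh.HasLTensorMod M] {K : CochainComplex X.Modules ℤ}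
    (hK : DCoh.IsKFlat K) :
    (DCoh.LTensorMod M).obj (DCoh.toD X K) ≅ DCoh.toD X ((tR M).obj K) :=
  evalIso (kFlatAcyclic_tensorRightMod M) (DCoh.LTensorMod M)
    ((DCoh.tensorModKh M).totalLeftDerivedCounit DerivedCategory.Qh
      (HomotopyCategory.quasiIso X.Modules (ComplexShape.up ℤ))) hK

/-- `K` has a K-flat representative whose tensor products with modules have cohomology in `[a, b]` -/
def TorRep (a b : ℤ) (E : DCoh.D X) : Prop :=
  ∃ K : CochainComplex X.Modules ℤ, DCoh.IsKFlat K ∧ Nonempty (DCoh.toD X K ≅ E) ∧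
    ∀ (M : X.Modules) (i : ℤ), (i < a ∨ b < i) → IsZero (((tR M).obj K).homology i)

lemma hasTorAmplitudeIn_of_torRep {a b : ℤ} {E : DCoh.D X} (h : TorRep a b E) :
    DCoh.HasTorAmplitudeIn a b E := by
  obtain ⟨K, hK, ⟨e⟩, h⟩ := h
  intro M _ i hi
  exact (h M i hi).of_iso ((DerivedCategory.homologyFunctor X.Modules i).mapIso
    ((DCoh.LTensorMod M).mapIso e.symm ≪≫ lTensorModIso M hK) ≪≫ hdIso _ i)

lemma isZero_of_hasTorAmplitudeIn {a b : ℤ} {E : DCoh.D X} (h : DCoh.HasTorAmplitudeIn a b E)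
    {K : CochainComplex X.Modules ℤ} (hK : DCoh.IsKFlat K) (e : DCoh.toD X K ≅ E)
    (M : X.Modules) (i : ℤ) (hi : i < a ∨ b < i) : IsZero (((tR M).obj K).homology i) := by
  have := hasLTensorMod M
  exact (h M i hi).of_iso ((DerivedCategory.homologyFunctor X.Modules i).mapIso
    ((DCoh.LTensorMod M).mapIso e.symm ≪≫ lTensorModIso M hK) ≪≫ hdIso _ i).symm

lemma exists_isKFlat_rep (E : DCoh.D X) :
    ∃ K : CochainComplex X.Modules ℤ, DCoh.IsKFlat K ∧ (∀ n, FlatMod.IsFlat (K.X n)) ∧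
      Nonempty (DCoh.toD X K ≅ E) := by
  have := Localization.essSurj (DerivedCategory.Q (C := X.Modules))
    (HomologicalComplex.quasiIso X.Modules (ComplexShape.up ℤ))
  obtain ⟨K, q, h1, h2, h3, -⟩ := exists_resolution_sch (DerivedCategory.Q.objPreimage E)
  exact ⟨K, h1, h2, ⟨@asIso _ _ _ _ (DerivedCategory.Q.map q) inferInstance ≪≫
    DerivedCategory.Q.objObjPreimageIso E⟩⟩

lemma torRep_iff {a b : ℤ} {E : DCoh.D X} : TorRep a b E ↔ DCoh.HasTorAmplitudeIn a b E :=
  ⟨hasTorAmplitudeIn_of_torRep, fun h => by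
    obtain ⟨K, hK, -, ⟨e⟩⟩ := exists_isKFlat_rep E
    exact ⟨K, hK, ⟨e⟩, fun M i hi => isZero_of_hasTorAmplitudeIn h hK e M i hi⟩⟩

/-- a bounded complex of flat modules is K-flat -/
lemma isKFlat_of_vanishesOutside {K : CochainComplex X.Modules ℤ} {a b : ℤ}
    (h : DCoh.VanishesOutside K a b) (hflat : ∀ n, FlatMod.IsFlat (K.X n)) : DCoh.IsKFlat K := by
  have : K.IsStrictlyLE b := (CochainComplex.isStrictlyLE_iff K b).2 fun i hi => h i (Or.inr hi)
  exact isKFlat_of_bounded_above_flat K b this hflat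

lemma torRep_of_flatAmplitude {a b : ℤ} {E : DCoh.D X} (h : DCoh.HasFlatAmplitudeIn a b E) :
    TorRep a b E := by
  obtain ⟨K, h1, h2, e⟩ := h
  exact ⟨K, isKFlat_of_vanishesOutside h1 h2, e, fun M i hi =>
    ShortComplex.isZero_homology_of_isZero_X₂ _ ((DCoh.tensorRightMod M).map_isZero (h1 i hi))⟩

lemma torRep_retract {a b : ℤ} {E E' : DCoh.D X} (h : DCoh.HasTorAmplitudeIn a b E) (s : E' ⟶ E)
    (r : E ⟶ E') (hsr : s ≫ r = 𝟙 E') : DCoh.HasTorAmplitudeIn a b E' := by
  intro M _ i hi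
  rw [IsZero.iff_id_eq_zero, ← CategoryTheory.Functor.map_id, ← CategoryTheory.Functor.map_id, ← hsr,
    Functor.map_comp, Functor.map_comp, (h M i hi).eq_of_tgt
      ((DerivedCategory.homologyFunctor X.Modules i).map ((DCoh.LTensorMod M).map s)) 0, zero_comp]

/-- the cone of a morphism between representatives -/
lemma torRep_cone {a b : ℤ} {T : Pretriangulated.Triangle (DCoh.D X)}
    (hT : T ∈ Pretriangulated.distinguishedTriangles)
    (h₁ : TorRep (a + 1) (b + 1) T.obj₁) (h₂ : TorRep a b T.obj₂) : TorRep a b T.obj₃ := by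
  obtain ⟨K, hK, ⟨eK⟩, hK0⟩ := h₁
  obtain ⟨L, hL, ⟨eL⟩, hL0⟩ := h₂
  obtain ⟨K', s, hs, g, hg⟩ := DerivedCategory.right_fac (eK.hom ≫ T.mor₁ ≫ eL.inv)
  let K'' := (resF X).obj K'
  let t : K'' ⟶ K' := (resψ X).app K'
  have hK'' : DCoh.IsKFlat K'' := isKFlat_resF K'
  have : IsIso (DerivedCategory.Q.map (t ≫ s)) := by rw [Functor.map_comp]; infer_instance
  have hts : QuasiIso (t ≫ s) := (DerivedCategory.isIso_Q_map_iff_quasiIso _ (t ≫ s)).1 this
  let C := CochainComplex.mappingCone (t ≫ g)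
  have hw : DerivedCategory.Q.map (t ≫ g) ≫ eL.hom = (DerivedCategory.Q.map (t ≫ s) ≫ eK.hom) ≫ T.mor₁ := by
    rw [← cancel_mono eL.inv]
    simp only [Category.assoc, Iso.hom_inv_id, Category.comp_id, Functor.map_comp, hg, IsIso.hom_inv_id_assoc]
  let e := Pretriangulated.isoTriangleOfIso₁₂ _ T
    (DerivedCategory.mappingCone_triangle_distinguished (t ≫ g)) hT
    (@asIso _ _ _ _ (DerivedCategory.Q.map (t ≫ s)) this ≪≫ eK) eL hw
  refine ⟨C, rflat_mappingCone_sch _ hK'' hL, ⟨Pretriangulated.Triangle.π₃.mapIso e⟩, fun M i hi => ?_⟩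
  let T' := DCoh.tensorRightMod M
  have := quasiIso_map_of_kFlat (kFlatAcyclic_tensorRightMod M) (t ≫ s) hK'' hK
  have h1 : IsZero (((tR M).obj K'').homology (i + 1)) :=
    (hK0 M (i + 1) (by lia)).of_iso (isoOfQuasiIsoAt ((tR M).map (t ≫ s)) (i + 1))
  have h2 := hL0 M i hi
  refine IsZero.of_iso ?_ ((homologyFunctor X.Modules (ComplexShape.up ℤ) i).mapIso
    (CochainComplex.mappingCone.mapHomologicalComplexIso (t ≫ g) T'))
  have hS := shortExact_of_splitting (coneSplitting ((tR M).map (t ≫ g)))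
  exact (hS.homology_exact₂ i).isZero_of_both_zeros (h2.eq_of_src _ _)
    ((h1.of_iso ((((homologyFunctor X.Modules (ComplexShape.up ℤ) 0).shiftIso 1 i (1 + i) rfl).app _) ≪≫
      eqToIso (by rw [add_comm]; rfl))).eq_of_tgt _ _)

lemma torRep_shift {a b : ℤ} {E : DCoh.D X} (h : TorRep a b E) (n a' b' : ℤ) (ha : n + a' = a)
    (hb : n + b' = b) : TorRep a' b' (E⟦n⟧) := by
  obtain ⟨K, hK, ⟨e⟩, h⟩ := h
  refine ⟨K⟦n⟧, (rflat_iff_sch _).2 (rflat_shift ((rflat_iff_sch K).1 hK) n),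
    ⟨(DerivedCategory.Q.commShiftIso n).app K ≪≫ (shiftFunctor (DCoh.D X) n).mapIso e⟩, fun M i hi => ?_⟩
  exact (h M (n + i) (by lia)).of_iso ((homologyFunctor X.Modules (ComplexShape.up ℤ) i).mapIso
    ((((DCoh.tensorRightMod M).mapHomologicalComplex (ComplexShape.up ℤ)).commShiftIso n).app K) ≪≫
    ((homologyFunctor X.Modules (ComplexShape.up ℤ) 0).shiftIso n i (n + i) rfl).app _)

end Groth.Agent.KFlat

namespace Groth.Agent.KFlat

open CategoryTheory Limits AlgebraicGeometry Pretriangulated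

attribute [local instance] HasDerivedCategory.standard

variable {X : Scheme.{u}}

lemma torRep_of_iso {a b : ℤ} {E E' : DCoh.D X} (e : E ≅ E') (h : TorRep a b E) : TorRep a b E' := by
  obtain ⟨K, hK, ⟨e'⟩, h⟩ := h
  exact ⟨K, hK, ⟨e' ≪≫ e⟩, h⟩

theorem torAmplitude_triangle_sch (T : Triangle (DCoh.D X)) (hT : T ∈ distinguishedTriangles) (a b : ℤ) :
    (DCoh.HasFlatAmplitudeIn (a + 1) (b + 1) T.obj₁ → DCoh.HasFlatAmplitudeIn a b T.obj₂ →
      DCoh.HasTorAmplitudeIn a b T.obj₃) ∧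
    (DCoh.HasFlatAmplitudeIn a b T.obj₁ → DCoh.HasFlatAmplitudeIn a b T.obj₃ →
      DCoh.HasTorAmplitudeIn a b T.obj₂) ∧
    (DCoh.HasFlatAmplitudeIn (a + 1) (b + 1) T.obj₂ → DCoh.HasFlatAmplitudeIn a b T.obj₃ →
      DCoh.HasTorAmplitudeIn (a + 1) (b + 1) T.obj₁) := by
  refine ⟨fun h₁ h₂ => ?_, fun h₁ h₃ => ?_, fun h₂ h₃ => ?_⟩
  · exact hasTorAmplitudeIn_of_torRep (torRep_cone hT (torRep_of_flatAmplitude h₁) (torRep_of_flatAmplitude h₂))
  · exact hasTorAmplitudeIn_of_torRep (torRep_cone (inv_rot_of_distTriang T hT)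
      (torRep_shift (torRep_of_flatAmplitude h₃) (-1) (a + 1) (b + 1) (by lia) (by lia))
      (torRep_of_flatAmplitude h₁))
  · have h := torRep_cone (rot_of_distTriang T hT) (torRep_of_flatAmplitude h₂) (torRep_of_flatAmplitude h₃)
    exact hasTorAmplitudeIn_of_torRep (torRep_of_iso ((shiftEquiv (DCoh.D X) (1 : ℤ)).unitIso.app T.obj₁).symm
      (torRep_shift h (-1) (a + 1) (b + 1) (by lia) (by lia)))

theorem torAmplitude_biprod_sch (K L : DCoh.D X) [HasBinaryBiproduct K L] (a b : ℤ)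
    (h : DCoh.HasFlatAmplitudeIn a b (K ⊞ L)) :
    DCoh.HasTorAmplitudeIn a b K ∧ DCoh.HasTorAmplitudeIn a b L := by
  have h' := hasTorAmplitudeIn_of_torRep (torRep_of_flatAmplitude h)
  exact ⟨torRep_retract h' biprod.inl biprod.fst (by simp), torRep_retract h' biprod.inr biprod.snd (by simp)⟩

end Groth.Agent.KFlat
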