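import Groth.Agent.KFlat.Acyclic
import Mathlib.Algebra.Homology.Bifunctor
import Mathlib.Algebra.Homology.BifunctorHomotopy
import Mathlib.Algebra.Homology.BifunctorShift
import Mathlib.Algebra.Homology.BifunctorFlip
import Mathlib.Algebra.Homology.HomologicalComplexLimits

/-!
Tensor product of cochain complexes along a bifunctor: maps of graded pieces, degreewise split
sequences, homotopies, colimits, complexes concentrated in one degree, symmetry.
-/

set_option autoImplicit false
universe v u w w'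

namespace Groth.Agent.KFlat

open CategoryTheory Limits HomologicalComplex

variable {A : Type u} [Category.{v} A] [Abelian A] (B : A ⥤ A ⥤ A) [B.Additive]
  [∀ X, (B.obj X).Additive]
  [∀ K L : CochainComplex A ℤ, HomologicalComplex.HasMapBifunctor K L B (ComplexShape.up ℤ)]

/-- total tensor product of complexes -/
noncomputable abbrev tens : CochainComplex A ℤ ⥤ CochainComplex A ℤ ⥤ CochainComplex A ℤ :=
  B.map₂CochainComplex

variable {K K' K'' L L' L'' : CochainComplex A ℤ}

/-- the map of total complexes in one degree induced by maps of graded objects -/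
noncomputable def tt (a : ∀ p, L.X p ⟶ L'.X p) (b : ∀ q, K.X q ⟶ K'.X q) (n : ℤ) :
    (HomologicalComplex.mapBifunctor L K B (ComplexShape.up ℤ)).X n ⟶
      (HomologicalComplex.mapBifunctor L' K' B (ComplexShape.up ℤ)).X n :=
  mapBifunctorDesc fun p q h => (B.map (a p)).app (K.X q) ≫ (B.obj (L'.X p)).map (b q) ≫
    HomologicalComplex.ιMapBifunctor L' K' B (ComplexShape.up ℤ) p q n h

@[reassoc]
lemma ι_tt (a : ∀ p, L.X p ⟶ L'.X p) (b : ∀ q, K.X q ⟶ K'.X q) (n p q : ℤ)
    (h : ComplexShape.π (ComplexShape.up ℤ) (ComplexShape.up ℤ) (ComplexShape.up ℤ) (p, q) = n) :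
    HomologicalComplex.ιMapBifunctor L K B (ComplexShape.up ℤ) p q n h ≫ tt B a b n =
      (B.map (a p)).app (K.X q) ≫ (B.obj (L'.X p)).map (b q) ≫
        HomologicalComplex.ιMapBifunctor L' K' B (ComplexShape.up ℤ) p q n h :=
  ι_mapBifunctorDesc _ p q h

lemma map_app_f (f : L ⟶ L') (K : CochainComplex A ℤ) (n : ℤ) :
    (((tens B).map f).app K).f n = tt B f.f (fun _ => 𝟙 _) n := by
  refine mapBifunctor.hom_ext fun p q h => ?_
  refine Eq.trans ?_ (ι_tt B _ _ n p q h).symm
  exact ι_mapBifunctorMap f (𝟙 K) B _ p q n h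

lemma obj_map_f (L : CochainComplex A ℤ) (g : K ⟶ K') (n : ℤ) :
    (((tens B).obj L).map g).f n = tt B (fun _ => 𝟙 _) g.f n := by
  refine mapBifunctor.hom_ext fun p q h => ?_
  refine Eq.trans ?_ (ι_tt B _ _ n p q h).symm
  exact ι_mapBifunctorMap (𝟙 L) g B _ p q n h

@[simp]
lemma tt_id (n : ℤ) : tt B (fun p => 𝟙 (L.X p)) (fun q => 𝟙 (K.X q)) n = 𝟙 _ := by
  refine mapBifunctor.hom_ext fun p q h => ?_
  rw [ι_tt]
  simp

@[simp]
lemma tt_zero_right (a : ∀ p, L.X p ⟶ L'.X p) (n : ℤ) :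
    tt B a (fun q => (0 : K.X q ⟶ K'.X q)) n = 0 := by
  refine mapBifunctor.hom_ext fun p q h => ?_
  rw [ι_tt]
  simp

@[simp]
lemma tt_zero_left (b : ∀ q, K.X q ⟶ K'.X q) (n : ℤ) :
    tt B (fun p => (0 : L.X p ⟶ L'.X p)) b n = 0 := by
  refine mapBifunctor.hom_ext fun p q h => ?_
  rw [ι_tt]
  simp

@[reassoc]
lemma tt_comp (a : ∀ p, L.X p ⟶ L'.X p) (a' : ∀ p, L'.X p ⟶ L''.X p) (b : ∀ q, K.X q ⟶ K'.X q)
    (b' : ∀ q, K'.X q ⟶ K''.X q) (n : ℤ) :
    tt B a b n ≫ tt B a' b' n = tt B (fun p => a p ≫ a' p) (fun q => b q ≫ b' q) n := by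
  refine mapBifunctor.hom_ext fun p q h => ?_
  rw [ι_tt_assoc, ι_tt, ι_tt]
  simp

lemma tt_add_right (a : ∀ p, L.X p ⟶ L'.X p) (b b' : ∀ q, K.X q ⟶ K'.X q) (n : ℤ) :
    tt B a b n + tt B a b' n = tt B a (fun q => b q + b' q) n := by
  refine mapBifunctor.hom_ext fun p q h => ?_
  rw [Preadditive.comp_add, ι_tt, ι_tt, ι_tt]
  simp

lemma tt_add_left (a a' : ∀ p, L.X p ⟶ L'.X p) (b : ∀ q, K.X q ⟶ K'.X q) (n : ℤ) :
    tt B a b n + tt B a' b n = tt B (fun p => a p + a' p) b n := by
  refine mapBifunctor.hom_ext fun p q h => ?_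
  rw [Preadditive.comp_add, ι_tt, ι_tt, ι_tt]
  simp

instance (L : CochainComplex A ℤ) : ((tens B).obj L).PreservesZeroMorphisms where
  map_zero K K' := by ext n : 1; rw [obj_map_f]; exact tt_zero_right B _ n

instance (K : CochainComplex A ℤ) : ((tens B).flip.obj K).PreservesZeroMorphisms where
  map_zero L L' := by
    ext n : 1
    rw [Functor.flip_obj_map, map_app_f]
    exact tt_zero_left B _ n

lemma tt_comp_eq_id (a : ∀ p, L.X p ⟶ L'.X p) (a' : ∀ p, L'.X p ⟶ L.X p)
    (b : ∀ q, K.X q ⟶ K'.X q) (b' : ∀ q, K'.X q ⟶ K.X q)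
    (ha : ∀ p, a p ≫ a' p = 𝟙 _) (hb : ∀ q, b q ≫ b' q = 𝟙 _) (n : ℤ) :
    tt B a b n ≫ tt B a' b' n = 𝟙 _ := by
  rw [tt_comp, funext ha, funext hb, tt_id]

lemma tt_split_right (b₁ : ∀ q, K'.X q ⟶ K.X q) (b₁' : ∀ q, K.X q ⟶ K'.X q)
    (b₂ : ∀ q, K'.X q ⟶ K''.X q) (b₂' : ∀ q, K''.X q ⟶ K'.X q)
    (h : ∀ q, b₁ q ≫ b₁' q + b₂ q ≫ b₂' q = 𝟙 _) (n : ℤ) :
    tt B (fun p => 𝟙 (L.X p)) b₁ n ≫ tt B (fun p => 𝟙 (L.X p)) b₁' n +
      tt B (fun p => 𝟙 (L.X p)) b₂ n ≫ tt B (fun p => 𝟙 (L.X p)) b₂' n = 𝟙 _ := by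
  rw [tt_comp, tt_comp]
  simp only [Category.comp_id]
  rw [tt_add_right, funext h, tt_id]

lemma tt_split_left (a₁ : ∀ p, L'.X p ⟶ L.X p) (a₁' : ∀ p, L.X p ⟶ L'.X p)
    (a₂ : ∀ p, L'.X p ⟶ L''.X p) (a₂' : ∀ p, L''.X p ⟶ L'.X p)
    (h : ∀ p, a₁ p ≫ a₁' p + a₂ p ≫ a₂' p = 𝟙 _) (n : ℤ) :
    tt B a₁ (fun q => 𝟙 (K.X q)) n ≫ tt B a₁' (fun q => 𝟙 (K.X q)) n +
      tt B a₂ (fun q => 𝟙 (K.X q)) n ≫ tt B a₂' (fun q => 𝟙 (K.X q)) n = 𝟙 _ := by
  rw [tt_comp, tt_comp]
  simp only [Category.comp_id]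
  rw [tt_add_left, funext h, tt_id]

/-- a degreewise split sequence stays degreewise split after tensoring on the left -/
noncomputable def splittingObj (L : CochainComplex A ℤ) (S : ShortComplex (CochainComplex A ℤ))
    (σ : ∀ n, (S.map (eval A _ n)).Splitting) (n : ℤ) :
    ((S.map ((tens B).obj L)).map (eval A _ n)).Splitting where
  r := tt B (fun _ => 𝟙 _) (fun q => (σ q).r) n
  s := tt B (fun _ => 𝟙 _) (fun q => (σ q).s) n
  f_r := by
    change (((tens B).obj L).map S.f).f n ≫ tt B _ _ n = 𝟙 _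
    erw [obj_map_f]
    exact tt_comp_eq_id B _ _ _ _ (fun p => Category.id_comp _) (fun q => (σ q).f_r) n
  s_g := by
    change tt B _ _ n ≫ (((tens B).obj L).map S.g).f n = 𝟙 _
    erw [obj_map_f]
    exact tt_comp_eq_id B _ _ _ _ (fun p => Category.id_comp _) (fun q => (σ q).s_g) n
  id := by
    have := tt_split_right B (L := L) (K := S.X₁) (K' := S.X₂) (K'' := S.X₃)
      (fun q => (σ q).r) S.f.f S.g.f (fun q => (σ q).s) (fun q => (σ q).id) n
    erw [← obj_map_f B L S.f n, ← obj_map_f B L S.g n] at this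
    exact this

/-- a degreewise split sequence stays degreewise split after tensoring on the right -/
noncomputable def splittingFlip (K : CochainComplex A ℤ) (S : ShortComplex (CochainComplex A ℤ))
    (σ : ∀ n, (S.map (eval A _ n)).Splitting) (n : ℤ) :
    ((S.map ((tens B).flip.obj K)).map (eval A _ n)).Splitting where
  r := tt B (fun p => (σ p).r) (fun _ => 𝟙 _) n
  s := tt B (fun p => (σ p).s) (fun _ => 𝟙 _) n
  f_r := by
    change (((tens B).map S.f).app K).f n ≫ tt B _ _ n = 𝟙 _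
    erw [map_app_f]
    exact tt_comp_eq_id B _ _ _ _ (fun q => (σ q).f_r) (fun p => Category.id_comp _) n
  s_g := by
    change tt B _ _ n ≫ (((tens B).map S.g).app K).f n = 𝟙 _
    erw [map_app_f]
    exact tt_comp_eq_id B _ _ _ _ (fun q => (σ q).s_g) (fun p => Category.id_comp _) n
  id := by
    have := tt_split_left B (K := K) (L := S.X₁) (L' := S.X₂) (L'' := S.X₃)
      (fun q => (σ q).r) S.f.f S.g.f (fun q => (σ q).s) (fun q => (σ q).id) n
    erw [← map_app_f B S.f K n, ← map_app_f B S.g K n] at this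
    exact this

/-- homotopies are preserved by tensoring on the left -/
noncomputable def homotopyObj (L : CochainComplex A ℤ) {a b : K ⟶ K'} (h : Homotopy a b) :
    Homotopy (((tens B).obj L).map a) (((tens B).obj L).map b) :=
  mapBifunctorMapHomotopy₂ (𝟙 L) h B _

/-- homotopies are preserved by tensoring on the right -/
noncomputable def homotopyFlip (K : CochainComplex A ℤ) {a b : L ⟶ L'} (h : Homotopy a b) :
    Homotopy (((tens B).flip.obj K).map a) (((tens B).flip.obj K).map b) :=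
  mapBifunctorMapHomotopy₁ h (𝟙 K) B _

section Colimit

variable {J : Type w} [Category.{w'} J] [HasColimitsOfShape J A]

lemma preservesColimitsOfShape_tens_obj (hB : ∀ X, PreservesColimitsOfShape J (B.obj X))
    (L : CochainComplex A ℤ) : PreservesColimitsOfShape J ((tens B).obj L) := by
  refine ⟨fun {D} => ⟨fun {c} hc => ⟨isColimitOfEval _ _ fun n => ?_⟩⟩⟩
  have hpq : ∀ p q, IsColimit ((eval A _ q ⋙ B.obj (L.X p)).mapCocone c) := fun p q =>
    haveI := hB (L.X p)
    isColimitOfPreserves (eval A _ q ⋙ B.obj (L.X p)) hc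
  refine ⟨fun s => mapBifunctorDesc fun p q h => (hpq p q).desc ⟨s.pt,
    { app := fun j => HomologicalComplex.ιMapBifunctor L (D.obj j) B (ComplexShape.up ℤ) p q n h ≫
        s.ι.app j
      naturality := fun i j f => ?_ }⟩, fun s j => ?_, fun s m hm => ?_⟩
  · have e : HomologicalComplex.ιMapBifunctor L (D.obj i) B (ComplexShape.up ℤ) p q n h ≫
        (((tens B).obj L).map (D.map f)).f n =
        (B.obj (L.X p)).map ((D.map f).f q) ≫
          HomologicalComplex.ιMapBifunctor L (D.obj j) B (ComplexShape.up ℤ) p q n h :=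
      (ι_mapBifunctorMap (𝟙 L) (D.map f) B _ p q n h).trans (by simp)
    change (B.obj (L.X p)).map ((D.map f).f q) ≫ _ ≫ s.ι.app j = (_ ≫ s.ι.app i) ≫ 𝟙 _
    rw [Category.comp_id, ← s.w f]
    exact ((Category.assoc _ _ _).symm.trans (congrArg (· ≫ s.ι.app j) e.symm)).trans (Category.assoc _ _ _)
  · refine mapBifunctor.hom_ext fun p q h => ?_
    have e : HomologicalComplex.ιMapBifunctor L (D.obj j) B (ComplexShape.up ℤ) p q n h ≫
        (((tens B).obj L).map (c.ι.app j)).f n =
        (B.obj (L.X p)).map ((c.ι.app j).f q) ≫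
          HomologicalComplex.ιMapBifunctor L c.pt B (ComplexShape.up ℤ) p q n h :=
      (ι_mapBifunctorMap (𝟙 L) (c.ι.app j) B _ p q n h).trans (by simp)
    change HomologicalComplex.ιMapBifunctor L (D.obj j) B (ComplexShape.up ℤ) p q n h ≫
      (((tens B).obj L).map (c.ι.app j)).f n ≫ mapBifunctorDesc _ = _
    refine (Category.assoc _ _ _).symm.trans ?_
    refine (congrArg (· ≫ mapBifunctorDesc _) e).trans ?_
    refine (Category.assoc _ _ _).trans ?_
    refine (congrArg ((B.obj (L.X p)).map ((c.ι.app j).f q) ≫ ·) (ι_mapBifunctorDesc _ p q h)).trans ?_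
    exact (hpq p q).fac _ j
  · refine mapBifunctor.hom_ext fun p q h => ?_
    refine Eq.trans ?_ (ι_mapBifunctorDesc _ p q h).symm
    refine (hpq p q).hom_ext fun j => ?_
    rw [IsColimit.fac]
    have e : HomologicalComplex.ιMapBifunctor L (D.obj j) B (ComplexShape.up ℤ) p q n h ≫
        (((tens B).obj L).map (c.ι.app j)).f n =
        (B.obj (L.X p)).map ((c.ι.app j).f q) ≫
          HomologicalComplex.ιMapBifunctor L c.pt B (ComplexShape.up ℤ) p q n h :=
      (ι_mapBifunctorMap (𝟙 L) (c.ι.app j) B _ p q n h).trans (by simp)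
    change (B.obj (L.X p)).map ((c.ι.app j).f q) ≫ _ ≫ m = _ ≫ s.ι.app j
    rw [← hm j]
    exact ((Category.assoc _ _ _).symm.trans (congrArg (· ≫ m) e.symm)).trans (Category.assoc _ _ _)

end Colimit

section Single

variable {B}

/-- `F` is flat for `B`: tensoring with `F` on the right preserves exactness -/
def FlatObj (B : A ⥤ A ⥤ A) [B.Additive] (F : A) : Prop :=
  ∀ S : ShortComplex A, S.Exact → (S.map (B.flip.obj F)).Exact

variable (B)

/-- the degree `p + m` term of `L ⊗ F[-m]` -/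
noncomputable def singleXIso (L : CochainComplex A ℤ) (F : A) (m p n : ℤ) (h : p + m = n) :
    (B.flip.obj F).obj (L.X p) ≅
      (((tens B).obj L).obj ((single A (ComplexShape.up ℤ) m).obj F)).X n where
  hom := (B.obj (L.X p)).map (singleObjXSelf (ComplexShape.up ℤ) m F).inv ≫
    HomologicalComplex.ιMapBifunctor L _ B (ComplexShape.up ℤ) p m n h
  inv := mapBifunctorDesc fun p' q hpq =>
    if hq : q = m then
      (B.obj (L.X p')).map (singleObjXIsoOfEq (ComplexShape.up ℤ) m F q hq).hom ≫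
        eqToHom (congrArg (fun t => (B.obj (L.X t)).obj F) (by
          have : p' + q = n := hpq
          lia))
    else 0
  hom_inv_id := by
    refine (Category.assoc _ _ _).trans ?_
    erw [ι_mapBifunctorDesc]
    rw [dif_pos rfl]
    simp [singleObjXSelf]
  inv_hom_id := by
    refine mapBifunctor.hom_ext fun p' q hpq => ?_
    refine (ι_mapBifunctorDesc_assoc _ p' q hpq _).trans ((?_ : _ = _).trans (Category.comp_id _).symm)
    split_ifs with hq
    · subst hq
      obtain rfl : p' = p := by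
        have : p' + q = n := hpq
        lia
      simp [singleObjXSelf]

    · rw [zero_comp]
      exact (Functor.map_isZero _ (isZero_single_obj_X (ComplexShape.up ℤ) m F q hq)).eq_of_src _ _

lemma singleXIso_comm (L : CochainComplex A ℤ) (F : A) (m p n : ℤ) (h : p + m = n) :
    (singleXIso B L F m p n h).hom ≫
      (((tens B).obj L).obj ((single A (ComplexShape.up ℤ) m).obj F)).d n (n + 1) =
    (B.flip.obj F).map (L.d p (p + 1)) ≫ (singleXIso B L F m (p + 1) (n + 1) (by lia)).hom := by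
  set S := (single A (ComplexShape.up ℤ) m).obj F
  change (_ ≫ HomologicalComplex.ιMapBifunctor L S B (ComplexShape.up ℤ) p m n h) ≫
      (HomologicalComplex.mapBifunctor L S B (ComplexShape.up ℤ)).d n (n + 1) =
    (B.map (L.d p (p + 1))).app F ≫ (_ ≫ _)
  rw [mapBifunctor.d_eq, Category.assoc, Preadditive.comp_add, mapBifunctor.ι_D₁, mapBifunctor.ι_D₂,
    mapBifunctor.d₂_eq' _ _ _ _ _ (show (ComplexShape.up ℤ).Rel m (m + 1) from rfl),
    single_obj_d, Functor.map_zero, zero_comp, smul_zero, add_zero,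
    mapBifunctor.d₁_eq _ _ _ _ (show (ComplexShape.up ℤ).Rel p (p + 1) from rfl) m (n + 1)
      (show p + 1 + m = n + 1 by lia),
    show ComplexShape.ε₁ (ComplexShape.up ℤ) (ComplexShape.up ℤ) (ComplexShape.up ℤ) (p, m) = 1 from rfl,
    one_smul]
  exact NatTrans.naturality_assoc (B.map (L.d p (p + 1))) (singleObjXSelf (ComplexShape.up ℤ) m F).inv _

lemma singleXIso_comm' (L : CochainComplex A ℤ) (F : A) (m p n n' : ℤ) (h : p + m = n)
    (h' : p + 1 + m = n') :
    (singleXIso B L F m p n h).hom ≫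
      (((tens B).obj L).obj ((single A (ComplexShape.up ℤ) m).obj F)).d n n' =
    (B.flip.obj F).map (L.d p (p + 1)) ≫ (singleXIso B L F m (p + 1) n' h').hom := by
  obtain rfl : n' = n + 1 := by lia
  exact singleXIso_comm B L F m p n h

lemma acyclic_tens_single {L : CochainComplex A ℤ} (hL : L.Acyclic) {F : A} (hF : FlatObj B F)
    (m : ℤ) : (((tens B).obj L).obj ((single A (ComplexShape.up ℤ) m).obj F)).Acyclic := by
  intro n
  obtain ⟨p, rfl⟩ : ∃ p, p + 1 + m = n := ⟨n - m - 1, by lia⟩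
  rw [exactAt_iff' _ (p + m) (p + 1 + m) (p + 1 + m + 1) (by simp; lia) (by simp)]
  have h := hF _ ((L.exactAt_iff' p (p + 1) (p + 1 + 1) (by simp) (by simp)).1 (hL (p + 1)))
  refine (ShortComplex.exact_iff_of_iso ?_).1 h
  refine ShortComplex.isoMk (singleXIso B L F m p (p + m) rfl)
    (singleXIso B L F m (p + 1) (p + 1 + m) rfl) (singleXIso B L F m (p + 1 + 1) (p + 1 + m + 1) (by lia)) ?_ ?_
  · exact singleXIso_comm' B L F m p (p + m) (p + 1 + m) rfl (by lia)
  · exact singleXIso_comm B L F m (p + 1) (p + 1 + m) rfl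

end Single

section Symmetry

variable {B} (e : B ≅ B.flip)

/-- the symmetry of the total tensor product induced by a symmetry of the bifunctor -/
noncomputable def swapIso (L K : CochainComplex A ℤ) :
    ((tens B).obj L).obj K ≅ ((tens B).obj K).obj L :=
  HomologicalComplex₂.total.mapIso
      (K := ((B.mapBifunctorHomologicalComplex _ _).obj L).obj K)
      (L := ((B.flip.mapBifunctorHomologicalComplex _ _).obj L).obj K)
      (Hom.isoOfComponents (fun p => Hom.isoOfComponents
        (fun q => (e.app (L.X p)).app (K.X q))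
        (fun q q' _ => ((e.hom.app (L.X p)).naturality (K.d q q')).symm))
      (fun p p' _ => by
        ext q
        exact (NatTrans.congr_app (e.hom.naturality (L.d p p')) (K.X q)).symm)) _ ≪≫
    mapBifunctorFlipIso K L B (ComplexShape.up ℤ)

end Symmetry

end Groth.Agent.KFlat
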