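import Groth.Agent.KFlat.Assoc
import Groth.Agent.KFlat.LTensorCx

/-!
`(- ⊗^L K) ⊗^L L ≅ - ⊗^L (K ⊗ L)` for K-flat `L`.
-/

set_option autoImplicit false
set_option linter.unusedSectionVars false
universe u

namespace Groth.Agent.KFlat

open CategoryTheory Limits AlgebraicGeometry HomologicalComplex

attribute [local instance] HasDerivedCategory.standard

variable {X : Scheme.{u}}

/-- associativity of the total tensor product, as functors of the first variable -/
noncomputable def tensorCxAssoc (K L : CochainComplex X.Modules ℤ) :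
    (DCoh.tensorCx (X := X)).flip.obj K ⋙ (DCoh.tensorCx (X := X)).flip.obj L ≅
      (DCoh.tensorCx (X := X)).flip.obj ((DCoh.tensorCx.obj K).obj L) :=
  NatIso.ofComponents (fun P => assocTot X.sheaf P K L) fun f => assocTot_natural X.sheaf f K L

variable (K L : CochainComplex X.Modules ℤ) [DCoh.HasLTensorCx K] [DCoh.HasLTensorCx L]

/-- the comparison from the composite of derived tensor products -/
noncomputable def ltCompCounit :
    DerivedCategory.Q ⋙ (DCoh.LTensorCx K ⋙ DCoh.LTensorCx L) ⟶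
      DCoh.tensorCxQ ((DCoh.tensorCx.obj K).obj L) :=
  (Functor.associator _ _ _).inv ≫ Functor.whiskerRight (ltCounit K) (DCoh.LTensorCx L) ≫
    (Functor.associator _ _ _).hom ≫ Functor.whiskerLeft ((DCoh.tensorCx (X := X)).flip.obj K) (ltCounit L) ≫
    (Functor.associator _ _ _).inv ≫ Functor.whiskerRight (tensorCxAssoc K L).hom DerivedCategory.Q

variable {L}

lemma isIso_ltCompCounit_app (hL : DCoh.IsKFlat L) {P : CochainComplex X.Modules ℤ} (hP : DCoh.IsKFlat P) :
    IsIso ((ltCompCounit K L).app P) := by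
  simp only [ltCompCounit, NatTrans.comp_app, Functor.associator_hom_app, Functor.associator_inv_app,
    Functor.whiskerLeft_app, Functor.whiskerRight_app]
  have h1 : IsIso ((DCoh.LTensorCx L).map ((ltCounit K).app P)) :=
    have := isIso_ltCounit_app K hP
    Functor.map_isIso _ _
  have h2 := isIso_ltCounit_app_of_kFlat hL (((DCoh.tensorCx (X := X)).flip.obj K).obj P)
  have h3 : IsIso (DerivedCategory.Q.map ((tensorCxAssoc K L).hom.app P)) := inferInstance
  exact IsIso.comp_isIso' (Iso.refl _).isIso_hom (IsIso.comp_isIso' h1 (IsIso.comp_isIso' (Iso.refl _).isIso_hom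
    (IsIso.comp_isIso' h2 (IsIso.comp_isIso' (Iso.refl _).isIso_hom h3))))

lemma isLeftDerivedFunctor_ltComp (hL : DCoh.IsKFlat L) :
    (DCoh.LTensorCx K ⋙ DCoh.LTensorCx L).IsLeftDerivedFunctor (ltCompCounit K L)
      (HomologicalComplex.quasiIso X.Modules (ComplexShape.up ℤ)) :=
  (leftResTensorCx ((DCoh.tensorCx.obj K).obj L)).isLeftDerivedFunctor_of_isIso _ _
    fun _ hP => isIso_ltCompCounit_app K hL hP

/-- `(- ⊗^L K) ⊗^L L ≅ - ⊗^L (K ⊗ L)` for K-flat `L` -/
noncomputable def ltCompIso (hL : DCoh.IsKFlat L) [DCoh.HasLTensorCx ((DCoh.tensorCx.obj K).obj L)] :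
    DCoh.LTensorCx K ⋙ DCoh.LTensorCx L ≅ DCoh.LTensorCx ((DCoh.tensorCx.obj K).obj L) :=
  have := isLeftDerivedFunctor_ltComp K hL
  Functor.leftDerivedUnique _ _ (ltCompCounit K L) (ltCounit ((DCoh.tensorCx.obj K).obj L))
    (HomologicalComplex.quasiIso X.Modules (ComplexShape.up ℤ))

end Groth.Agent.KFlat
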