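import Mathlib.Algebra.Homology.HomotopyCategory.Pretriangulated
import Mathlib.Algebra.Homology.HomotopyCategory.ShiftSequence
import Mathlib.Algebra.Homology.HomologicalComplexAbelian
import Mathlib.Algebra.Homology.HomologySequence
import Mathlib.Algebra.Homology.QuasiIso
import Mathlib.Algebra.Homology.SingleHomology
import Mathlib.CategoryTheory.Abelian.GrothendieckAxioms.Colim

/-!
Acyclic complexes: extensions, shifts, colimits; a criterion for a functor on complexes
(exact on degreewise split sequences and homotopy invariant) to preserve a quasi-isomorphism.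
-/

set_option autoImplicit false
universe v u w w' v' u'

namespace Groth.Agent.KFlat

open CategoryTheory Limits HomologicalComplex

variable {A : Type u} [Category.{v} A] [Abelian A]

lemma acyclic_iff_isZero {K : CochainComplex A ℤ} :
    K.Acyclic ↔ ∀ i, IsZero (K.homology i) :=
  forall_congr' fun i => exactAt_iff_isZero_homology K i

lemma acyclic_of_iso {K L : CochainComplex A ℤ} (e : K ≅ L) (h : K.Acyclic) : L.Acyclic :=
  fun i => (h i).of_iso e

lemma acyclic_of_isZero {K : CochainComplex A ℤ} (h : ∀ i, IsZero (K.X i)) : K.Acyclic :=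
  fun i => ShortComplex.exact_of_isZero_X₂ _ (h i)

lemma acyclic_shift {K : CochainComplex A ℤ} (h : K.Acyclic) (n : ℤ) : (K⟦n⟧).Acyclic :=
  acyclic_iff_isZero.2 fun i => (acyclic_iff_isZero.1 h (n + i)).of_iso
    (((homologyFunctor A (ComplexShape.up ℤ) 0).shiftIso n i (n + i) rfl).app K)

lemma acyclic_of_shift {K : CochainComplex A ℤ} (n : ℤ) (h : (K⟦n⟧).Acyclic) : K.Acyclic :=
  acyclic_of_iso ((shiftEquiv (CochainComplex A ℤ) n).unitIso.app K).symm (acyclic_shift h (-n))

section ShortExact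

variable {S : ShortComplex (CochainComplex A ℤ)} (hS : S.ShortExact)
include hS

lemma acyclic₁ (h₂ : S.X₂.Acyclic) (h₃ : S.X₃.Acyclic) : S.X₁.Acyclic :=
  acyclic_iff_isZero.2 fun i => (hS.homology_exact₁ (i - 1) i (by simp)).isZero_of_both_zeros
    ((acyclic_iff_isZero.1 h₃ _).eq_of_src _ _) ((acyclic_iff_isZero.1 h₂ _).eq_of_tgt _ _)

lemma acyclic₂ (h₁ : S.X₁.Acyclic) (h₃ : S.X₃.Acyclic) : S.X₂.Acyclic :=
  acyclic_iff_isZero.2 fun i => (hS.homology_exact₂ i).isZero_of_both_zeros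
    ((acyclic_iff_isZero.1 h₁ _).eq_of_src _ _) ((acyclic_iff_isZero.1 h₃ _).eq_of_tgt _ _)

lemma acyclic₃ (h₁ : S.X₁.Acyclic) (h₂ : S.X₂.Acyclic) : S.X₃.Acyclic :=
  acyclic_iff_isZero.2 fun i => (hS.homology_exact₃ i (i + 1) (by simp)).isZero_of_both_zeros
    ((acyclic_iff_isZero.1 h₂ _).eq_of_src _ _) ((acyclic_iff_isZero.1 h₁ _).eq_of_tgt _ _)

lemma quasiIso_f (h₃ : S.X₃.Acyclic) : QuasiIso S.f where
  quasiIsoAt k := by
    rw [quasiIsoAt_iff_isIso_homologyMap]
    have : Mono (homologyMap S.f k) :=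
      (hS.homology_exact₁ (k - 1) k (by simp)).mono_g ((acyclic_iff_isZero.1 h₃ _).eq_of_src _ _)
    have : Epi (homologyMap S.f k) :=
      (hS.homology_exact₂ k).epi_f ((acyclic_iff_isZero.1 h₃ _).eq_of_tgt _ _)
    exact isIso_of_mono_of_epi _

lemma acyclic₃_of_quasiIso [QuasiIso S.f] : S.X₃.Acyclic :=
  acyclic_iff_isZero.2 fun i => (hS.homology_exact₃ i (i + 1) (by simp)).isZero_of_both_zeros
    ((cancel_epi (homologyMap S.f i)).1 (by rw [← homologyMap_comp, S.zero, homologyMap_zero, comp_zero]))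
    ((cancel_mono (homologyMap S.f (i + 1))).1 (by rw [hS.δ_comp i (i + 1) (by simp), zero_comp]))

end ShortExact

lemma shortExact_of_splitting {S : ShortComplex (CochainComplex A ℤ)}
    (σ : ∀ n, (S.map (eval A _ n)).Splitting) : S.ShortExact :=
  shortExact_of_degreewise_shortExact S fun n => (σ n).shortExact

section Cylinder

open CochainComplex

variable {K L : CochainComplex A ℤ} (f : K ⟶ L)

/-- the degreewise split sequence `K → L ⊞ cone(𝟙 K) → cone f` -/
noncomputable def cylSC : ShortComplex (CochainComplex A ℤ) :=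
  ShortComplex.mk (biprod.lift f (mappingCone.inr (𝟙 K)))
    (biprod.desc (mappingCone.inr f)
      (-mappingCone.map (𝟙 K) f (𝟙 K) f (by simp)))
    (by
      rw [biprod.lift_desc, Preadditive.comp_neg]
      simp [mappingCone.map])

/-- auxiliary retraction -/
noncomputable def cylR (n : ℤ) : (L ⊞ mappingCone (𝟙 K)).X n ⟶ K.X n :=
  (biprod.snd : L ⊞ mappingCone (𝟙 K) ⟶ _).f n ≫ (mappingCone.snd (𝟙 K)).v n n (add_zero n)

/-- auxiliary section -/
noncomputable def cylS (n : ℤ) : (mappingCone f).X n ⟶ (L ⊞ mappingCone (𝟙 K)).X n :=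
  -(mappingCone.fst f).1.v n (n + 1) rfl ≫ (mappingCone.inl (𝟙 K)).v (n + 1) n (by lia) ≫
      (biprod.inr : mappingCone (𝟙 K) ⟶ L ⊞ mappingCone (𝟙 K)).f n +
    (mappingCone.snd f).v n n (add_zero n) ≫ (biprod.inl : L ⟶ L ⊞ mappingCone (𝟙 K)).f n

lemma biprod_f_ext {M N : CochainComplex A ℤ} {Z : A} (n : ℤ) {a b : (M ⊞ N).X n ⟶ Z}
    (h₁ : (biprod.inl : M ⟶ M ⊞ N).f n ≫ a = (biprod.inl : M ⟶ M ⊞ N).f n ≫ b)
    (h₂ : (biprod.inr : N ⟶ M ⊞ N).f n ≫ a = (biprod.inr : N ⟶ M ⊞ N).f n ≫ b) : a = b := by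
  have h : (biprod.fst : M ⊞ N ⟶ _).f n ≫ (biprod.inl : _ ⟶ M ⊞ N).f n +
      (biprod.snd : M ⊞ N ⟶ _).f n ≫ (biprod.inr : _ ⟶ M ⊞ N).f n = 𝟙 _ := by
    rw [← HomologicalComplex.comp_f, ← HomologicalComplex.comp_f, ← HomologicalComplex.add_f_apply,
      biprod.total, id_f]
  rw [← Category.id_comp a, ← Category.id_comp b, ← h]
  simp only [Preadditive.add_comp, Category.assoc, h₁, h₂]

lemma cylF_R (n : ℤ) :
    (biprod.lift f (mappingCone.inr (𝟙 K))).f n ≫ cylR (K := K) (L := L) n = 𝟙 (K.X n) := by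
  rw [cylR, ← HomologicalComplex.comp_f_assoc, biprod.lift_snd, mappingCone.inr_f_snd_v]

lemma inl_map_f (n : ℤ) :
    (mappingCone.inl (𝟙 K)).v (n + 1) n (by lia) ≫ (mappingCone.map (𝟙 K) f (𝟙 K) f (by simp)).f n =
      (mappingCone.inl f).v (n + 1) n (by lia) := by
  simp [mappingCone.map]

lemma inr_map_f (n : ℤ) :
    (mappingCone.inr (𝟙 K)).f n ≫ (mappingCone.map (𝟙 K) f (𝟙 K) f (by simp)).f n =
      f.f n ≫ (mappingCone.inr f).f n := by
  simp [mappingCone.map]

lemma cylS_G (n : ℤ) : cylS f n ≫ (biprod.desc (mappingCone.inr f)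
    (-mappingCone.map (𝟙 K) f (𝟙 K) f (by simp))).f n = 𝟙 ((mappingCone f).X n) := by
  simp only [cylS, Preadditive.add_comp, Preadditive.neg_comp, Category.assoc, ← HomologicalComplex.comp_f,
    biprod.inr_desc, biprod.inl_desc, neg_f_apply, Preadditive.comp_neg, neg_neg, inl_map_f]
  exact (mappingCone.id_X f n (n + 1) rfl)

lemma cyl_id (n : ℤ) :
    cylR (K := K) (L := L) n ≫ (biprod.lift f (mappingCone.inr (𝟙 K))).f n +
      (biprod.desc (mappingCone.inr f) (-mappingCone.map (𝟙 K) f (𝟙 K) f (by simp))).f n ≫ cylS f n =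
    𝟙 ((L ⊞ mappingCone (𝟙 K)).X n) := by
  have e : (biprod.lift f (mappingCone.inr (𝟙 K))).f n =
      f.f n ≫ (biprod.inl : _ ⟶ L ⊞ mappingCone (𝟙 K)).f n +
        (mappingCone.inr (𝟙 K)).f n ≫ (biprod.inr : _ ⟶ L ⊞ mappingCone (𝟙 K)).f n := by
    rw [biprod.lift_eq]; simp
  refine biprod_f_ext n ?_ ?_
  · simp [cylR, cylS, ← HomologicalComplex.comp_f_assoc]
  · rw [Preadditive.comp_add, cylR, e]
    simp only [Category.assoc, ← HomologicalComplex.comp_f_assoc, biprod.inr_snd, id_f,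
      Category.id_comp, biprod.inr_desc, Category.comp_id, neg_f_apply, Preadditive.neg_comp]
    refine (mappingCone.ext_from_iff _ (n + 1) n rfl _ _).2 ⟨?_, ?_⟩
    · simp [cylS, mappingCone.map]
    · simp [cylS, mappingCone.map]

/-- the splitting of `cylSC` -/
noncomputable def cylSplitting (n : ℤ) : ((cylSC f).map (eval A _ n)).Splitting where
  r := cylR n
  s := cylS f n
  f_r := cylF_R f n
  s_g := cylS_G f n
  id := cyl_id f n

/-- `L ⊞ cone(𝟙 K) → L` is a homotopy equivalence -/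
noncomputable def cylHomotopy :
    Homotopy ((biprod.fst : L ⊞ mappingCone (𝟙 K) ⟶ L) ≫ biprod.inl) (𝟙 _) :=
  ((Homotopy.ofEq (by simp)).trans
    (((((mappingCone.homotopyToZeroOfId K).compRight
      (biprod.inr : _ ⟶ L ⊞ mappingCone (𝟙 K))).compLeft
        (biprod.snd : L ⊞ mappingCone (𝟙 K) ⟶ _)).symm).add (Homotopy.refl (biprod.fst ≫ biprod.inl)))).trans
    (Homotopy.ofEq (by simp [add_comm]))

variable {B : Type u'} [Category.{v'} B] [Abelian B]
  (T : CochainComplex A ℤ ⥤ CochainComplex B ℤ) [T.PreservesZeroMorphisms]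
  (hs : ∀ (S : ShortComplex (CochainComplex A ℤ)),
    (∀ n, (S.map (eval A _ n)).Splitting) → (S.map T).ShortExact)
  (hh : ∀ {P Q : CochainComplex A ℤ} {a b : P ⟶ Q}, Homotopy a b →
    ∀ i, homologyMap (T.map a) i = homologyMap (T.map b) i)

include hs hh in
/-- If `T` is exact on degreewise split sequences and homotopy invariant, and `T (cone f)` is acyclic,
then `T f` is a quasi-isomorphism. -/
lemma quasiIso_map_of_acyclic_cone (h : (T.obj (mappingCone f)).Acyclic) : QuasiIso (T.map f) := by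
  have hq : QuasiIso (T.map (cylSC f).f) := quasiIso_f (hs _ (cylSplitting f)) h
  have hp : QuasiIso (T.map (biprod.fst : L ⊞ mappingCone (𝟙 K) ⟶ L)) := by
    refine ⟨fun i => (quasiIsoAt_iff_isIso_homologyMap _ _).2
      ⟨homologyMap (T.map (biprod.inl : L ⟶ L ⊞ mappingCone (𝟙 K))) i, ?_, ?_⟩⟩
    · rw [← homologyMap_comp, ← T.map_comp, hh (cylHomotopy (K := K) (L := L)) i, T.map_id,
        homologyMap_id]
    · rw [← homologyMap_comp, ← T.map_comp, biprod.inl_fst, T.map_id, homologyMap_id]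
  have : T.map f = T.map (biprod.lift f (mappingCone.inr (𝟙 K))) ≫
      T.map (biprod.fst : L ⊞ mappingCone (𝟙 K) ⟶ L) := by
    rw [← T.map_comp, biprod.lift_fst]
  have hq' : QuasiIso (T.map (biprod.lift f (mappingCone.inr (𝟙 K)))) := hq
  rw [this]
  exact quasiIso_comp _ _

omit T hs hh in
lemma mappingCone_acyclic [QuasiIso f] : (CochainComplex.mappingCone f).Acyclic := by
  have hp : ∀ i, IsIso (homologyMap (biprod.fst : L ⊞ mappingCone (𝟙 K) ⟶ L) i) := fun i =>
    ⟨homologyMap (biprod.inl : L ⟶ L ⊞ mappingCone (𝟙 K)) i,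
      by rw [← homologyMap_comp, (cylHomotopy (K := K) (L := L)).homologyMap_eq i, homologyMap_id],
      by rw [← homologyMap_comp, biprod.inl_fst, homologyMap_id]⟩
  have : QuasiIso (biprod.fst : L ⊞ mappingCone (𝟙 K) ⟶ L) :=
    ⟨fun i => (quasiIsoAt_iff_isIso_homologyMap _ _).2 (hp i)⟩
  have h2 : QuasiIso (biprod.lift f (mappingCone.inr (𝟙 K)) ≫
      (biprod.fst : L ⊞ mappingCone (𝟙 K) ⟶ L)) := by
    rw [biprod.lift_fst]; infer_instance
  have : QuasiIso (biprod.lift f (mappingCone.inr (𝟙 K))) := quasiIso_of_comp_right _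
    (biprod.fst : L ⊞ mappingCone (𝟙 K) ⟶ L)
  exact @acyclic₃_of_quasiIso _ _ _ (cylSC f) (shortExact_of_splitting (cylSplitting f)) this

end Cylinder

section Colimit

variable {J : Type w} [Category.{w'} J] [HasColimitsOfShape J A] [HasExactColimitsOfShape J A]

/-- exactness in a functor category is pointwise -/
lemma exact_of_pointwise {I : Type w} [Category.{w'} I] (S : ShortComplex (I ⥤ A))
    (h : ∀ j, (S.map ((evaluation I A).obj j)).Exact) : S.Exact := by
  rw [ShortComplex.exact_iff_isZero_homology]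
  refine Functor.isZero _ fun j => ?_
  exact ((ShortComplex.exact_iff_isZero_homology _).1 (h j)).of_iso
    (S.mapHomologyIso ((evaluation I A).obj j)).symm

/-- a colimit (of shape with exact colimits) of acyclic complexes is acyclic -/
lemma acyclic_of_isColimit {D : J ⥤ CochainComplex A ℤ} {c : Cocone D} (hc : IsColimit c)
    (h : ∀ j, (D.obj j).Acyclic) : c.pt.Acyclic := by
  intro i
  rw [exactAt_iff' _ (i - 1) i (i + 1) (by simp) (by simp)]
  let S : ShortComplex (J ⥤ A) := ShortComplex.mk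
    (Functor.whiskerLeft D (dNatTrans A (ComplexShape.up ℤ) (i - 1) i))
    (Functor.whiskerLeft D (dNatTrans A (ComplexShape.up ℤ) i (i + 1))) (by ext j; exact (D.obj j).d_comp_d _ _ _)
  have hS : S.Exact := exact_of_pointwise S fun j =>
    ((D.obj j).exactAt_iff' (i - 1) i (i + 1) (by simp) (by simp)).1 (h j i)
  have := colim.exact_mapShortComplex hS (isColimitOfPreserves (eval A _ (i - 1)) hc)
    (c₂ := (eval A _ i).mapCocone c) (isColimitOfPreserves (eval A _ i) hc)
    (c₃ := (eval A _ (i + 1)).mapCocone c) (isColimitOfPreserves (eval A _ (i + 1)) hc)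
    (c.pt.d (i - 1) i) (c.pt.d i (i + 1))
    (fun j => (c.ι.app j).comm (i - 1) i) (fun j => (c.ι.app j).comm i (i + 1))
  exact this

omit [HasColimitsOfShape J A] [HasExactColimitsOfShape J A] in
lemma acyclic_biprod {K L : CochainComplex A ℤ} (h₁ : K.Acyclic) (h₂ : L.Acyclic) :
    (K ⊞ L).Acyclic :=
  acyclic₂ (S := ShortComplex.mk (biprod.inl : K ⟶ K ⊞ L) biprod.snd (by simp))
    (ShortComplex.Splitting.shortExact ⟨biprod.fst, biprod.inr, by simp, by simp, biprod.total⟩) h₁ h₂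

end Colimit

end Groth.Agent.KFlat
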