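import Groth.Agent.KFlat.Functorial
import Groth.Agent.KFlat.LeftDerived
import Groth.Agent.KFlat.Pullback

/-!
Left derived functors on schemes computed by functorial K-flat resolutions.
-/

set_option autoImplicit false
set_option linter.unusedSectionVars false
universe u w w'

namespace Groth.Agent.KFlat

open CategoryTheory Limits AlgebraicGeometry HomologicalComplex

attribute [local instance] HasDerivedCategory.standard

section Cover

variable {C : Type u} [SmallCategory C] {J : GrothendieckTopology C} (O : Sheaf J CommRingCat.{u})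

/-- free modules ⊣ underlying sets, through sheafification -/
noncomputable def freeShAdj :=
  (PresheafOfModules.freeAdjunction.{u} (R := (ModSite.ringSh O).obj)).comp
    (PresheafOfModules.sheafificationAdjunction.{u} (R := ModSite.ringSh O) (𝟙 (ModSite.ringSh O).obj))

/-- the functorial flat cover -/
noncomputable def coverFunctor : ModSite.Mod O ⥤ ModSite.Mod O :=
  (SheafOfModules.forget (ModSite.ringSh O) ⋙ PresheafOfModules.restrictScalars (𝟙 (ModSite.ringSh O).obj) ⋙
    PresheafOfModules.toPresheaf _ ⋙ (Functor.whiskeringRight _ _ _).obj (forget Ab)) ⋙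
    PresheafOfModules.free _ ⋙ PresheafOfModules.sheafification (𝟙 (ModSite.ringSh O).obj)

/-- the map from the functorial flat cover -/
noncomputable def coverNat : coverFunctor O ⟶ 𝟭 _ := (freeShAdj O).counit

instance epi_coverNat (F : ModSite.Mod O) : Epi ((coverNat O).app F) :=
  Adjunction.counit_epi_of_R_faithful (freeShAdj O) F

lemma flatObj_coverFunctor (F : ModSite.Mod O) :
    FlatObj (ModSite.tensorBi O) ((coverFunctor O).obj F) :=
  flatObj_sheafify_free O _

/-- functorial K-flat resolutions on a ringed site -/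
theorem exists_functorial_resolution_site :
    ∃ (ρ : CochainComplex (ModSite.Mod O) ℤ ⥤ CochainComplex (ModSite.Mod O) ℤ) (ψ : ρ ⟶ 𝟭 _),
      ∀ G, RFlat (ModSite.tensorBi O) (ρ.obj G) ∧ (∀ n, FlatObj (ModSite.tensorBi O) ((ρ.obj G).X n)) ∧
        QuasiIso (ψ.app G) :=
  ⟨resFunctor (coverFunctor O) (coverNat O), resNat (coverFunctor O) (coverNat O), fun G =>
    resFunctor_spec (coverFunctor O) (coverNat O) (ModSite.tensorBi O) (flatObj_coverFunctor O)
      (preservesColimits_nat O) (preservesColimits_discrete O ℤ) G⟩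

end Cover

variable {X Y : Scheme.{u}}

/-- functorial K-flat resolutions on a scheme -/
theorem exists_functorial_resolution (X : Scheme.{u}) :
    ∃ (ρ : CochainComplex X.Modules ℤ ⥤ CochainComplex X.Modules ℤ) (ψ : ρ ⟶ 𝟭 _),
      ∀ G, DCoh.IsKFlat (ρ.obj G) ∧ (∀ n, FlatMod.IsFlat ((ρ.obj G).X n)) ∧ QuasiIso (ψ.app G) := by
  obtain ⟨ρ, ψ, h⟩ := exists_functorial_resolution_site X.sheaf
  exact ⟨ρ, ψ, fun G => ⟨(rflat_iff_sch _).2 (h G).1, fun n => isFlat_of_flatObj ((h G).2.1 n), (h G).2.2⟩⟩

variable (X) in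
/-- the chosen resolution functor -/
noncomputable def resF : CochainComplex X.Modules ℤ ⥤ CochainComplex X.Modules ℤ :=
  (exists_functorial_resolution X).choose

variable (X) in
/-- its augmentation -/
noncomputable def resψ : resF X ⟶ 𝟭 _ := (exists_functorial_resolution X).choose_spec.choose

lemma isKFlat_resF (G : CochainComplex X.Modules ℤ) : DCoh.IsKFlat ((resF X).obj G) :=
  ((exists_functorial_resolution X).choose_spec.choose_spec G).1

instance quasiIso_resψ (G : CochainComplex X.Modules ℤ) : QuasiIso ((resψ X).app G) :=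
  ((exists_functorial_resolution X).choose_spec.choose_spec G).2.2

lemma rflat_mappingCone_sch {K L : CochainComplex X.Modules ℤ} (α : K ⟶ L) (hK : DCoh.IsKFlat K)
    (hL : DCoh.IsKFlat L) : DCoh.IsKFlat (CochainComplex.mappingCone α) :=
  (rflat_iff_sch _).2 (rflat_mappingCone α ((rflat_iff_sch K).1 hK) ((rflat_iff_sch L).1 hL))

section Additive

variable {Z : Scheme.{u}} (T : X.Modules ⥤ Z.Modules) [T.Additive]

/-- `T` keeps acyclic K-flat complexes acyclic -/
def KFlatAcyclic : Prop :=
  ∀ K : CochainComplex X.Modules ℤ, DCoh.IsKFlat K → K.Acyclic →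
    ((T.mapHomologicalComplex (ComplexShape.up ℤ)).obj K).Acyclic

variable {T} (hT : KFlatAcyclic T)
include hT

lemma quasiIso_map_of_kFlat {K L : CochainComplex X.Modules ℤ} (α : K ⟶ L) [QuasiIso α]
    (hK : DCoh.IsKFlat K) (hL : DCoh.IsKFlat L) :
    QuasiIso ((T.mapHomologicalComplex (ComplexShape.up ℤ)).map α) :=
  quasiIso_of_acyclic_mappingCone _ (acyclic_of_iso
    (CochainComplex.mappingCone.mapHomologicalComplexIso α T)
    (hT _ (rflat_mappingCone_sch α hK hL) (mappingCone_acyclic α)))

/-- the derived functor datum of `T` -/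
noncomputable def leftResOfKFlatAcyclic :
    LeftRes (HomologicalComplex.quasiIso X.Modules (ComplexShape.up ℤ))
      (HomotopyCategory.quotient X.Modules (ComplexShape.up ℤ) ⋙
        T.mapHomotopyCategory (ComplexShape.up ℤ) ⋙ DerivedCategory.Qh) DCoh.IsKFlat where
  ρ := resF X
  ψ := resψ X
  mem := isKFlat_resF
  weq G := quasiIso_resψ G
  isIso_map {K L} α hK hL hα := by
    have : QuasiIso α := hα
    have := quasiIso_map_of_kFlat hT α hK hL
    change IsIso (DerivedCategory.Qh.map ((HomotopyCategory.quotient Z.Modules (ComplexShape.up ℤ)).map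
      ((T.mapHomologicalComplex (ComplexShape.up ℤ)).map α)))
    refine Localization.inverts DerivedCategory.Qh (HomotopyCategory.quasiIso Z.Modules (ComplexShape.up ℤ)) _ ?_
    exact (HomotopyCategory.quotient_map_mem_quasiIso_iff _).2 this

theorem hasLeftDerivedFunctor_of_kFlatAcyclic :
    (T.mapHomotopyCategory (ComplexShape.up ℤ) ⋙ DerivedCategory.Qh).HasLeftDerivedFunctor
      (HomotopyCategory.quasiIso X.Modules (ComplexShape.up ℤ)) := by
  let q := HomotopyCategory.quotient X.Modules (ComplexShape.up ℤ)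
  have : (q ⋙ DerivedCategory.Qh).IsLocalization (HomologicalComplex.quasiIso X.Modules (ComplexShape.up ℤ)) :=
    Functor.IsLocalization.of_iso _ (DerivedCategory.quotientCompQhIso X.Modules).symm
  have : q.IsLocalization (HomologicalComplex.homotopyEquivalences X.Modules (ComplexShape.up ℤ)) :=
    (ComplexShape.up ℤ).quotient_isLocalization (fun j => ⟨j - 1, by simp⟩) _
  let r := leftResOfKFlatAcyclic hT
  have := isLeftDerivedFunctor_descend q (W₀ := HomologicalComplex.homotopyEquivalences X.Modules (ComplexShape.up ℤ))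
    DerivedCategory.Qh (r.derived (q ⋙ DerivedCategory.Qh))
    (HomologicalComplex.quasiIso X.Modules (ComplexShape.up ℤ))
    (HomotopyCategory.quasiIso X.Modules (ComplexShape.up ℤ)) (r.counit (q ⋙ DerivedCategory.Qh))
  exact Functor.HasLeftDerivedFunctor.mk' (r.derived (q ⋙ DerivedCategory.Qh))
    (descendTrans q (W₀ := HomologicalComplex.homotopyEquivalences X.Modules (ComplexShape.up ℤ))
      DerivedCategory.Qh _ (r.counit (q ⋙ DerivedCategory.Qh)))
    (W := HomotopyCategory.quasiIso X.Modules (ComplexShape.up ℤ))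

/-- any derived functor of `T` is computed by K-flat complexes -/
lemma isIso_app_of_kFlat (G : DCoh.D X ⥤ DCoh.D Z)
    (α : DerivedCategory.Qh ⋙ G ⟶ T.mapHomotopyCategory (ComplexShape.up ℤ) ⋙ DerivedCategory.Qh)
    [G.IsLeftDerivedFunctor α (HomotopyCategory.quasiIso X.Modules (ComplexShape.up ℤ))]
    {K : CochainComplex X.Modules ℤ} (hK : DCoh.IsKFlat K) :
    IsIso (α.app ((HomotopyCategory.quotient X.Modules (ComplexShape.up ℤ)).obj K)) := by
  let q := HomotopyCategory.quotient X.Modules (ComplexShape.up ℤ)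
  let W₀ := HomologicalComplex.homotopyEquivalences X.Modules (ComplexShape.up ℤ)
  have : (q ⋙ DerivedCategory.Qh).IsLocalization (HomologicalComplex.quasiIso X.Modules (ComplexShape.up ℤ)) :=
    Functor.IsLocalization.of_iso _ (DerivedCategory.quotientCompQhIso X.Modules).symm
  have : q.IsLocalization W₀ := (ComplexShape.up ℤ).quotient_isLocalization (fun j => ⟨j - 1, by simp⟩) _
  let r := leftResOfKFlatAcyclic hT
  let G' := r.derived (q ⋙ DerivedCategory.Qh)
  let β := descendTrans q (W₀ := W₀) DerivedCategory.Qh G' (r.counit (q ⋙ DerivedCategory.Qh))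
  let W := HomotopyCategory.quasiIso X.Modules (ComplexShape.up ℤ)
  have : G'.IsLeftDerivedFunctor β W := isLeftDerivedFunctor_descend q (W₀ := W₀) DerivedCategory.Qh G'
    (HomologicalComplex.quasiIso X.Modules (ComplexShape.up ℤ)) W (r.counit (q ⋙ DerivedCategory.Qh))
  let u := Functor.leftDerivedUnique G' G α β W
  have h : α.app (q.obj K) = (u.app (DerivedCategory.Qh.obj (q.obj K))).hom ≫ β.app (q.obj K) := by
    simp only [u, Iso.app_hom, Functor.leftDerivedUnique, Functor.leftDerivedNatIso_hom, Iso.refl_hom,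
      Functor.leftDerivedNatTrans_app, NatTrans.id_app, Category.comp_id]
  rw [h, descendTrans_app]
  exact IsIso.comp_isIso' inferInstance (r.isIso_counit_app (q ⋙ DerivedCategory.Qh) hK)

end Additive

lemma kFlatAcyclic_pullback (f : X ⟶ Y) : KFlatAcyclic (Scheme.Modules.pullback f) :=
  fun _ hK hK' => acyclic_pullback f hK hK'

lemma kFlatAcyclic_tensorRightMod (M : X.Modules) : KFlatAcyclic (DCoh.tensorRightMod M) :=
  fun _ hK hK' => acyclic_tensorRight_sch hK hK' M

theorem hasLpull (f : X ⟶ Y) : DCoh.HasLpull f :=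
  hasLeftDerivedFunctor_of_kFlatAcyclic (kFlatAcyclic_pullback f)

theorem hasLTensorMod (M : X.Modules) : DCoh.HasLTensorMod M :=
  hasLeftDerivedFunctor_of_kFlatAcyclic (kFlatAcyclic_tensorRightMod M)

end Groth.Agent.KFlat
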