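import Groth.Agent.KFlat.TorAmp
import Groth.Agent.KFlat.StalkTot

/-!
Composition of derived pullbacks.
-/

set_option autoImplicit false
universe u

namespace Groth.Agent.KFlat

open CategoryTheory Limits AlgebraicGeometry

attribute [local instance] HasDerivedCategory.standard

variable {X Y Z : Scheme.{u}}

theorem Lpull_comp_sch (f : X ⟶ Y) (g : Y ⟶ Z) [DCoh.HasLpull f] [DCoh.HasLpull g] [DCoh.HasLpull (f ≫ g)] :
    Nonempty (DCoh.Lpull g ⋙ DCoh.Lpull f ≅ DCoh.Lpull (f ≫ g)) := by
  let W := HomotopyCategory.quasiIso Z.Modules (ComplexShape.up ℤ)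
  let αf := (DCoh.pullKh f).totalLeftDerivedCounit DerivedCategory.Qh
    (HomotopyCategory.quasiIso Y.Modules (ComplexShape.up ℤ))
  let αg := (DCoh.pullKh g).totalLeftDerivedCounit DerivedCategory.Qh W
  let αfg := (DCoh.pullKh (f ≫ g)).totalLeftDerivedCounit DerivedCategory.Qh W
  let gH := (Scheme.Modules.pullback g).mapHomotopyCategory (ComplexShape.up ℤ)
  let c := Functor.mapHomotopyCategoryCompIso (Scheme.Modules.pullbackComp f g) (ComplexShape.up ℤ)
  let β : DerivedCategory.Qh ⋙ (DCoh.Lpull g ⋙ DCoh.Lpull f) ⟶ DCoh.pullKh (f ≫ g) :=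
    (Functor.associator _ _ _).inv ≫ Functor.whiskerRight αg (DCoh.Lpull f) ≫ (Functor.associator _ _ _).hom ≫
      Functor.whiskerLeft gH αf ≫ (Functor.associator _ _ _).inv ≫ Functor.whiskerRight c.hom DerivedCategory.Qh
  let γ := (DCoh.Lpull (f ≫ g)).leftDerivedLift αfg W (DCoh.Lpull g ⋙ DCoh.Lpull f) β
  have hγ : ∀ K : CochainComplex Z.Modules ℤ, DCoh.IsKFlat K →
      IsIso (γ.app (DerivedCategory.Qh.obj ((HomotopyCategory.quotient _ _).obj K))) := by
    intro K hK
    have h1 : IsIso (αg.app ((HomotopyCategory.quotient _ _).obj K)) :=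
      isIso_app_of_kFlat (kFlatAcyclic_pullback g) (DCoh.Lpull g) αg hK
    have h2 : IsIso (αf.app (gH.obj ((HomotopyCategory.quotient _ _).obj K))) :=
      isIso_app_of_kFlat (kFlatAcyclic_pullback f) (DCoh.Lpull f) αf (isKFlat_pullback g hK)
    have h3 : IsIso (αfg.app ((HomotopyCategory.quotient _ _).obj K)) :=
      isIso_app_of_kFlat (kFlatAcyclic_pullback (f ≫ g)) (DCoh.Lpull (f ≫ g)) αfg hK
    have hβ : IsIso (β.app ((HomotopyCategory.quotient _ _).obj K)) := by
      simp only [β, NatTrans.comp_app, Functor.associator_inv_app, Functor.associator_hom_app,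
        Functor.whiskerRight_app, Functor.whiskerLeft_app]
      exact IsIso.comp_isIso' inferInstance (IsIso.comp_isIso' inferInstance (IsIso.comp_isIso' inferInstance
        (IsIso.comp_isIso' h2 (IsIso.comp_isIso' inferInstance inferInstance))))
    have hfac : γ.app (DerivedCategory.Qh.obj ((HomotopyCategory.quotient _ _).obj K)) ≫
        αfg.app ((HomotopyCategory.quotient _ _).obj K) = β.app ((HomotopyCategory.quotient _ _).obj K) :=
      (DCoh.Lpull (f ≫ g)).leftDerived_fac_app αfg W _ β _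
    exact @IsIso.of_isIso_fac_right _ _ _ _ _ _ _ _ h3 hβ hfac
  have : IsIso γ := by
    rw [NatTrans.isIso_iff_isIso_app]
    intro E
    obtain ⟨K, hK, -, ⟨e⟩⟩ := exists_isKFlat_rep E
    exact (NatTrans.isIso_app_iff_of_iso γ
      (e.symm ≪≫ ((DerivedCategory.quotientCompQhIso Z.Modules).app K).symm)).2 (hγ K hK)
  exact ⟨asIso γ⟩

end Groth.Agent.KFlat
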