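import Groth.Agent.KFlat.FreeSystem
import Groth.Agent.ModSiteFree.Basic

/-!
The free cover of a module on a ringed site is a sum of modules `j_{U!} O_U`.
-/

set_option autoImplicit false
set_option linter.unusedSectionVars false
set_option linter.style.haveILetI false
set_option backward.isDefEq.respectTransparency false
universe u

namespace Groth.Agent.KFlat

open CategoryTheory Limits Opposite PresheafOfModules

variable {C : Type u} [SmallCategory C] {J : GrothendieckTopology C} (O : Sheaf J CommRingCat.{u})

lemma exists_freeOn_cover (M : ModSite.Mod O) :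
    ∃ (P : ModSite.Mod O) (p : P ⟶ M), Epi p ∧ IsSum (fun U : C => ModSite.freeOn O U) P := by
  let N := (SheafOfModules.forget (ModSite.ringSh O)).obj M
  have hL : PreservesColimitsOfSize.{u, u} (ModSite.sheafify O) :=
    (PresheafOfModules.sheafificationAdjunction.{u} (R := ModSite.ringSh O)
      (𝟙 (ModSite.ringSh O).obj)).leftAdjoint_preservesColimits
  refine ⟨cover O M, coverπ O M, inferInstance, N.Elements, fun m => m.1.unop, ?_⟩
  haveI := hL.preservesColimitsOfShape (J := Discrete N.Elements)
  exact ⟨PreservesCoproduct.iso (ModSite.sheafify O) (Elements.freeYoneda (M := N)) ≪≫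
    Sigma.mapIso fun m => (ModSiteFree.freeOnIso O m.1.unop).symm⟩

end Groth.Agent.KFlat
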