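import Groth.Agent.KFlat.Tensor
import Mathlib.CategoryTheory.Preadditive.AdditiveFunctor

/-!
K-flat complexes for a bifunctor: closure properties and behaviour of quasi-isomorphisms.
-/

set_option autoImplicit false
set_option linter.unusedSectionVars false
universe v u w w'

namespace Groth.Agent.KFlat

open CategoryTheory Limits HomologicalComplex

variable {A : Type u} [Category.{v} A] [Abelian A] (B : A ⥤ A ⥤ A) [B.Additive]
  [∀ X, (B.obj X).Additive]
  [∀ K L : CochainComplex A ℤ, HomologicalComplex.HasMapBifunctor K L B (ComplexShape.up ℤ)]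

/-- `K` is K-flat on the right: `L ⊗ K` is acyclic for every acyclic `L` -/
def RFlat (K : CochainComplex A ℤ) : Prop :=
  ∀ L : CochainComplex A ℤ, L.Acyclic → (((tens B).obj L).obj K).Acyclic

variable {B} {K K' L L' : CochainComplex A ℤ}

lemma rflat_of_iso (e : K ≅ K') (h : RFlat B K) : RFlat B K' := fun L hL =>
  acyclic_of_iso (((tens B).obj L).mapIso e) (h L hL)

lemma rflat_of_isZero (h : IsZero K) : RFlat B K := fun L _ =>
  acyclic_of_isZero fun i => (Functor.map_isZero (eval A _ i) (((tens B).obj L).map_isZero h))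

/-- quasi-isomorphism criterion, on the left variable -/
lemma quasiIso_map_app_of_acyclic (f : L ⟶ L') (K : CochainComplex A ℤ)
    (h : (((tens B).obj (CochainComplex.mappingCone f)).obj K).Acyclic) :
    QuasiIso (((tens B).map f).app K) :=
  quasiIso_map_of_acyclic_cone f ((tens B).flip.obj K)
    (fun S σ => shortExact_of_splitting (splittingFlip B K S σ))
    (fun h i => (homotopyFlip B K h).homologyMap_eq i) h

/-- quasi-isomorphism criterion, on the right variable -/
lemma quasiIso_obj_map_of_acyclic (L : CochainComplex A ℤ) (f : K ⟶ K')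
    (h : (((tens B).obj L).obj (CochainComplex.mappingCone f)).Acyclic) :
    QuasiIso (((tens B).obj L).map f) :=
  quasiIso_map_of_acyclic_cone f ((tens B).obj L)
    (fun S σ => shortExact_of_splitting (splittingObj B L S σ))
    (fun h i => (homotopyObj B L h).homologyMap_eq i) h

/-- tensoring with a K-flat complex preserves quasi-isomorphisms -/
lemma RFlat.quasiIso_map_app (hK : RFlat B K) (f : L ⟶ L') [QuasiIso f] :
    QuasiIso (((tens B).map f).app K) :=
  quasiIso_map_app_of_acyclic f K (hK _ (mappingCone_acyclic f))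

lemma rflat₁ {S : ShortComplex (CochainComplex A ℤ)} (σ : ∀ n, (S.map (eval A _ n)).Splitting)
    (h₂ : RFlat B S.X₂) (h₃ : RFlat B S.X₃) : RFlat B S.X₁ := fun L hL =>
  acyclic₁ (shortExact_of_splitting (splittingObj B L S σ)) (h₂ L hL) (h₃ L hL)

lemma rflat₂ {S : ShortComplex (CochainComplex A ℤ)} (σ : ∀ n, (S.map (eval A _ n)).Splitting)
    (h₁ : RFlat B S.X₁) (h₃ : RFlat B S.X₃) : RFlat B S.X₂ := fun L hL =>
  acyclic₂ (shortExact_of_splitting (splittingObj B L S σ)) (h₁ L hL) (h₃ L hL)

lemma rflat₃ {S : ShortComplex (CochainComplex A ℤ)} (σ : ∀ n, (S.map (eval A _ n)).Splitting)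
    (h₁ : RFlat B S.X₁) (h₂ : RFlat B S.X₂) : RFlat B S.X₃ := fun L hL =>
  acyclic₃ (shortExact_of_splitting (splittingObj B L S σ)) (h₁ L hL) (h₂ L hL)

lemma rflat_biprod (h₁ : RFlat B K) (h₂ : RFlat B K') : RFlat B (K ⊞ K') :=
  rflat₂ (S := ShortComplex.mk (biprod.inl : K ⟶ K ⊞ K') biprod.snd (by simp))
    (fun n => ShortComplex.Splitting.map
      ⟨biprod.fst, biprod.inr, by simp, by simp, biprod.total⟩ (eval A _ n)) h₁ h₂

lemma rflat_shift (h : RFlat B K) (n : ℤ) : RFlat B (K⟦n⟧) := fun L hL =>
  acyclic_of_iso (CochainComplex.mapBifunctorShift₂Iso L K B n).symm (acyclic_shift (h L hL) n)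

/-- K-flatness is invariant under homotopy equivalences -/
lemma rflat_of_homotopyEquiv (e : HomotopyEquiv K K') (h : RFlat B K) : RFlat B K' := fun L hL =>
  acyclic_iff_isZero.2 fun i => (acyclic_iff_isZero.1 (h L hL) i).of_iso
    { hom := homologyMap (((tens B).obj L).map e.inv) i
      inv := homologyMap (((tens B).obj L).map e.hom) i
      hom_inv_id := by
        rw [← homologyMap_comp, ← Functor.map_comp,
          (homotopyObj B L e.homotopyInvHomId).homologyMap_eq i, CategoryTheory.Functor.map_id,
          homologyMap_id]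
      inv_hom_id := by
        rw [← homologyMap_comp, ← Functor.map_comp,
          (homotopyObj B L e.homotopyHomInvId).homologyMap_eq i, CategoryTheory.Functor.map_id,
          homologyMap_id] }

lemma rflat_mappingCone_id (K : CochainComplex A ℤ) :
    RFlat B (CochainComplex.mappingCone (𝟙 K)) := fun L _ =>
  acyclic_iff_isZero.2 fun i => by
    rw [IsZero.iff_id_eq_zero, ← homologyMap_id, ← CategoryTheory.Functor.map_id,
      (homotopyObj B L (CochainComplex.mappingCone.homotopyToZeroOfId K)).homologyMap_eq i,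
      Functor.map_zero, homologyMap_zero]

/-- the projection of a mapping cone -/
noncomputable def coneProj {K K' : CochainComplex A ℤ} (f : K ⟶ K') :
    CochainComplex.mappingCone f ⟶ K⟦(1 : ℤ)⟧ :=
  (CochainComplex.mappingCone.triangle f).mor₃

lemma coneProj_f {K K' : CochainComplex A ℤ} (f : K ⟶ K') (n : ℤ) :
    (coneProj f).f n = -((CochainComplex.mappingCone.fst f).1.v n (n + 1) rfl) := by
  simp [coneProj, CochainComplex.mappingCone.triangle,
    CochainComplex.HomComplex.Cochain.rightShift_v _ 1 0 (by lia) n n (by lia) (n + 1) rfl]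
  erw [Category.comp_id]
  rfl

/-- the degreewise split sequence of a mapping cone -/
noncomputable def coneSC {K K' : CochainComplex A ℤ} (f : K ⟶ K') : ShortComplex (CochainComplex A ℤ) :=
  ShortComplex.mk (CochainComplex.mappingCone.inr f) (coneProj f) (by
    ext n
    rw [HomologicalComplex.comp_f, coneProj_f, HomologicalComplex.zero_f]
    exact (Preadditive.comp_neg _ _).trans (by erw [CochainComplex.mappingCone.inr_f_fst_v]; exact neg_zero))

lemma cone_id {K K' : CochainComplex A ℤ} (f : K ⟶ K') (n : ℤ) :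
    (CochainComplex.mappingCone.snd f).v n n (add_zero n) ≫ (CochainComplex.mappingCone.inr f).f n +
      (-((CochainComplex.mappingCone.fst f).1.v n (n + 1) rfl)) ≫
        (-((CochainComplex.mappingCone.inl f).v (n + 1) n (by lia))) =
      𝟙 ((CochainComplex.mappingCone f).X n) := by
  rw [Preadditive.neg_comp, Preadditive.comp_neg, neg_neg, add_comm]
  exact CochainComplex.mappingCone.id_X f n (n + 1) rfl

/-- the splitting of `coneSC` -/
noncomputable def coneSplitting {K K' : CochainComplex A ℤ} (f : K ⟶ K') (n : ℤ) :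
    ((coneSC f).map (eval A _ n)).Splitting :=
  { r := (CochainComplex.mappingCone.snd f).v n n (add_zero n)
    s := -((CochainComplex.mappingCone.inl f).v (n + 1) n (by lia))
    f_r := CochainComplex.mappingCone.inr_f_snd_v f n
    s_g := by
      change (-(CochainComplex.mappingCone.inl f).v (n + 1) n _ :
        K.X (n + 1) ⟶ _) ≫ (coneProj f).f n = 𝟙 (K.X (n + 1))
      erw [coneProj_f, Preadditive.neg_comp, Preadditive.comp_neg, neg_neg]
      exact CochainComplex.mappingCone.inl_v_fst_v ..
    id := by
      have := cone_id f n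
      erw [← coneProj_f f n] at this
      exact this }

lemma rflat_mappingCone (f : K ⟶ K') (h : RFlat B K) (h' : RFlat B K') :
    RFlat B (CochainComplex.mappingCone f) :=
  @rflat₂ A _ _ B _ _ _ (coneSC f) (coneSplitting f) h' (rflat_shift h 1)

section Colimit

variable {J : Type w} [Category.{w'} J] [HasColimitsOfShape J A] [HasExactColimitsOfShape J A]

lemma rflat_of_isColimit (hB : ∀ X, PreservesColimitsOfShape J (B.obj X))
    {D : J ⥤ CochainComplex A ℤ} {c : Cocone D} (hc : IsColimit c) (h : ∀ j, RFlat B (D.obj j)) :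
    RFlat B c.pt := fun L hL => by
  have := preservesColimitsOfShape_tens_obj B hB L
  exact acyclic_of_isColimit (isColimitOfPreserves ((tens B).obj L) hc) fun j => h j L hL

lemma flatObj_of_isColimit (hB : ∀ X, PreservesColimitsOfShape J (B.obj X))
    {D : J ⥤ A} {c : Cocone D} (hc : IsColimit c) (h : ∀ j, FlatObj B (D.obj j)) :
    FlatObj B c.pt := fun S hS => by
  have hc' : ∀ X, IsColimit ((B.obj X).mapCocone c) := fun X =>
    haveI := hB X
    isColimitOfPreserves (B.obj X) hc
  let T : ShortComplex (J ⥤ A) := ShortComplex.mk (Functor.whiskerLeft D (B.map S.f))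
    (Functor.whiskerLeft D (B.map S.g))
    (by
      ext j
      change (B.map S.f).app (D.obj j) ≫ (B.map S.g).app (D.obj j) = 0
      rw [← NatTrans.comp_app, ← Functor.map_comp, S.zero, Functor.map_zero]
      rfl)
  have hT : T.Exact := exact_of_pointwise T fun j => h j S hS
  exact colim.exact_mapShortComplex hT (hc' S.X₁) (c₂ := (B.obj S.X₂).mapCocone c) (hc' S.X₂)
    (c₃ := (B.obj S.X₃).mapCocone c) (hc' S.X₃) ((B.map S.f).app c.pt) ((B.map S.g).app c.pt)
    (fun j => (B.map S.f).naturality (c.ι.app j)) (fun j => (B.map S.g).naturality (c.ι.app j))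

end Colimit

lemma flatObj_of_isZero {F : A} (h : IsZero F) : FlatObj B F := fun S _ =>
  ShortComplex.exact_of_isZero_X₂ _ ((B.obj S.X₂).map_isZero h)

lemma flatObj_of_iso {F F' : A} (e : F ≅ F') (h : FlatObj B F) : FlatObj B F' := fun S hS =>
  (ShortComplex.exact_iff_of_iso (S.mapNatIso (B.flip.mapIso e))).1 (h S hS)

lemma flatObj_of_preserves {F : A} [PreservesFiniteLimits (B.flip.obj F)]
    [PreservesFiniteColimits (B.flip.obj F)] : FlatObj B F :=
  fun S hS => hS.map (B.flip.obj F)

lemma rflat_single {F : A} (hF : FlatObj B F) (m : ℤ) :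
    RFlat B ((single A (ComplexShape.up ℤ) m).obj F) := fun _ hL => acyclic_tens_single B hL hF m

section Symmetric

variable (e : B ≅ B.flip)
include e

lemma RFlat.acyclic_tens_left (hK : RFlat B K) (hL : L.Acyclic) :
    (((tens B).obj K).obj L).Acyclic :=
  acyclic_of_iso (swapIso e L K) (hK L hL)

/-- if every complex has a K-flat resolution, an acyclic K-flat complex is universally acyclic -/
lemma acyclic_tens_of_acyclic_rflat
    (hres : ∀ F : CochainComplex A ℤ, ∃ (F' : CochainComplex A ℤ) (q : F' ⟶ F), RFlat B F' ∧ QuasiIso q)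
    (hK : RFlat B K) (hK' : K.Acyclic) (F : CochainComplex A ℤ) :
    (((tens B).obj F).obj K).Acyclic := by
  obtain ⟨F', q, hF', hq⟩ := hres F
  have := hK.quasiIso_map_app q
  have h := hF'.acyclic_tens_left e hK'
  exact acyclic_iff_isZero.2 fun i => (acyclic_iff_isZero.1 h i).of_iso
    (isoOfQuasiIsoAt (((tens B).map q).app K) i).symm

lemma quasiIso_obj_map_of_rflat
    (hres : ∀ F : CochainComplex A ℤ, ∃ (F' : CochainComplex A ℤ) (q : F' ⟶ F), RFlat B F' ∧ QuasiIso q)
    (f : K ⟶ K') [QuasiIso f] (hK : RFlat B K) (hK' : RFlat B K') (F : CochainComplex A ℤ) :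
    QuasiIso (((tens B).obj F).map f) :=
  quasiIso_obj_map_of_acyclic F f
    (acyclic_tens_of_acyclic_rflat e hres (rflat_mappingCone f hK hK') (mappingCone_acyclic f) F)

end Symmetric

end Groth.Agent.KFlat
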