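import Groth.Agent.KFlat.Scheme
import Groth.Agent.ModSiteTensor.Colimit
import Mathlib.Algebra.Homology.BifunctorAssociator

/-!
Associativity of the tensor product of modules and of total tensor complexes.
-/

set_option autoImplicit false
set_option linter.unusedSectionVars false
universe u v₁ v₂ u₁ u₂

namespace Groth.Agent.KFlat

open CategoryTheory Limits Opposite MonoidalCategory PresheafOfModules HomologicalComplex

section Generic

variable {P : Type u₁} [Category.{v₁} P] {M : Type u₂} [Category.{v₂} M] (L : P ⥤ M)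

/-- the isomorphism induced by two morphisms inverted by `L` and an isomorphism -/
noncomputable def zigIso {A B C D : P} (u : A ⟶ B) (α : A ≅ C) (v : C ⟶ D)
    (hu : IsIso (L.map u)) (hv : IsIso (L.map v)) : L.obj B ≅ L.obj D :=
  (asIso (L.map u)).symm ≪≫ L.mapIso α ≪≫ asIso (L.map v)

lemma zigIso_natural {A B C D A' B' C' D' : P} {u : A ⟶ B} {α : A ≅ C} {v : C ⟶ D}
    {u' : A' ⟶ B'} {α' : A' ≅ C'} {v' : C' ⟶ D'}
    (hu : IsIso (L.map u)) (hv : IsIso (L.map v)) (hu' : IsIso (L.map u')) (hv' : IsIso (L.map v'))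
    {a : A ⟶ A'} {b : B ⟶ B'} {c : C ⟶ C'} {d : D ⟶ D'}
    (h₁ : u ≫ b = a ≫ u') (h₂ : a ≫ α'.hom = α.hom ≫ c) (h₃ : c ≫ v' = v ≫ d) :
    L.map b ≫ (zigIso L u' α' v' hu' hv').hom = (zigIso L u α v hu hv).hom ≫ L.map d := by
  simp only [zigIso, Iso.trans_hom, Iso.symm_hom, asIso_inv, asIso_hom, Functor.mapIso_hom]
  rw [← cancel_epi (L.map u), ← L.map_comp_assoc u b, h₁]
  simp only [Functor.map_comp, Category.assoc, IsIso.hom_inv_id_assoc]
  rw [← L.map_comp_assoc a, h₂, L.map_comp_assoc, ← L.map_comp c, h₃, L.map_comp]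

end Generic


section AssocNatural

variable {A : Type u₁} [Category.{v₁} A] [Preadditive A] (B : A ⥤ A ⥤ A) [B.Additive] [∀ X, (B.obj X).Additive]
  [∀ (K L : CochainComplex A ℤ), HomologicalComplex.HasMapBifunctor K L B (ComplexShape.up ℤ)]
  (a : bifunctorComp₁₂ B B ≅ bifunctorComp₂₃ B B)

lemma mapBifunctorAssociator_natural {K₁ L₁ : CochainComplex A ℤ} (f : K₁ ⟶ L₁) (K₂ K₃ : CochainComplex A ℤ)
    [HasGoodTrifunctor₁₂Obj B B K₁ K₂ K₃ (ComplexShape.up ℤ) (ComplexShape.up ℤ)]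
    [HasGoodTrifunctor₂₃Obj B B K₁ K₂ K₃ (ComplexShape.up ℤ) (ComplexShape.up ℤ) (ComplexShape.up ℤ)]
    [HasGoodTrifunctor₁₂Obj B B L₁ K₂ K₃ (ComplexShape.up ℤ) (ComplexShape.up ℤ)]
    [HasGoodTrifunctor₂₃Obj B B L₁ K₂ K₃ (ComplexShape.up ℤ) (ComplexShape.up ℤ) (ComplexShape.up ℤ)] :
    mapBifunctorMap (mapBifunctorMap f (𝟙 K₂) B (ComplexShape.up ℤ)) (𝟙 K₃) B (ComplexShape.up ℤ) ≫
        (mapBifunctorAssociator a L₁ K₂ K₃ (ComplexShape.up ℤ) (ComplexShape.up ℤ) (ComplexShape.up ℤ)).hom =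
      (mapBifunctorAssociator a K₁ K₂ K₃ (ComplexShape.up ℤ) (ComplexShape.up ℤ) (ComplexShape.up ℤ)).hom ≫
        mapBifunctorMap f (𝟙 _) B (ComplexShape.up ℤ) := by
  ext n i₁ i₂ i₃ h
  have h' : i₁ + i₂ + i₃ = n := h
  let hf := mapBifunctorMap f (𝟙 K₂) B (ComplexShape.up ℤ)
  have hl : mapBifunctor₁₂.ι B B K₁ K₂ K₃ (ComplexShape.up ℤ) (ComplexShape.up ℤ) i₁ i₂ i₃ n h ≫
      (mapBifunctorMap hf (𝟙 K₃) B (ComplexShape.up ℤ)).f n =
      (B.map ((B.map (f.f i₁)).app (K₂.X i₂))).app (K₃.X i₃) ≫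
        mapBifunctor₁₂.ι B B L₁ K₂ K₃ (ComplexShape.up ℤ) (ComplexShape.up ℤ) i₁ i₂ i₃ n h := by
    rw [mapBifunctor₁₂.ι_eq B B K₁ K₂ K₃ _ _ i₁ i₂ i₃ (i₁ + i₂) n rfl h',
      mapBifunctor₁₂.ι_eq B B L₁ K₂ K₃ _ _ i₁ i₂ i₃ (i₁ + i₂) n rfl h', Category.assoc, ι_mapBifunctorMap]
    simp only [HomologicalComplex.id_f, CategoryTheory.Functor.map_id, Category.id_comp]
    rw [← NatTrans.comp_app_assoc, ← B.map_comp, ← NatTrans.comp_app_assoc, ← B.map_comp, ι_mapBifunctorMap]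
    simp only [HomologicalComplex.id_f, CategoryTheory.Functor.map_id, Category.id_comp]
  have hr : mapBifunctor₂₃.ι B B K₁ K₂ K₃ (ComplexShape.up ℤ) (ComplexShape.up ℤ) (ComplexShape.up ℤ) i₁ i₂ i₃ n h ≫
      (mapBifunctorMap f (𝟙 (mapBifunctor K₂ K₃ B (ComplexShape.up ℤ))) B (ComplexShape.up ℤ)).f n =
      (B.map (f.f i₁)).app ((B.obj (K₂.X i₂)).obj (K₃.X i₃)) ≫
        mapBifunctor₂₃.ι B B L₁ K₂ K₃ (ComplexShape.up ℤ) (ComplexShape.up ℤ) (ComplexShape.up ℤ) i₁ i₂ i₃ n h := by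
    have h'' : i₁ + (i₂ + i₃) = n := by omega
    rw [mapBifunctor₂₃.ι_eq B B K₁ K₂ K₃ _ _ _ i₁ i₂ i₃ (i₂ + i₃) n rfl h'',
      mapBifunctor₂₃.ι_eq B B L₁ K₂ K₃ _ _ _ i₁ i₂ i₃ (i₂ + i₃) n rfl h'', Category.assoc, ι_mapBifunctorMap]
    simp only [HomologicalComplex.id_f, CategoryTheory.Functor.map_id, Category.id_comp]
    exact NatTrans.naturality_assoc _ _ _
  change _ ≫ (mapBifunctorMap hf (𝟙 K₃) B (ComplexShape.up ℤ)).f n ≫
      (mapBifunctorAssociatorX a L₁ K₂ K₃ _ _ _ n).hom = _ ≫ (mapBifunctorAssociatorX a K₁ K₂ K₃ _ _ _ n).hom ≫ _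
  rw [reassoc_of% hl, ι_mapBifunctorAssociatorX_hom, ι_mapBifunctorAssociatorX_hom_assoc]
  refine Eq.trans ?_ (congrArg (_ ≫ ·) hr.symm)
  refine (Category.assoc _ _ _).symm.trans ((congrArg (· ≫ _) ?_).trans (Category.assoc _ _ _))
  exact congrArg (fun t => (t.app (K₂.X i₂)).app (K₃.X i₃)) (a.hom.naturality (f.f i₁))

end AssocNatural

section Site

variable {C : Type u} [SmallCategory C] {J : GrothendieckTopology C} (O : Sheaf J CommRingCat.{u})

/-- presheaves of modules -/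
abbrev PMO : Type (u + 1) := PresheafOfModules.{u} (O.obj ⋙ forget₂ CommRingCat.{u} RingCat.{u})

/-- the forgetful functor to presheaves of modules -/
noncomputable abbrev fP : ModSite.Mod O ⥤ PMO O := SheafOfModules.forget (ModSite.ringSh O)

/-- sheafification -/
noncomputable abbrev sP : PMO O ⥤ ModSite.Mod O := ModSite.sheafify O

lemma unit_natural {P Q : PMO O} (g : P ⟶ Q) :
    ModSiteTensor.η O P ≫ (fP O).map ((sP O).map g) = g ≫ ModSiteTensor.η O Q :=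
  ((PresheafOfModules.sheafificationAdjunction.{u} (R := ModSite.ringSh O)
    (𝟙 (ModSite.ringSh O).obj)).unit.naturality g).symm

/-- the associator of the tensor product of modules, componentwise -/
noncomputable def assocApp (F G H : ModSite.Mod O) :
    (sP O).obj ((fP O).obj ((sP O).obj ((fP O).obj F ⊗ (fP O).obj G)) ⊗ (fP O).obj H) ≅
      (sP O).obj ((fP O).obj F ⊗ (fP O).obj ((sP O).obj ((fP O).obj G ⊗ (fP O).obj H))) :=
  zigIso (sP O) (ModSiteTensor.η O ((fP O).obj F ⊗ (fP O).obj G) ▷ (fP O).obj H)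
    (α_ ((fP O).obj F) ((fP O).obj G) ((fP O).obj H))
    ((fP O).obj F ◁ ModSiteTensor.η O ((fP O).obj G ⊗ (fP O).obj H))
    (@ModSiteTensor.isIso_sheafify_map_whiskerRight _ _ _ _ _ _ (ModSiteTensor.η O _)
      (ModSiteTensor.unit_locallyInjective O _) (ModSiteTensor.unit_locallySurjective O _) _)
    (@ModSiteTensor.isIso_sheafify_map_whiskerLeft _ _ _ _ _ _ (ModSiteTensor.η O _)
      (ModSiteTensor.unit_locallyInjective O _) (ModSiteTensor.unit_locallySurjective O _) _)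

lemma assocApp_natural₁ {F F' : ModSite.Mod O} (a : F ⟶ F') (G H : ModSite.Mod O) :
    (sP O).map ((fP O).map ((sP O).map ((fP O).map a ▷ (fP O).obj G)) ▷ (fP O).obj H) ≫ (assocApp O F' G H).hom =
      (assocApp O F G H).hom ≫ (sP O).map ((fP O).map a ▷ _) := by
  refine zigIso_natural (sP O) _ _ _ _ (a := (fP O).map a ▷ (fP O).obj G ▷ (fP O).obj H)
    (c := (fP O).map a ▷ _) ?_ ?_ ?_
  · rw [← comp_whiskerRight, ← comp_whiskerRight, unit_natural]
  · exact associator_naturality_left _ _ _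
  · exact (whisker_exchange _ _).symm

lemma assocApp_natural₂ (F : ModSite.Mod O) {G G' : ModSite.Mod O} (b : G ⟶ G') (H : ModSite.Mod O) :
    (sP O).map ((fP O).map ((sP O).map ((fP O).obj F ◁ (fP O).map b)) ▷ (fP O).obj H) ≫ (assocApp O F G' H).hom =
      (assocApp O F G H).hom ≫ (sP O).map ((fP O).obj F ◁ (fP O).map ((sP O).map ((fP O).map b ▷ (fP O).obj H))) := by
  refine zigIso_natural (sP O) _ _ _ _ (a := ((fP O).obj F ◁ (fP O).map b) ▷ (fP O).obj H)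
    (c := (fP O).obj F ◁ (fP O).map b ▷ (fP O).obj H) ?_ ?_ ?_
  · rw [← comp_whiskerRight, ← comp_whiskerRight, unit_natural]
  · exact associator_naturality_middle _ _ _
  · rw [← whiskerLeft_comp, ← whiskerLeft_comp, unit_natural]

lemma assocApp_natural₃ (F G : ModSite.Mod O) {H H' : ModSite.Mod O} (c : H ⟶ H') :
    (sP O).map ((fP O).obj ((sP O).obj ((fP O).obj F ⊗ (fP O).obj G)) ◁ (fP O).map c) ≫ (assocApp O F G H').hom =
      (assocApp O F G H).hom ≫ (sP O).map ((fP O).obj F ◁ (fP O).map ((sP O).map ((fP O).obj G ◁ (fP O).map c))) := by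
  refine zigIso_natural (sP O) _ _ _ _ (a := ((fP O).obj F ⊗ (fP O).obj G) ◁ (fP O).map c)
    (c := (fP O).obj F ◁ (fP O).obj G ◁ (fP O).map c) ?_ ?_ ?_
  · exact (whisker_exchange _ _).symm
  · exact associator_naturality_right _ _ _
  · rw [← whiskerLeft_comp, ← whiskerLeft_comp, unit_natural]

/-- the associator of the tensor product of modules -/
noncomputable def assocB : bifunctorComp₁₂ (ModSite.tensorBi O) (ModSite.tensorBi O) ≅
    bifunctorComp₂₃ (ModSite.tensorBi O) (ModSite.tensorBi O) :=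
  NatIso.ofComponents
    (fun F => NatIso.ofComponents
      (fun G => NatIso.ofComponents (fun H => assocApp O F G H) fun {_ _} c => assocApp_natural₃ O F G c)
      fun {_ _} b => NatTrans.ext (funext fun H => assocApp_natural₂ O F b H))
    fun {_ _} a => NatTrans.ext (funext fun G => NatTrans.ext (funext fun H => assocApp_natural₁ O a G H))

lemma hasGood₁₂ (K₁ K₂ K₃ : CochainComplex (ModSite.Mod O) ℤ) :
    HasGoodTrifunctor₁₂Obj (ModSite.tensorBi O) (ModSite.tensorBi O) K₁ K₂ K₃ (ComplexShape.up ℤ) (ComplexShape.up ℤ) :=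
  fun i₁₂ i₃ =>
    have := ModSiteTensor.preservesColimits_tensorBi_flip_obj O (K₃.X i₃)
    have : PreservesColimitsOfSize.{0, 0} ((ModSite.tensorBi O).flip.obj (K₃.X i₃)) :=
      preservesSmallestColimits_of_preservesColimits _
    inferInstance

lemma hasGood₂₃ (K₁ K₂ K₃ : CochainComplex (ModSite.Mod O) ℤ) :
    HasGoodTrifunctor₂₃Obj (ModSite.tensorBi O) (ModSite.tensorBi O) K₁ K₂ K₃ (ComplexShape.up ℤ) (ComplexShape.up ℤ)
      (ComplexShape.up ℤ) :=
  fun i₁ i₂₃ =>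
    have := ModSiteTensor.preservesColimits_tensorBi_obj O (K₁.X i₁)
    have : PreservesColimitsOfSize.{0, 0} ((ModSite.tensorBi O).obj (K₁.X i₁)) :=
      preservesSmallestColimits_of_preservesColimits _
    inferInstance

/-- associativity of total tensor complexes -/
noncomputable def assocTot (K₁ K₂ K₃ : CochainComplex (ModSite.Mod O) ℤ) :
    mapBifunctor (mapBifunctor K₁ K₂ (ModSite.tensorBi O) (ComplexShape.up ℤ)) K₃ (ModSite.tensorBi O) (ComplexShape.up ℤ) ≅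
      mapBifunctor K₁ (mapBifunctor K₂ K₃ (ModSite.tensorBi O) (ComplexShape.up ℤ)) (ModSite.tensorBi O) (ComplexShape.up ℤ) :=
  have := hasGood₁₂ O K₁ K₂ K₃
  have := hasGood₂₃ O K₁ K₂ K₃
  mapBifunctorAssociator (assocB O) K₁ K₂ K₃ (ComplexShape.up ℤ) (ComplexShape.up ℤ) (ComplexShape.up ℤ)

lemma assocTot_natural {K₁ L₁ : CochainComplex (ModSite.Mod O) ℤ} (f : K₁ ⟶ L₁) (K₂ K₃ : CochainComplex (ModSite.Mod O) ℤ) :
    mapBifunctorMap (mapBifunctorMap f (𝟙 K₂) (ModSite.tensorBi O) (ComplexShape.up ℤ)) (𝟙 K₃) (ModSite.tensorBi O)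
        (ComplexShape.up ℤ) ≫ (assocTot O L₁ K₂ K₃).hom =
      (assocTot O K₁ K₂ K₃).hom ≫ mapBifunctorMap f (𝟙 _) (ModSite.tensorBi O) (ComplexShape.up ℤ) :=
  have := hasGood₁₂ O K₁ K₂ K₃
  have := hasGood₂₃ O K₁ K₂ K₃
  have := hasGood₁₂ O L₁ K₂ K₃
  have := hasGood₂₃ O L₁ K₂ K₃
  mapBifunctorAssociator_natural (ModSite.tensorBi O) (assocB O) f K₂ K₃

end Site

end Groth.Agent.KFlat
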