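import Groth.Agent.KFlat.RFlat
import Mathlib.CategoryTheory.Abelian.Refinements
import Mathlib.Algebra.Homology.ShortComplex.ExactFunctor

/-!
Tensoring a short exact sequence with flat third term stays short exact; consequences for K-flat
complexes in termwise short exact sequences.
-/

set_option autoImplicit false
set_option linter.unusedSectionVars false
universe v u

namespace Groth.Agent.KFlat

open CategoryTheory Limits HomologicalComplex

variable {A : Type u} [Category.{v} A] [Abelian A] {B : A ⥤ A ⥤ A} [B.Additive]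
  [∀ X, (B.obj X).Additive] (e : B ≅ B.flip)

instance (Y : A) : (B.flip.obj Y).Additive where
  map_add {P Q f g} := by simp

include e in
lemma exact_obj_of_flatObj {F : A} (hF : FlatObj B F) (S : ShortComplex A) (hS : S.Exact) :
    (S.map (B.obj F)).Exact :=
  (ShortComplex.exact_iff_of_iso (S.mapNatIso (e.app F))).2 (hF S hS)

include e in
lemma shortExact_obj_of_flatObj {F : A} (hF : FlatObj B F) (S : ShortComplex A) (hS : S.ShortExact) :
    (S.map (B.obj F)).ShortExact := by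
  have h : ∀ T : ShortComplex A, T.Exact → (T.map (B.obj F)).Exact :=
    fun T hT => exact_obj_of_flatObj e hF T hT
  obtain ⟨h1, h2⟩ := ((B.obj F).exact_tfae.out 1 3).1 h
  exact hS.map_of_exact (B.obj F)

include e in
/-- right exactness in the first variable -/
lemma exact_flip_of_rightExact (hcl : ∀ X, PreservesFiniteColimits (B.obj X))
    (X : A) : PreservesFiniteColimits (B.flip.obj X) :=
  have := hcl X
  preservesFiniteColimits_of_natIso (e.app X)

lemma rightExact_of_preserves (G : A ⥤ A) [G.Additive] (hG : PreservesFiniteColimits G)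
    (S : ShortComplex A) (h : S.Exact) (h' : Epi S.g) : (S.map G).Exact ∧ Epi (G.map S.g) := by
  have := (G.preservesFiniteColimits_tfae.out 3 1 rfl rfl).1 hG
  exact this S ⟨h, h'⟩

/-- diagram chase: injectivity on the quotient row -/
lemma mono_of_chase {A₁ A₀ M₀ B₁ B₀ N₀ C₁ C₀ : A} (f₁ : A₁ ⟶ B₁) (f₀ : A₀ ⟶ B₀) (f : M₀ ⟶ N₀)
    (g₁ : B₁ ⟶ C₁) (g₀ : B₀ ⟶ C₀) (iA : A₁ ⟶ A₀) (pA : A₀ ⟶ M₀) (iB : B₁ ⟶ B₀) (pB : B₀ ⟶ N₀)
    (iC : C₁ ⟶ C₀) [Epi pA] [Mono f₀] [Mono iC] (zA : iA ≫ pA = 0) (zB : iB ≫ pB = 0)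
    (hB : (ShortComplex.mk iB pB zB).Exact) (z₁ : f₁ ≫ g₁ = 0) (h₁ : (ShortComplex.mk f₁ g₁ z₁).Exact)
    (z₀ : f₀ ≫ g₀ = 0) (c₁ : f₁ ≫ iB = iA ≫ f₀) (c₂ : f₀ ≫ pB = pA ≫ f) (c₃ : g₁ ≫ iC = iB ≫ g₀) :
    Mono f := by
  rw [Preadditive.mono_iff_cancel_zero]
  intro T₀ a ha
  obtain ⟨T₁, π₁, hπ₁, a₀, ha₀⟩ := surjective_up_to_refinements_of_epi pA a
  have hb : (a₀ ≫ f₀) ≫ pB = 0 := by rw [Category.assoc, c₂, ← reassoc_of% ha₀, ha, comp_zero]
  obtain ⟨T₂, π₂, hπ₂, b₁, hb₁⟩ := hB.exact_up_to_refinements _ hb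
  dsimp at b₁ hb₁
  have hc : (b₁ ≫ g₁) ≫ iC = 0 := by
    rw [Category.assoc, c₃, ← reassoc_of% hb₁, z₀, comp_zero, comp_zero]
  rw [← zero_comp (f := iC), cancel_mono] at hc
  obtain ⟨T₃, π₃, hπ₃, a₁, ha₁⟩ := h₁.exact_up_to_refinements b₁ hc
  dsimp at a₁ ha₁
  have heq : π₃ ≫ π₂ ≫ a₀ = a₁ ≫ iA := by
    rw [← cancel_mono f₀]
    simp only [Category.assoc]
    rw [hb₁, reassoc_of% ha₁, c₁]
  rw [← cancel_epi π₁, comp_zero, ← cancel_epi π₂, comp_zero, ← cancel_epi π₃, comp_zero, ha₀,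
    reassoc_of% heq, zA, comp_zero]

include e in
/-- if `C` is flat then `M ⊗ -` keeps `0 → A → B → C → 0` exact -/
lemma shortExact_of_flat₃ (hcl : ∀ X, PreservesFiniteColimits (B.obj X))
    (hcov : ∀ M : A, ∃ (F : A) (p : F ⟶ M), Epi p ∧ FlatObj B F)
    {S : ShortComplex A} (hS : S.ShortExact) (h₃ : FlatObj B S.X₃) (M : A) :
    (S.map (B.obj M)).ShortExact := by
  have := hS.mono_f
  have := hS.epi_g
  obtain ⟨F, p, hp, hF⟩ := hcov M
  let T : ShortComplex A := ShortComplex.mk (kernel.ι p) p (kernel.condition p)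
  have hT : T.Exact := ShortComplex.exact_of_f_is_kernel T (kernelIsKernel p)
  have hFS := shortExact_obj_of_flatObj e hF S hS
  have hM := rightExact_of_preserves (B.obj M) (hcl M) S hS.exact hS.epi_g
  have hM₁ := rightExact_of_preserves (B.obj (kernel p)) (hcl _) S hS.exact hS.epi_g
  have hcol := fun Y => rightExact_of_preserves (B.flip.obj Y) (exact_flip_of_rightExact e hcl Y) T hT hp
  have hmono₃ : Mono ((B.map (kernel.ι p)).app S.X₃) := by
    have hTS : T.ShortExact :=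
      { exact := hT, mono_f := inferInstanceAs (Mono (kernel.ι p)), epi_g := hp }
    have h : ∀ T : ShortComplex A, T.Exact → (T.map (B.flip.obj S.X₃)).Exact := h₃
    obtain ⟨h1, h2⟩ := ((B.flip.obj S.X₃).exact_tfae.out 1 3).1 h
    exact (hTS.map_of_exact (B.flip.obj S.X₃)).mono_f
  have hmono₀ : Mono ((B.obj F).map S.f) := hFS.mono_f
  have hepi : Epi ((B.map p).app S.X₁) := (hcol S.X₁).2
  have hmono : Mono ((B.obj M).map S.f) :=
    mono_of_chase ((B.obj (kernel p)).map S.f) ((B.obj F).map S.f) ((B.obj M).map S.f)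
      ((B.obj (kernel p)).map S.g) ((B.obj F).map S.g) ((B.map (kernel.ι p)).app S.X₁)
      ((B.map p).app S.X₁) ((B.map (kernel.ι p)).app S.X₂) ((B.map p).app S.X₂)
      ((B.map (kernel.ι p)).app S.X₃)
      (by rw [← NatTrans.comp_app, ← Functor.map_comp, kernel.condition, Functor.map_zero]; rfl)
      (by rw [← NatTrans.comp_app, ← Functor.map_comp, kernel.condition, Functor.map_zero]; rfl)
      (hcol S.X₂).1 (by rw [← Functor.map_comp, S.zero, Functor.map_zero]) hM₁.1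
      (by rw [← Functor.map_comp, S.zero, Functor.map_zero])
      ((B.map (kernel.ι p)).naturality S.f) ((B.map p).naturality S.f)
      ((B.map (kernel.ι p)).naturality S.g)
  exact { exact := hM.1, mono_f := hmono, epi_g := hM.2 }

lemma flatObj_of_mono (hcl : ∀ X, PreservesFiniteColimits (B.flip.obj X)) (F : A)
    (h : ∀ ⦃M N : A⦄ (f : M ⟶ N), Mono f → Mono ((B.map f).app F)) : FlatObj B F := by
  refine ((B.flip.obj F).exact_tfae.out 0 1 rfl rfl).1 fun T hT => ?_
  obtain ⟨h1, h2⟩ := rightExact_of_preserves (B.flip.obj F) (hcl F) T hT.exact hT.epi_g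
  exact { exact := h1, mono_f := h T.f hT.mono_f, epi_g := h2 }

include e in
lemma shortExact_flip_of_flat₃ (hcl : ∀ X, PreservesFiniteColimits (B.obj X))
    (hcov : ∀ M : A, ∃ (F : A) (p : F ⟶ M), Epi p ∧ FlatObj B F)
    {S : ShortComplex A} (hS : S.ShortExact) (h₃ : FlatObj B S.X₃) (M : A) :
    (S.map (B.flip.obj M)).ShortExact :=
  ShortComplex.shortExact_of_iso (S.mapNatIso (e.app M)) (shortExact_of_flat₃ e hcl hcov hS h₃ M)

include e in
/-- extensions of flat objects are flat, and so are kernels of epimorphisms between flat objects -/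
lemma flatObj_two_out_of_three (hcl : ∀ X, PreservesFiniteColimits (B.obj X))
    (hcov : ∀ M : A, ∃ (F : A) (p : F ⟶ M), Epi p ∧ FlatObj B F)
    {S : ShortComplex A} (hS : S.ShortExact) (h₃ : FlatObj B S.X₃) :
    (FlatObj B S.X₁ → FlatObj B S.X₂) ∧ (FlatObj B S.X₂ → FlatObj B S.X₁) := by
  have hr := fun X => exact_flip_of_rightExact e hcl X
  have hmono : ∀ {F : A}, FlatObj B F → ∀ {M N : A} (f : M ⟶ N), Mono f → Mono ((B.map f).app F) := by
    intro F hF M N f hf
    obtain ⟨h1, h2⟩ := ((B.flip.obj F).exact_tfae.out 1 3 rfl rfl).1 hF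
    exact inferInstanceAs (Mono ((B.flip.obj F).map f))
  refine ⟨fun h₁ => flatObj_of_mono hr _ fun M N f hf => ?_,
    fun h₂ => flatObj_of_mono hr _ fun M N f hf => ?_⟩
  · have hM := shortExact_of_flat₃ e hcl hcov hS h₃ M
    have hN := shortExact_of_flat₃ e hcl hcov hS h₃ N
    have := hN.mono_f
    have := hmono h₁ f hf
    have := hmono h₃ f hf
    rw [Preadditive.mono_iff_cancel_zero]
    intro T a ha
    have h0 : (a ≫ (B.obj M).map S.g) ≫ (B.map f).app S.X₃ = 0 := by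
      rw [Category.assoc, (B.map f).naturality S.g, reassoc_of% ha, zero_comp]
    rw [← zero_comp (f := (B.map f).app S.X₃), cancel_mono] at h0
    obtain ⟨T', π', hπ', a₁, ha₁⟩ : ∃ (T' : A) (π' : T' ⟶ T) (_ : Epi π')
        (a₁ : T' ⟶ (B.obj M).obj S.X₁), π' ≫ a = a₁ ≫ (B.obj M).map S.f :=
      hM.exact.exact_up_to_refinements a h0
    have h1 : a₁ ≫ (B.map f).app S.X₁ ≫ (B.obj N).map S.f = 0 := by
      rw [← (B.map f).naturality S.f, ← reassoc_of% ha₁, ha, comp_zero]
    have h2 : a₁ = 0 := by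
      have hm : Mono ((B.obj N).map S.f) := hN.mono_f
      rw [← cancel_mono ((B.map f).app S.X₁ ≫ (B.obj N).map S.f), zero_comp]
      exact h1
    rw [← cancel_epi π', ha₁, h2, zero_comp, comp_zero]
  · have := (shortExact_of_flat₃ e hcl hcov hS h₃ M).mono_f
    have := hmono h₂ f hf
    have hm : Mono ((B.obj M).map S.f ≫ (B.map f).app S.X₂) := mono_comp' (shortExact_of_flat₃ e hcl hcov hS h₃ M).mono_f this
    rw [(B.map f).naturality S.f] at hm
    exact @mono_of_mono _ _ _ _ _ _ _ hm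

variable [∀ K L : CochainComplex A ℤ, HomologicalComplex.HasMapBifunctor K L B (ComplexShape.up ℤ)]
  [∀ I : Type, HasColimitsOfShape (Discrete I) A] [∀ I : Type, HasExactColimitsOfShape (Discrete I) A]

/-- short exactness of total tensor products, degreewise criterion -/
lemma shortExact_tens_obj (L : CochainComplex A ℤ) (S : ShortComplex (CochainComplex A ℤ))
    (h : ∀ p q, ((S.map (eval A _ q)).map (B.obj (L.X p))).ShortExact) :
    (S.map ((tens B).obj L)).ShortExact := by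
  refine shortExact_of_degreewise_shortExact _ fun n => ?_
  let π : ℤ × ℤ → ℤ := fun pq =>
    ComplexShape.π (ComplexShape.up ℤ) (ComplexShape.up ℤ) (ComplexShape.up ℤ) pq
  let c : ∀ K : CochainComplex A ℤ, Cofan fun i : π ⁻¹' {n} => (B.obj (L.X i.1.1)).obj (K.X i.1.2) :=
    fun K => (((B.mapBifunctorHomologicalComplex (ComplexShape.up ℤ) (ComplexShape.up ℤ)).obj L).obj K).toGradedObject.cofanMapObj π n
  have hc : ∀ K, IsColimit (c K) := fun K =>
    (((B.mapBifunctorHomologicalComplex (ComplexShape.up ℤ) (ComplexShape.up ℤ)).obj L).obj K).toGradedObject.isColimitCofanMapObj π n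
  have hι : ∀ (K : CochainComplex A ℤ) (i : π ⁻¹' {n}), (c K).inj i =
      HomologicalComplex.ιMapBifunctor L K B (ComplexShape.up ℤ) i.1.1 i.1.2 n i.2 := fun _ _ => rfl
  let U : ShortComplex (Discrete (π ⁻¹' {n}) ⥤ A) := ShortComplex.mk
    (Discrete.natTrans (F := Discrete.functor fun i : π ⁻¹' {n} => (B.obj (L.X i.1.1)).obj (S.X₁.X i.1.2))
      (G := Discrete.functor fun i : π ⁻¹' {n} => (B.obj (L.X i.1.1)).obj (S.X₂.X i.1.2))
      fun i => (B.obj (L.X i.as.1.1)).map (S.f.f i.as.1.2))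
    (Discrete.natTrans (G := Discrete.functor fun i : π ⁻¹' {n} => (B.obj (L.X i.1.1)).obj (S.X₃.X i.1.2))
      fun i => (B.obj (L.X i.as.1.1)).map (S.g.f i.as.1.2))
    (by
      ext i
      exact ((B.obj (L.X i.as.1.1)).map_comp _ _).symm.trans
        (by rw [← HomologicalComplex.comp_f, S.zero, HomologicalComplex.zero_f, Functor.map_zero]; rfl))
  have hU : U.Exact := exact_of_pointwise U fun i => (h i.as.1.1 i.as.1.2).exact
  have hUf : ∀ i, Mono (U.f.app i) := fun i => (h i.as.1.1 i.as.1.2).mono_f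
  have hUg : ∀ i, Epi (U.g.app i) := fun i => (h i.as.1.1 i.as.1.2).epi_g
  have sq : ∀ {K K' : CochainComplex A ℤ} (g : K ⟶ K') (i : π ⁻¹' {n}),
      (c K).inj i ≫ (((tens B).obj L).map g).f n = (B.obj (L.X i.1.1)).map (g.f i.1.2) ≫ (c K').inj i := by
    intro K K' g i
    rw [hι, hι]
    refine (ι_mapBifunctorMap (𝟙 L) g B _ i.1.1 i.1.2 n i.2).trans ?_
    rw [HomologicalComplex.id_f, CategoryTheory.Functor.map_id, NatTrans.id_app]
    exact Category.id_comp _
  have hexact := colim.exact_mapShortComplex hU (hc S.X₁) (c₂ := c S.X₂) (hc S.X₂) (c₃ := c S.X₃) (hc S.X₃)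
    ((((tens B).obj L).map S.f).f n) ((((tens B).obj L).map S.g).f n)
    (fun i => sq S.f i.as) (fun i => sq S.g i.as)
  have hmono : Mono ((((tens B).obj L).map S.f).f n) := by
    have := NatTrans.mono_of_mono_app U.f
    exact colim.map_mono' U.f (hc S.X₁) (hc S.X₂) _ fun i => sq S.f i.as
  have hepi : Epi ((((tens B).obj L).map S.g).f n) := by
    refine ⟨fun {Z} a b hab => Cofan.IsColimit.hom_ext (hc S.X₃) _ _ fun i => ?_⟩
    have := hUg ⟨i⟩
    refine (cancel_epi (U.g.app ⟨i⟩)).1 ?_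
    have h2 : ∀ x : (((tens B).obj L).obj S.X₃).X n ⟶ Z,
        (B.obj (L.X i.1.1)).map (S.g.f i.1.2) ≫ (c S.X₃).inj i ≫ x =
          (c S.X₂).inj i ≫ (((tens B).obj L).map S.g).f n ≫ x := fun x =>
      ((Category.assoc _ _ _).symm.trans (congrArg (· ≫ x) (sq S.g i).symm)).trans (Category.assoc _ _ _)
    exact (h2 a).trans ((congrArg ((c S.X₂).inj i ≫ ·) hab).trans (h2 b).symm)
  exact { exact := hexact, mono_f := hmono, epi_g := hepi }

variable {K₁ : CochainComplex A ℤ}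

include e in
lemma shortExact_tens_of_flat₃ (hcl : ∀ X, PreservesFiniteColimits (B.obj X))
    (hcov : ∀ M : A, ∃ (F : A) (p : F ⟶ M), Epi p ∧ FlatObj B F)
    {S : ShortComplex (CochainComplex A ℤ)} (hS : S.ShortExact) (h₃ : ∀ n, FlatObj B (S.X₃.X n))
    (L : CochainComplex A ℤ) : (S.map ((tens B).obj L)).ShortExact :=
  shortExact_tens_obj L S fun p q =>
    shortExact_of_flat₃ e hcl hcov (hS.map_of_exact (eval A _ q)) (h₃ q) (L.X p)

include e in
theorem rflat_two_out_of_three (hcl : ∀ X, PreservesFiniteColimits (B.obj X))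
    (hcov : ∀ M : A, ∃ (F : A) (p : F ⟶ M), Epi p ∧ FlatObj B F)
    {S : ShortComplex (CochainComplex A ℤ)} (hS : S.ShortExact) (h₃ : ∀ n, FlatObj B (S.X₃.X n)) :
    (RFlat B S.X₁ → RFlat B S.X₂ → RFlat B S.X₃) ∧ (RFlat B S.X₁ → RFlat B S.X₃ → RFlat B S.X₂) ∧
      (RFlat B S.X₂ → RFlat B S.X₃ → RFlat B S.X₁) :=
  ⟨fun a b L hL => acyclic₃ (shortExact_tens_of_flat₃ e hcl hcov hS h₃ L) (a L hL) (b L hL),
   fun a b L hL => acyclic₂ (shortExact_tens_of_flat₃ e hcl hcov hS h₃ L) (a L hL) (b L hL),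
   fun a b L hL => acyclic₁ (shortExact_tens_of_flat₃ e hcl hcov hS h₃ L) (a L hL) (b L hL)⟩

end Groth.Agent.KFlat
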