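import Mathlib.Algebra.Category.ModuleCat.Stalk
import Mathlib.Algebra.Category.ModuleCat.Presheaf.Monoidal
import Mathlib.LinearAlgebra.TensorProduct.Basic

/-!
The stalk of a tensor product of presheaves of modules is the tensor product of the stalks.
-/

set_option autoImplicit false
universe u

namespace Groth.Agent.KFlat

open CategoryTheory Opposite TopologicalSpace MonoidalCategory TensorProduct

section Desc

variable {X : TopCat.{u}} (F : X.Presheaf AddCommGrpCat.{u}) (x : X) {T : Type u} [AddCommGroup T]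
  (f : ∀ (U : Opens X), x ∈ U → F.obj (op U) →+ T)
  (w : ∀ (U V : Opens X) (hV : V ≤ U) (hU : x ∈ U) (hxV : x ∈ V) (s : F.obj (op U)),
    f V hxV (F.map (homOfLE hV).op s) = f U hU s)

/-- a map out of a stalk given on germs -/
noncomputable def stalkDesc : F.stalk x →+ T :=
  (Limits.colimit.desc ((OpenNhds.inclusion x).op ⋙ F)
    { pt := AddCommGrpCat.of T
      ι :=
        { app := fun U => AddCommGrpCat.ofHom (f U.unop.1 U.unop.2)
          naturality := fun U V g => by
            ext s
            exact w _ _ (leOfHom ((OpenNhds.inclusion x).map g.unop)) U.unop.2 V.unop.2 s } }).hom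

lemma stalkDesc_germ (U : Opens X) (hx : x ∈ U) (s : F.obj (op U)) :
    stalkDesc F x f w (F.germ U x hx s) = f U hx s :=
  ConcreteCategory.congr_hom (Limits.colimit.ι_desc (F := (OpenNhds.inclusion x).op ⋙ F) _
    (op ⟨U, hx⟩)) s

lemma stalk_addHom_ext {g h : F.stalk x →+ T}
    (e : ∀ (U : Opens X) (hx : x ∈ U) (s : F.obj (op U)), g (F.germ U x hx s) = h (F.germ U x hx s)) :
    g = h := by
  ext m
  obtain ⟨U, hx, s, rfl⟩ := F.exists_germ_eq (x := x) m
  exact e U hx s

end Desc

variable {X : TopCat.{u}} {R : X.Presheaf CommRingCat.{u}}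
  (P N : PresheafOfModules.{u} (R ⋙ forget₂ CommRingCat.{u} RingCat.{u})) (x : X)

/-- the stalk of a presheaf of modules -/
abbrev PStalk : Type u := ↑(TopCat.Presheaf.stalk P.presheaf x)

/-- the germ of a section -/
noncomputable def pgerm (U : Opens X) (hx : x ∈ U) : P.obj (op U) →+ PStalk P x :=
  (TopCat.Presheaf.germ P.presheaf U x hx).hom

/-- restriction of sections -/
noncomputable def pres {U V : Opens X} (h : V ≤ U) : P.obj (op U) →+ P.obj (op V) :=
  (P.presheaf.map (homOfLE h).op).hom

lemma pgerm_res {U V : Opens X} (h : V ≤ U) (hx : x ∈ V) (s : P.obj (op U)) :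
    pgerm P x V hx (pres P h s) = pgerm P x U (h hx) s :=
  TopCat.Presheaf.germ_res_apply P.presheaf (homOfLE h) x hx s

lemma pgerm_smul {U : Opens X} (hx : x ∈ U) (r : R.obj (op U)) (s : P.obj (op U)) :
    pgerm P x U hx (r • s) = R.germ U x hx r • pgerm P x U hx s :=
  PresheafOfModules.germ_smul P x U hx r s

lemma pres_smul {U V : Opens X} (h : V ≤ U) (r : R.obj (op U)) (s : P.obj (op U)) :
    pres P h (r • s) = R.map (homOfLE h).op r • pres P h s :=
  P.map_smul (homOfLE h).op r s

lemma pres_pres {U V W : Opens X} (h : V ≤ U) (h' : W ≤ V) (s : P.obj (op U)) :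
    pres P h' (pres P h s) = pres P (h'.trans h) s :=
  (ConcreteCategory.congr_hom (P.presheaf.map_comp (homOfLE h).op (homOfLE h').op) s).symm

lemma exists_pgerm (m : PStalk P x) : ∃ (U : Opens X) (hx : x ∈ U) (s : P.obj (op U)),
    pgerm P x U hx s = m :=
  TopCat.Presheaf.exists_germ_eq P.presheaf (x := x) m

section PDesc

variable {T : Type u} [AddCommGroup T]

/-- a map out of the stalk of a presheaf of modules given on germs -/
noncomputable def pDesc (f : ∀ (U : Opens X), x ∈ U → P.obj (op U) →+ T)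
    (w : ∀ (U V : Opens X) (hV : V ≤ U) (hU : x ∈ U) (hxV : x ∈ V) (s : P.obj (op U)),
      f V hxV (pres P hV s) = f U hU s) : PStalk P x →+ T :=
  stalkDesc P.presheaf x f w

lemma pDesc_germ (f : ∀ (U : Opens X), x ∈ U → P.obj (op U) →+ T)
    (w : ∀ (U V : Opens X) (hV : V ≤ U) (hU : x ∈ U) (hxV : x ∈ V) (s : P.obj (op U)),
      f V hxV (pres P hV s) = f U hU s) (U : Opens X) (hx : x ∈ U) (s : P.obj (op U)) :
    pDesc P x f w (pgerm P x U hx s) = f U hx s :=
  stalkDesc_germ P.presheaf x f w U hx s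

lemma pstalk_ext {g h : PStalk P x →+ T}
    (e : ∀ (U : Opens X) (hx : x ∈ U) (s : P.obj (op U)), g (pgerm P x U hx s) = h (pgerm P x U hx s)) :
    g = h := by
  ext m
  obtain ⟨U, hx, s, rfl⟩ := exists_pgerm P x m
  exact e U hx s

end PDesc

lemma mem_inf' {U V : Opens X} (hU : x ∈ U) (hV : x ∈ V) : x ∈ U ⊓ V := ⟨hU, hV⟩

/-- the tensor product presheaf -/
noncomputable abbrev PT : PresheafOfModules.{u} (R ⋙ forget₂ CommRingCat.{u} RingCat.{u}) := P ⊗ N

/-- pure tensor section -/
noncomputable def ptmul {U : Opens X} (p : P.obj (op U)) (n : N.obj (op U)) : (PT P N).obj (op U) :=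
  p ⊗ₜ[R.obj (op U)] n

lemma pres_ptmul {U V : Opens X} (h : V ≤ U) (p : P.obj (op U)) (n : N.obj (op U)) :
    pres (PT P N) h (ptmul P N p n) = ptmul P N (pres P h p) (pres N h n) := rfl

lemma pgerm_ptmul_inf {U V W : Opens X} (hU : W ≤ U) (hV : W ≤ V) (hW : x ∈ W)
    (p : P.obj (op U)) (n : N.obj (op V)) :
    pgerm (PT P N) x (U ⊓ V) (mem_inf' x (hU hW) (hV hW)) (ptmul P N (pres P inf_le_left p) (pres N inf_le_right n)) =
      pgerm (PT P N) x W hW (ptmul P N (pres P hU p) (pres N hV n)) := by
  rw [← pgerm_res (PT P N) x (le_inf hU hV) hW, pres_ptmul, pres_pres, pres_pres]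

/-- pairing of a section with a germ -/
noncomputable def pairR (U : Opens X) (hU : x ∈ U) (p : P.obj (op U)) : PStalk N x →+ PStalk (PT P N) x :=
  pDesc N x
    (fun V hV => AddMonoidHom.mk' (fun n : N.obj (op V) => pgerm (PT P N) x (U ⊓ V) (mem_inf' x hU hV)
      (ptmul P N (pres P inf_le_left p) (pres N inf_le_right n))) fun a b => by
        rw [map_add]
        exact (congrArg _ (tmul_add _ _ _)).trans (map_add _ _ _))
    fun V V' h hV hV' n => by
      change pgerm (PT P N) x (U ⊓ V') _ (ptmul P N (pres P inf_le_left p) (pres N inf_le_right (pres N h n))) =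
        pgerm (PT P N) x (U ⊓ V) _ (ptmul P N (pres P inf_le_left p) (pres N inf_le_right n))
      rw [pres_pres, pgerm_ptmul_inf P N x (W := U ⊓ V') inf_le_left (inf_le_right.trans h) (mem_inf' x hU hV')]

lemma pairR_germ (U : Opens X) (hU : x ∈ U) (p : P.obj (op U)) (V : Opens X) (hV : x ∈ V)
    (n : N.obj (op V)) : pairR P N x U hU p (pgerm N x V hV n) = pgerm (PT P N) x (U ⊓ V) (mem_inf' x hU hV)
      (ptmul P N (pres P inf_le_left p) (pres N inf_le_right n)) :=
  pDesc_germ _ _ _ _ V hV n

/-- pairing of germs -/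
noncomputable def pairing : PStalk P x →+ PStalk N x →+ PStalk (PT P N) x :=
  pDesc P x (T := PStalk N x →+ PStalk (PT P N) x)
    (fun U hU => AddMonoidHom.mk' (fun p : P.obj (op U) => pairR P N x U hU p) fun a b => by
      refine pstalk_ext N x fun V hV n => ?_
      change pairR P N x U hU (a + b) (pgerm N x V hV n) =
        pairR P N x U hU a (pgerm N x V hV n) + pairR P N x U hU b (pgerm N x V hV n)
      rw [pairR_germ, pairR_germ, pairR_germ, ← map_add, map_add]
      exact congrArg _ (add_tmul _ _ _))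
    fun U U' h hU hU' p => by
      refine pstalk_ext N x fun V hV n => ?_
      change pairR P N x U' hU' (pres P h p) (pgerm N x V hV n) = pairR P N x U hU p (pgerm N x V hV n)
      rw [pairR_germ, pairR_germ, pres_pres,
        pgerm_ptmul_inf P N x (W := U' ⊓ V) (inf_le_left.trans h) inf_le_right (mem_inf' x hU' hV)]

lemma pairing_germ {W : Opens X} (hW : x ∈ W) (p : P.obj (op W)) (n : N.obj (op W)) :
    pairing P N x (pgerm P x W hW p) (pgerm N x W hW n) = pgerm (PT P N) x W hW (ptmul P N p n) := by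
  have h : pairing P N x (pgerm P x W hW p) = pairR P N x W hW p := pDesc_germ _ _ _ _ W hW p
  rw [h, pairR_germ, pgerm_ptmul_inf P N x le_rfl le_rfl hW]
  congr 1
  have e : ∀ (Q : PresheafOfModules.{u} (R ⋙ forget₂ CommRingCat.{u} RingCat.{u})) (s : Q.obj (op W)),
      pres Q le_rfl s = s := fun Q s => ConcreteCategory.congr_hom (Q.presheaf.map_id (op W)) s
  rw [e, e]

lemma pairing_smul (r : R.stalk x) (m : PStalk P x) (n : PStalk N x) :
    pairing P N x (r • m) n = r • pairing P N x m n ∧ pairing P N x m (r • n) = r • pairing P N x m n := by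
  obtain ⟨U, hU, r, rfl⟩ := TopCat.Presheaf.exists_germ_eq R (x := x) r
  obtain ⟨V, hV, m, rfl⟩ := exists_pgerm P x m
  obtain ⟨W, hW, n, rfl⟩ := exists_pgerm N x n
  have hx : x ∈ U ⊓ V ⊓ W := mem_inf' x (mem_inf' x hU hV) hW
  rw [← pgerm_res P x (show U ⊓ V ⊓ W ≤ V from inf_le_left.trans inf_le_right) hx,
    ← pgerm_res N x (show U ⊓ V ⊓ W ≤ W from inf_le_right) hx,
    ← TopCat.Presheaf.germ_res_apply R (homOfLE (show U ⊓ V ⊓ W ≤ U from inf_le_left.trans inf_le_left)) x hx r,
    ← pgerm_smul, ← pgerm_smul, pairing_germ, pairing_germ, pairing_germ, ← pgerm_smul]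
  exact ⟨congrArg _ (TensorProduct.smul_tmul' _ _ _).symm, congrArg _ (TensorProduct.tmul_smul _ _ _)⟩

/-- pairing of germs, bilinear -/
noncomputable def pairingₗ : PStalk P x →ₗ[R.stalk x] PStalk N x →ₗ[R.stalk x] PStalk (PT P N) x :=
  LinearMap.mk₂ (R.stalk x) (fun m n => pairing P N x m n)
    (fun a b n => by rw [map_add]; rfl) (fun r m n => (pairing_smul P N x r m n).1)
    (fun m a b => map_add _ _ _) (fun r m n => (pairing_smul P N x r m n).2)

/-- the comparison map from the tensor product of the stalks -/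
noncomputable def toStalkTensor : PStalk P x ⊗[R.stalk x] PStalk N x →ₗ[R.stalk x] PStalk (PT P N) x :=
  TensorProduct.lift (pairingₗ P N x)

lemma toStalkTensor_tmul {W : Opens X} (hW : x ∈ W) (p : P.obj (op W)) (n : N.obj (op W)) :
    toStalkTensor P N x (pgerm P x W hW p ⊗ₜ pgerm N x W hW n) = pgerm (PT P N) x W hW (ptmul P N p n) :=
  pairing_germ P N x hW p n

lemma ptensor_ext {U : Opens X} {T : Type u} [AddCommGroup T] {g h : (PT P N).obj (op U) →+ T}
    (e : ∀ (p : P.obj (op U)) (n : N.obj (op U)), g (ptmul P N p n) = h (ptmul P N p n)) : g = h :=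
  AddMonoidHom.ext fun s => TensorProduct.induction_on
    (motive := fun t : TensorProduct (R.obj (op U)) (P.obj (op U)) (N.obj (op U)) =>
      g (t : (PT P N).obj (op U)) = h (t : (PT P N).obj (op U))) s
    ((map_zero g).trans (map_zero h).symm) e
    fun a b ha hb => ((map_add g a b).trans (congrArg₂ (· + ·) ha hb)).trans (map_add h a b).symm

/-- sections to the tensor product of stalks -/
noncomputable def ofSection (U : Opens X) (hU : x ∈ U) :
    (PT P N).obj (op U) →+ PStalk P x ⊗[R.stalk x] PStalk N x :=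
  TensorProduct.liftAddHom
    (AddMonoidHom.mk' (fun p : P.obj (op U) => AddMonoidHom.mk'
        (fun n : N.obj (op U) => pgerm P x U hU p ⊗ₜ[R.stalk x] pgerm N x U hU n)
        fun a b => by rw [map_add, tmul_add])
      fun a b => by ext n; change pgerm P x U hU (a + b) ⊗ₜ[R.stalk x] pgerm N x U hU n = _; rw [map_add, add_tmul]; rfl)
    fun r p n => by
      change pgerm P x U hU (r • p) ⊗ₜ[R.stalk x] pgerm N x U hU n =
        pgerm P x U hU p ⊗ₜ[R.stalk x] pgerm N x U hU (r • n)
      rw [pgerm_smul, pgerm_smul, smul_tmul]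

lemma ofSection_tmul (U : Opens X) (hU : x ∈ U) (p : P.obj (op U)) (n : N.obj (op U)) :
    ofSection P N x U hU (ptmul P N p n) = pgerm P x U hU p ⊗ₜ pgerm N x U hU n := rfl

/-- the comparison map to the tensor product of the stalks -/
noncomputable def ofStalkTensor : PStalk (PT P N) x →+ PStalk P x ⊗[R.stalk x] PStalk N x :=
  pDesc (PT P N) x (ofSection P N x) fun U V h hU hV s => by
    change ((ofSection P N x V hV).comp (pres (PT P N) h)) s = ofSection P N x U hU s
    refine DFunLike.congr_fun (ptensor_ext P N fun p n => ?_) s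
    rw [AddMonoidHom.comp_apply, pres_ptmul, ofSection_tmul, ofSection_tmul, pgerm_res, pgerm_res]

lemma ofStalkTensor_germ {U : Opens X} (hU : x ∈ U) (s : (PT P N).obj (op U)) :
    ofStalkTensor P N x (pgerm (PT P N) x U hU s) = ofSection P N x U hU s :=
  pDesc_germ _ _ _ _ U hU s

/-- the stalk of a tensor product -/
noncomputable def stalkTensorEquiv :
    PStalk P x ⊗[R.stalk x] PStalk N x ≃ₗ[R.stalk x] PStalk (PT P N) x :=
  LinearEquiv.ofBijective (toStalkTensor P N x) <| by
    refine Function.bijective_iff_has_inverse.2 ⟨ofStalkTensor P N x, fun z => ?_, fun s => ?_⟩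
    · induction z using TensorProduct.induction_on with
      | zero => rw [map_zero, map_zero]
      | tmul m n =>
        obtain ⟨U, hU, m, rfl⟩ := exists_pgerm P x m
        obtain ⟨V, hV, n, rfl⟩ := exists_pgerm N x n
        rw [← pgerm_res P x (show U ⊓ V ≤ U from inf_le_left) (mem_inf' x hU hV),
          ← pgerm_res N x (show U ⊓ V ≤ V from inf_le_right) (mem_inf' x hU hV), toStalkTensor_tmul,
          ofStalkTensor_germ, ofSection_tmul]
      | add a b ha hb => rw [map_add, map_add, ha, hb]
    · obtain ⟨U, hU, s, rfl⟩ := exists_pgerm (PT P N) x s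
      rw [ofStalkTensor_germ]
      refine DFunLike.congr_fun (ptensor_ext P N (g := (toStalkTensor P N x).toAddMonoidHom.comp
        (ofSection P N x U hU)) (h := pgerm (PT P N) x U hU) fun p n => ?_) s
      rw [AddMonoidHom.comp_apply, ofSection_tmul]
      exact toStalkTensor_tmul P N x hU p n

lemma stalkTensorEquiv_apply (z : PStalk P x ⊗[R.stalk x] PStalk N x) :
    stalkTensorEquiv P N x z = toStalkTensor P N x z := rfl

end Groth.Agent.KFlat
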