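import Groth.Agent.KFlat.TorAmp

/-!
Left derived functors computed by K-flat complexes are absolute: they stay derived functors
after composition with any functor.
-/

set_option autoImplicit false
universe u

namespace Groth.Agent.KFlat

open CategoryTheory Limits AlgebraicGeometry

section Generic

variable {C D H : Type*} [Category* C] [Category* D] [Category* H]

namespace LeftRes

variable {W : MorphismProperty C} [W.HasTwoOutOfThreeProperty] {F : C ⥤ H} {Q : ObjectProperty C}

/-- a functor equal to `F` on the resolving objects is a left derived functor -/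
lemma isLeftDerivedFunctor_of_isIso (r : LeftRes W F Q) {L : C ⥤ D} [L.IsLocalization W] (G : D ⥤ H)
    (α : L ⋙ G ⟶ F) (hα : ∀ X, Q X → IsIso (α.app X)) : G.IsLeftDerivedFunctor α W := by
  rw [(r.derived L).isLeftDerivedFunctor_iff_isIso_leftDerivedLift (r.counit L) W G α]
  rw [NatTrans.isIso_iff_isIso_app]
  intro d
  have := Localization.essSurj L W
  let e : L.obj (r.ρ.obj (L.objPreimage d)) ≅ d :=
    @asIso _ _ _ _ (L.map (r.ψ.app (L.objPreimage d))) (r.isIso_map_ψ L _) ≪≫ L.objObjPreimageIso d
  refine (NatTrans.isIso_app_iff_of_iso _ e).1 ?_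
  have := hα _ (r.mem (L.objPreimage d))
  have := r.isIso_counit_app L (r.mem (L.objPreimage d))
  exact IsIso.of_isIso_fac_right ((r.derived L).leftDerived_fac_app (r.counit L) W G α _)

/-- resolutions for a composite -/
def comp {H' : Type*} [Category* H'] (r : LeftRes W F Q) (U : H ⥤ H') : LeftRes W (F ⋙ U) Q where
  ρ := r.ρ
  ψ := r.ψ
  mem := r.mem
  weq := r.weq
  isIso_map f h₁ h₂ h₃ := by
    have := r.isIso_map f h₁ h₂ h₃
    exact inferInstanceAs (IsIso (U.map (F.map f)))

end LeftRes

end Generic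

attribute [local instance] HasDerivedCategory.standard

variable {X Z : Scheme.{u}} {T : X.Modules ⥤ Z.Modules} [T.Additive]

theorem isLeftDerivedFunctor_comp_of_kFlatAcyclic (hT : KFlatAcyclic T) (G : DCoh.D X ⥤ DCoh.D Z)
    (α : DerivedCategory.Qh ⋙ G ⟶ T.mapHomotopyCategory (ComplexShape.up ℤ) ⋙ DerivedCategory.Qh)
    [G.IsLeftDerivedFunctor α (HomotopyCategory.quasiIso X.Modules (ComplexShape.up ℤ))]
    {H : Type*} [Category* H] (U : DCoh.D Z ⥤ H) :
    (G ⋙ U).IsLeftDerivedFunctor
      ((Functor.associator _ _ _).inv ≫ Functor.whiskerRight α U)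
      (HomotopyCategory.quasiIso X.Modules (ComplexShape.up ℤ)) := by
  let q := HomotopyCategory.quotient X.Modules (ComplexShape.up ℤ)
  let W₀ := HomologicalComplex.homotopyEquivalences X.Modules (ComplexShape.up ℤ)
  let W' := HomologicalComplex.quasiIso X.Modules (ComplexShape.up ℤ)
  have : (q ⋙ DerivedCategory.Qh).IsLocalization W' :=
    Functor.IsLocalization.of_iso _ (DerivedCategory.quotientCompQhIso X.Modules).symm
  let F := T.mapHomotopyCategory (ComplexShape.up ℤ) ⋙ DerivedCategory.Qh
  let α' : DerivedCategory.Qh ⋙ (G ⋙ U) ⟶ F ⋙ U :=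
    (Functor.associator _ _ _).inv ≫ Functor.whiskerRight α U
  let α₀ : (q ⋙ DerivedCategory.Qh) ⋙ (G ⋙ U) ⟶ q ⋙ (F ⋙ U) :=
    (Functor.associator _ _ _).hom ≫ Functor.whiskerLeft q α'
  have h₀ : (G ⋙ U).IsLeftDerivedFunctor α₀ W' :=
    ((leftResOfKFlatAcyclic hT).comp U).isLeftDerivedFunctor_of_isIso (G ⋙ U) α₀ fun K hK => by
      have := isIso_app_of_kFlat hT G α hK
      simp only [α₀, α', NatTrans.comp_app, Functor.associator_hom_app, Functor.associator_inv_app,
        Functor.whiskerLeft_app, Functor.whiskerRight_app]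
      exact IsIso.comp_isIso' (Iso.refl _).isIso_hom
        (IsIso.comp_isIso' (Iso.refl _).isIso_hom (inferInstanceAs (IsIso (U.map (α.app (q.obj K))))))
  have h := isLeftDerivedFunctor_descend q (W₀ := W₀) DerivedCategory.Qh (G ⋙ U) W'
    (HomotopyCategory.quasiIso X.Modules (ComplexShape.up ℤ)) α₀
  have he : descendTrans q (W₀ := W₀) DerivedCategory.Qh (G ⋙ U) α₀ = α' := by
    have := Localization.faithful_whiskeringLeft q W₀ H
    refine ((Functor.whiskeringLeft _ _ H).obj q).map_injective ?_
    ext K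
    exact (descendTrans_app q (W₀ := W₀) DerivedCategory.Qh (G ⋙ U) α₀ K).trans (Category.id_comp _)
  rwa [he] at h

end Groth.Agent.KFlat
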