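import Groth.Agent.KFlat.RFlat
import Groth.Agent.KFlat.Exact
import Mathlib.CategoryTheory.Abelian.Refinements

/-!
The cycles of an acyclic K-flat complex with flat terms are flat.
-/

set_option autoImplicit false
set_option linter.unusedSectionVars false
universe v u

namespace Groth.Agent.KFlat

open CategoryTheory Limits HomologicalComplex

variable {A : Type u} [Category.{v} A] [Abelian A] {B : A ⥤ A ⥤ A} [B.Additive]
  [∀ X, (B.obj X).Additive]
  [∀ K L : CochainComplex A ℤ, HomologicalComplex.HasMapBifunctor K L B (ComplexShape.up ℤ)]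

/-- acyclicity of `K ⊗ M[0]` gives exactness of `K ⊗ M` -/
lemma exact_map_flip_of_acyclic {K : CochainComplex A ℤ} {M : A}
    (h : (((tens B).obj K).obj ((single A (ComplexShape.up ℤ) 0).obj M)).Acyclic) (p : ℤ) :
    ((K.sc' p (p + 1) (p + 1 + 1)).map (B.flip.obj M)).Exact := by
  have h' := (exactAt_iff' _ (p + 0) (p + 1 + 0) (p + 1 + 1 + 0) (by simp) (by simp)).1 (h (p + 1 + 0))
  refine (ShortComplex.exact_iff_of_iso ?_).2 h'
  refine ShortComplex.isoMk (singleXIso B K M 0 p (p + 0) rfl)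
    (singleXIso B K M 0 (p + 1) (p + 1 + 0) rfl) (singleXIso B K M 0 (p + 1 + 1) (p + 1 + 1 + 0) rfl) ?_ ?_
  · exact singleXIso_comm' B K M 0 p (p + 0) (p + 1 + 0) rfl rfl
  · exact singleXIso_comm' B K M 0 (p + 1) (p + 1 + 0) (p + 1 + 1 + 0) rfl rfl

theorem flatObj_cycles (e : B ≅ B.flip) (hcl : ∀ X, PreservesFiniteColimits (B.obj X))
    (hres : ∀ F : CochainComplex A ℤ, ∃ (F' : CochainComplex A ℤ) (q : F' ⟶ F), RFlat B F' ∧ QuasiIso q)
    {K : CochainComplex A ℤ} (hK : RFlat B K) (hac : K.Acyclic) (hfl : ∀ i, FlatObj B (K.X i)) (n : ℤ) :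
    FlatObj B (K.cycles n) := by
  obtain ⟨m, rfl⟩ : ∃ m, m + 1 + 1 = n := ⟨n - 1 - 1, by lia⟩
  have hex : ∀ (M : A) (p : ℤ), ((K.sc' p (p + 1) (p + 1 + 1)).map (B.obj M)).Exact := fun M p =>
    (ShortComplex.exact_iff_of_iso ((K.sc' p (p + 1) (p + 1 + 1)).mapNatIso (e.app M))).2
      (exact_map_flip_of_acyclic (acyclic_of_iso (swapIso e _ K)
        (acyclic_tens_of_acyclic_rflat e hres hK hac _)) p)
  have hepi : Epi (K.toCycles (m + 1) (m + 1 + 1)) :=
    Preadditive.epi_of_isZero_cokernel' _ (K.homologyIsCokernel (m + 1) (m + 1 + 1) (by simp))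
      (acyclic_iff_isZero.1 hac _)
  have hi : ∀ M : A, Mono ((B.obj M).map (K.iCycles (m + 1 + 1))) := fun M => by
    have := hcl M
    have : Epi ((B.obj M).map (K.toCycles (m + 1) (m + 1 + 1))) := inferInstance
    refine Preadditive.mono_of_cancel_zero _ fun {T} t ht => ?_
    obtain ⟨T₁, π₁, _, x, hx⟩ :=
      surjective_up_to_refinements_of_epi ((B.obj M).map (K.toCycles (m + 1) (m + 1 + 1))) t
    have hx0 : x ≫ (B.obj M).map (K.d (m + 1) (m + 1 + 1)) = 0 := by
      rw [← K.toCycles_i (m + 1) (m + 1 + 1), Functor.map_comp, ← reassoc_of% hx, ht, comp_zero]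
    obtain ⟨T₂, π₂, _, y, hy⟩ := (hex M m).exact_up_to_refinements x hx0
    have hz : K.d m (m + 1) ≫ K.toCycles (m + 1) (m + 1 + 1) = 0 := by
      rw [← cancel_mono (K.iCycles (m + 1 + 1)), Category.assoc, toCycles_i, d_comp_d, zero_comp]
    obtain ⟨y', hy'⟩ : ∃ y' : T₂ ⟶ (B.obj M).obj (K.X m),
        π₂ ≫ x = y' ≫ (B.obj M).map (K.d m (m + 1)) := ⟨y, hy⟩
    have h0 : π₂ ≫ π₁ ≫ t = 0 := by
      rw [hx, reassoc_of% hy', ← Functor.map_comp, hz, Functor.map_zero, comp_zero]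
    rw [← cancel_epi π₁, ← cancel_epi π₂, h0, comp_zero, comp_zero]
  refine flatObj_of_mono (fun X => exact_flip_of_rightExact e hcl X) _ fun M N f hf => ?_
  have : Mono ((B.map f).app (K.X (m + 1 + 1))) := by
    have h := hfl (m + 1 + 1)
    have := ((B.flip.obj (K.X (m + 1 + 1))).exact_tfae.out 1 3 rfl rfl).1 h
    have := this.1
    exact ((B.flip.obj (K.X (m + 1 + 1))).map_mono f : _)
  have := hi M
  have : Mono ((B.map f).app (K.cycles (m + 1 + 1)) ≫ (B.obj N).map (K.iCycles (m + 1 + 1))) := by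
    rw [← NatTrans.naturality]
    infer_instance
  exact mono_of_mono _ ((B.obj N).map (K.iCycles (m + 1 + 1)))

end Groth.Agent.KFlat
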