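import Groth.Agent.KFlat.FreeSystemSite
import Groth.Agent.KFlat.Site
import Groth.Agent.KFlat.Cycles
import Groth.Agent.PullFlat.Flat

/-!
Inverse images of K-flat complexes with flat terms on ringed sites are K-flat.
-/

set_option autoImplicit false
set_option linter.unusedSectionVars false
set_option backward.isDefEq.respectTransparency false
universe u

namespace Groth.Agent.KFlat

open CategoryTheory Limits HomologicalComplex

variable {C : Type u} [SmallCategory C] {J : GrothendieckTopology C} {O_C : Sheaf J CommRingCat.{u}}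
  {D : Type u} [SmallCategory D] {K : GrothendieckTopology D} {O_D : Sheaf K CommRingCat.{u}}
  (f : ModSite.RMor O_C O_D)

lemma isFlat_sum_freeOn {X : ModSite.Mod O_D} (h : IsSum (fun U : D => ModSite.freeOn O_D U) X) :
    ModSite.IsFlat X := by
  obtain ⟨I, U, ⟨e⟩⟩ := h
  exact (flatObj_iff O_D _).1 (flatObj_of_iso e.symm ((flatObj_iff O_D _).2
    (isFlat_sigma_site O_D _ fun i => ModSiteFree.isFlat_freeOn (U i))))

lemma colimits_pull : PreservesColimitsOfSize.{0, 0} f.pull :=
  f.adj.leftAdjoint_preservesColimits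

lemma additive_pull : f.pull.Additive := by
  have := colimits_pull f
  have := preservesBinaryBiproducts_of_preservesBinaryCoproducts f.pull
  exact Functor.additive_of_preservesBinaryBiproducts f.pull

/-- one stage -/
theorem rflat_pull_stage [f.pull.Additive] (M : CochainComplex (ModSite.Mod O_D) ℤ) (hb : BddAbv M)
    (hfl : ∀ i, ModSite.IsFlat (M.X i)) :
    RFlat (ModSite.tensorBi O_C) ((f.pull.mapHomologicalComplex (ComplexShape.up ℤ)).obj M) := by
  obtain ⟨b, hb⟩ := hb
  exact rflat_of_bounded_above (ModSite.tensorBi O_C) (preservesColimits_nat O_C)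
    (K := (f.pull.mapHomologicalComplex (ComplexShape.up ℤ)).obj M) b
    (fun i hi => Functor.map_isZero f.pull (hb i hi))
    fun i => (flatObj_iff O_C (f.pull.obj (M.X i))).2 (PullFlat.isFlat_pull f _ (hfl i))

theorem isColimit_pull [f.pull.Additive] (F : ℕ ⥤ CochainComplex (ModSite.Mod O_D) ℤ) (c : Cocone F)
    (hc : IsColimit c) :
    Nonempty (IsColimit ((f.pull.mapHomologicalComplex (ComplexShape.up ℤ)).mapCocone c)) := by
  have := colimits_pull f
  exact ⟨isColimitOfEval _ _ fun q =>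
    isColimitOfPreserves f.pull (isColimitOfPreserves (HomologicalComplex.eval (ModSite.Mod O_D) (ComplexShape.up ℤ) q) hc)⟩

theorem rflat_pull_of_seq' [f.pull.Additive] (F : ℕ ⥤ CochainComplex (ModSite.Mod O_D) ℤ) (c : Cocone F)
    (hc : IsColimit c) (hb : ∀ k, BddAbv (F.obj k)) (hfl : ∀ k i, ModSite.IsFlat ((F.obj k).X i)) :
    RFlat (ModSite.tensorBi O_C) ((f.pull.mapHomologicalComplex (ComplexShape.up ℤ)).obj c.pt) :=
  rflat_of_isColimit (c := (f.pull.mapHomologicalComplex (ComplexShape.up ℤ)).mapCocone c)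
    (preservesColimits_nat O_C) (isColimit_pull f F c hc).some fun k => rflat_pull_stage f (F.obj k) (hb k) (hfl k)

/-- a sequential colimit of bounded above complexes of flat modules: it and its inverse image are K-flat -/
theorem rflat_pull_of_seq [f.pull.Additive] (F : ℕ ⥤ CochainComplex (ModSite.Mod O_D) ℤ) (c : Cocone F)
    (hc : IsColimit c) (hb : ∀ k, BddAbv (F.obj k)) (hfl : ∀ k i, ModSite.IsFlat ((F.obj k).X i)) :
    RFlat (ModSite.tensorBi O_D) c.pt ∧
      RFlat (ModSite.tensorBi O_C) ((f.pull.mapHomologicalComplex (ComplexShape.up ℤ)).obj c.pt) := by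
  refine ⟨rflat_of_isColimit (preservesColimits_nat O_D) hc fun k => ?_, ?_⟩
  · obtain ⟨b, hb⟩ := hb k
    exact rflat_of_bounded_above (ModSite.tensorBi O_D) (preservesColimits_nat O_D) b hb
      fun i => (flatObj_iff O_D _).2 (hfl k i)
  exact rflat_pull_of_seq' f F c hc hb hfl

/-- a complex with flat terms and flat cycles pulls back to a K-flat complex -/
theorem rflat_pull_of_flat_cycles [f.pull.Additive] (P : CochainComplex (ModSite.Mod O_D) ℤ)
    (h₁ : ∀ i, ModSite.IsFlat (P.X i)) (h₂ : ∀ i, ModSite.IsFlat (P.cycles i)) :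
    RFlat (ModSite.tensorBi O_C) ((f.pull.mapHomologicalComplex (ComplexShape.up ℤ)).obj P) := by
  choose t ht using fun n : ℕ => exists_truncLE_step P (n : ℤ) ((n + 1 : ℕ) : ℤ) (by lia)
  let F : ℕ ⥤ CochainComplex (ModSite.Mod O_D) ℤ := Functor.ofSequence (X := fun n : ℕ => P.truncLE (n : ℤ)) t
  let c : Cocone F := Cocone.mk P (NatTrans.ofSequence (fun n => P.ιTruncLE (n : ℤ)) fun n => by
    refine Eq.trans ?_ (Category.comp_id _).symm
    erw [Functor.ofSequence_map_homOfLE_succ]
    exact ht n)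
  have hc : IsColimit c := isColimitOfEval _ _ fun q => by
    refine IsColimit.ofExistsUnique fun s => ?_
    let N : ℕ := (q + 1).toNat
    have hN : q < (N : ℤ) := by lia
    haveI := isIso_ιTruncLE_f P (N : ℤ) q hN
    refine ⟨inv ((P.ιTruncLE (N : ℤ)).f q) ≫ s.ι.app N, fun k => ?_, fun m hm => ?_⟩
    · change (P.ιTruncLE (k : ℤ)).f q ≫ _ = _
      rcases le_total k N with hk | hk
      · have e := congrArg (fun g => HomologicalComplex.Hom.f g q) (c.w (homOfLE hk))
        change (F.map (homOfLE hk)).f q ≫ (P.ιTruncLE (N : ℤ)).f q = (P.ιTruncLE (k : ℤ)).f q at e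
        rw [← e, Category.assoc, IsIso.hom_inv_id_assoc]
        exact s.w (homOfLE hk)
      · haveI := isIso_ιTruncLE_f P (k : ℤ) q (by lia)
        have e := congrArg (fun g => HomologicalComplex.Hom.f g q) (c.w (homOfLE hk))
        change (F.map (homOfLE hk)).f q ≫ (P.ιTruncLE (k : ℤ)).f q = (P.ιTruncLE (N : ℤ)).f q at e
        have e' : inv ((P.ιTruncLE (N : ℤ)).f q) ≫ (F.map (homOfLE hk)).f q = inv ((P.ιTruncLE (k : ℤ)).f q) := by
          rw [IsIso.inv_comp_eq, IsIso.eq_comp_inv]
          exact e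
        have es : (F.map (homOfLE hk)).f q ≫ s.ι.app k = s.ι.app N := s.w (homOfLE hk)
        rw [← es, reassoc_of% e', IsIso.hom_inv_id_assoc]
    · rw [← hm N]
      change m = inv _ ≫ (P.ιTruncLE (N : ℤ)).f q ≫ m
      rw [IsIso.inv_hom_id_assoc]
  refine (rflat_pull_of_seq f F c hc (fun k => bddAbv_of_isStrictlyLE (K := P.truncLE (k : ℤ)) (k : ℤ)) fun k i => ?_).2
  change ModSite.IsFlat ((P.truncLE (k : ℤ)).X i)
  rw [← flatObj_iff O_D]
  rcases lt_trichotomy i (k : ℤ) with h | h | h
  · exact flatObj_of_iso (P.truncLEXIso (k : ℤ) i h).symm ((flatObj_iff O_D _).2 (h₁ i))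
  · subst h
    exact flatObj_of_iso (P.truncLEXIsoCycles (k : ℤ)).symm ((flatObj_iff O_D _).2 (h₂ _))
  · exact flatObj_of_isZero ((P.truncLE (k : ℤ)).isZero_of_isStrictlyLE (k : ℤ) i h)

/-- terms of a sequential colimit of flat terms are flat -/
theorem isFlat_colimit_terms (F : ℕ ⥤ CochainComplex (ModSite.Mod O_D) ℤ) (c : Cocone F) (hc : IsColimit c)
    (hfl : ∀ k i, ModSite.IsFlat ((F.obj k).X i)) (i : ℤ) : ModSite.IsFlat (c.pt.X i) :=
  (flatObj_iff O_D (c.pt.X i)).1 (flatObj_of_isColimit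
    (c := (HomologicalComplex.eval (ModSite.Mod O_D) (ComplexShape.up ℤ) i).mapCocone c) (preservesColimits_nat O_D)
    (isColimitOfPreserves (HomologicalComplex.eval (ModSite.Mod O_D) (ComplexShape.up ℤ) i) hc)
    fun n => (flatObj_iff O_D ((F.obj n).X i)).2 (hfl n i))

/-- the cone step -/
theorem rflat_pull_cone [f.pull.Additive] {N L : CochainComplex (ModSite.Mod O_D) ℤ} (q : N ⟶ L) [QuasiIso q]
    (hN : RFlat (ModSite.tensorBi O_D) N)
    (hN' : RFlat (ModSite.tensorBi O_C) ((f.pull.mapHomologicalComplex (ComplexShape.up ℤ)).obj N))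
    (hL : RFlat (ModSite.tensorBi O_D) L) (hflN : ∀ i, ModSite.IsFlat (N.X i))
    (hfl : ∀ n, ModSite.IsFlat (L.X n)) :
    RFlat (ModSite.tensorBi O_C) ((f.pull.mapHomologicalComplex (ComplexShape.up ℤ)).obj L) := by
  have hflC : ∀ i, FlatObj (ModSite.tensorBi O_D) ((CochainComplex.mappingCone q).X i) :=
    flatObj_mappingCone_X q (fun i => (flatObj_iff O_D _).2 (hflN i)) fun i => (flatObj_iff O_D _).2 (hfl i)
  have hC' := rflat_pull_of_flat_cycles f (CochainComplex.mappingCone q) (fun i => (flatObj_iff O_D _).1 (hflC i))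
    fun i => (flatObj_iff O_D _).1 (flatObj_cycles (braid O_D) (preservesFiniteColimits_left O_D)
      (exists_resolution_site' O_D) (rflat_mappingCone q hN hL) (mappingCone_acyclic q) hflC i)
  exact rflat₂_cone O_C ((f.pull.mapHomologicalComplex (ComplexShape.up ℤ)).map q) hN'
    (rflat_of_iso (CochainComplex.mappingCone.mapHomologicalComplexIso q f.pull) hC')

/-- inverse images of K-flat complexes with flat terms are K-flat with flat terms -/
theorem rflat_pull [f.pull.Additive] (L : CochainComplex (ModSite.Mod O_D) ℤ)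
    (hL : RFlat (ModSite.tensorBi O_D) L) (hfl : ∀ n, ModSite.IsFlat (L.X n)) :
    RFlat (ModSite.tensorBi O_C) ((f.pull.mapHomologicalComplex (ComplexShape.up ℤ)).obj L) := by
  have := isGrothendieck O_D
  obtain ⟨Kc, π, -, -, hb, hs, -, q, -, hq⟩ := exists_trunc_system (T := fun U : D => ModSite.freeOn O_D U) L
    (exists_freeOn_cover O_D)
  have hflK : ∀ (n : ℕ) i, ModSite.IsFlat ((Kc.obj n).X i) := fun n i => isFlat_sum_freeOn (hs n i)
  obtain ⟨hN, hN'⟩ := rflat_pull_of_seq f Kc (colimit.cocone Kc) (colimit.isColimit Kc)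
    (fun n => by
      obtain ⟨b, hb⟩ := hb n
      exact bddAbv_of_isStrictlyLE b) hflK
  exact @rflat_pull_cone _ _ _ _ _ _ _ _ f _ (colimit.cocone Kc).pt L q hq hN hN' hL
    (isFlat_colimit_terms Kc (colimit.cocone Kc) (colimit.isColimit Kc) hflK) hfl

end Groth.Agent.KFlat
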