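import Groth.Agent.DRingKP.KFlat
import Groth.Agent.KFlat.FreeSystem

/-!
A complex whose tensor products with all finitely presented modules are acyclic has acyclic tensor
product with every complex.
-/

set_option autoImplicit false
set_option backward.isDefEq.respectTransparency false
set_option linter.unusedSectionVars false
universe u

namespace Groth.Agent.KFlat.PureAcyclic

open CategoryTheory Limits MonoidalCategory HomologicalComplex TensorProduct

variable {R : Type u} [CommRing R]

theorem exists_fp_cycle {X Y : Type u} [AddCommGroup X] [AddCommGroup Y] [Module R X] [Module R Y] (d : X →ₗ[R] Y)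
    (M : Type u) [AddCommGroup M] [Module R M] (z : X ⊗[R] M) (hz : d.rTensor M z = 0) :
    ∃ (M' : Type u) (_ : AddCommGroup M') (_ : Module R M') (_ : Module.FinitePresentation R M')
      (g : M' →ₗ[R] M) (z' : X ⊗[R] M'), g.lTensor X z' = z ∧ d.rTensor M' z' = 0 := by
  classical
  obtain ⟨S₀, hS₀⟩ := TensorProduct.exists_finset z
  let π : (M →₀ R) →ₗ[R] M := Finsupp.linearCombination R id
  let e : M → M →₀ R := fun m => Finsupp.single m 1
  have hπe : ∀ m, π (e m) = m := fun m => by simp [π, e]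
  let w' : Y ⊗[R] (M →₀ R) := ∑ p ∈ S₀, d p.1 ⊗ₜ[R] e p.2
  have hw : π.lTensor Y w' = 0 := by
    rw [← hz, hS₀]
    simp [w', map_sum, hπe]
  have hπ : Function.Surjective π := Finsupp.linearCombination_surjective R Function.surjective_id
  have hex : Function.Exact (LinearMap.ker π).subtype π := LinearMap.exact_subtype_ker_map π
  obtain ⟨y, hy⟩ := (lTensor_exact (M := LinearMap.ker π) (f := (LinearMap.ker π).subtype) Y hex hπ w').1 hw
  obtain ⟨T, hT⟩ := TensorProduct.exists_finset y
  let S : Finset M := S₀.image Prod.snd ∪ T.biUnion fun q => (q.2 : M →₀ R).support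
  let r : (M →₀ R) →ₗ[R] (S → R) := LinearMap.pi fun s => Finsupp.lapply (s : M)
  let j : (S → R) →ₗ[R] (M →₀ R) := ∑ s : S, (Finsupp.lsingle (s : M)).comp (LinearMap.proj s)
  have hjr : ∀ f : M →₀ R, f.support ⊆ S → j (r f) = f := fun f hf => by
    conv_rhs => rw [← f.sum_single, Finsupp.sum_of_support_subset f hf _ (fun _ _ => Finsupp.single_zero _)]
    rw [← Finset.sum_coe_sort S]
    simp [j, r, LinearMap.sum_apply]
  let N₀ : Submodule R (S → R) := Submodule.span R ↑(T.image fun q => r (q.2 : M →₀ R))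
  have hN₀ : N₀ ≤ LinearMap.ker (π.comp j) := Submodule.span_le.2 (by
    rintro v hv
    obtain ⟨q, hq, rfl⟩ := Finset.mem_image.1 hv
    show π (j (r (q.2 : M →₀ R))) = 0
    rw [hjr _ (fun x hx => Finset.mem_union_right _ (Finset.mem_biUnion.2 ⟨q, hq, hx⟩))]
    exact q.2.2)
  refine ⟨(S → R) ⧸ N₀, inferInstance, inferInstance,
    Module.finitePresentation_of_surjective N₀.mkQ N₀.mkQ_surjective
      (by rw [Submodule.ker_mkQ]; exact ⟨_, rfl⟩),
    N₀.liftQ (π.comp j) hN₀, ∑ p ∈ S₀, p.1 ⊗ₜ[R] N₀.mkQ (r (e p.2)), ?_, ?_⟩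
  · rw [hS₀, map_sum]
    refine Finset.sum_congr rfl fun p hp => ?_
    rw [LinearMap.lTensor_tmul, Submodule.mkQ_apply, Submodule.liftQ_apply, LinearMap.comp_apply,
      hjr _ (fun x hx => Finset.mem_union_left _ (Finset.mem_image.2 ⟨p, hp, by
        simpa [e, eq_comm] using (Finsupp.support_single_subset hx)⟩)), hπe]
  · have h1 := congrArg ((N₀.mkQ.comp r).lTensor Y) hy
    rw [hT] at h1
    simp only [map_sum, LinearMap.lTensor_tmul, w', LinearMap.comp_apply, Submodule.subtype_apply] at h1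
    simp only [map_sum, LinearMap.rTensor_tmul]
    rw [← h1]
    refine Finset.sum_eq_zero fun q hq => ?_
    rw [show N₀.mkQ (r (q.2 : M →₀ R)) = 0 from (Submodule.Quotient.mk_eq_zero _).2
      (Submodule.subset_span (Finset.mem_image.2 ⟨q, hq, rfl⟩)), TensorProduct.tmul_zero]

theorem acyclic_tensorRight (K : CochainComplex (ModuleCat.{u} R) ℤ)
    (hK : ∀ (M : Type u) [AddCommGroup M] [Module R M], Module.FinitePresentation R M →
      (((tensorRight (ModuleCat.of R M)).mapHomologicalComplex (ComplexShape.up ℤ)).obj K).Acyclic)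
    (M : ModuleCat.{u} R) :
    (((tensorRight M).mapHomologicalComplex (ComplexShape.up ℤ)).obj K).Acyclic := by
  intro n
  rw [exactAt_iff' _ (n - 1) n (n + 1) (by simp) (by simp), ShortComplex.moduleCat_exact_iff]
  intro z hz
  obtain ⟨M', _, _, hfp, g, z', rfl, hz'⟩ := exists_fp_cycle (K.d n (n + 1)).hom M z hz
  have h := hK M' hfp n
  rw [exactAt_iff' _ (n - 1) n (n + 1) (by simp) (by simp), ShortComplex.moduleCat_exact_iff] at h
  obtain ⟨y, hy⟩ := h z' hz'
  refine ⟨g.lTensor (K.X (n - 1)) y, ?_⟩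
  change (K.d (n - 1) n).hom.rTensor M (g.lTensor _ y) = g.lTensor _ z'
  rw [← hy]
  exact LinearMap.congr_fun ((LinearMap.rTensor_comp_lTensor (g := g) (f := (K.d (n - 1) n).hom)).trans
    (LinearMap.lTensor_comp_rTensor (g := g) (f := (K.d (n - 1) n).hom)).symm) y

variable (K : CochainComplex (ModuleCat.{u} R) ℤ)
  (hK : ∀ M : ModuleCat.{u} R, (((tensorRight M).mapHomologicalComplex (ComplexShape.up ℤ)).obj K).Acyclic)

include hK in
theorem acyclic_single (M : ModuleCat.{u} R) (m : ℤ) :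
    (((tens (DRingKP.tB R)).obj K).obj ((single _ (ComplexShape.up ℤ) m).obj M)).Acyclic := by
  intro n
  obtain ⟨p, rfl⟩ : ∃ p, p + 1 + m = n := ⟨n - m - 1, by lia⟩
  rw [exactAt_iff' _ (p + m) (p + 1 + m) (p + 1 + m + 1) (by simp; lia) (by simp)]
  have h := ((((tensorRight M).mapHomologicalComplex (ComplexShape.up ℤ)).obj K).exactAt_iff'
    p (p + 1) (p + 1 + 1) (by simp) (by simp)).1 (hK M (p + 1))
  refine (ShortComplex.exact_iff_of_iso ?_).1 h
  refine ShortComplex.isoMk (singleXIso (DRingKP.tB R) K M m p (p + m) rfl)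
    (singleXIso (DRingKP.tB R) K M m (p + 1) (p + 1 + m) rfl)
    (singleXIso (DRingKP.tB R) K M m (p + 1 + 1) (p + 1 + m + 1) (by lia)) ?_ ?_
  · exact singleXIso_comm' (DRingKP.tB R) K M m p (p + m) (p + 1 + m) rfl (by lia)
  · exact singleXIso_comm (DRingKP.tB R) K M m (p + 1) (p + 1 + m) rfl

include hK in
theorem acyclic_bddAbove (L : CochainComplex (ModuleCat.{u} R) ℤ) (b : ℤ) (hb : ∀ n, b < n → IsZero (L.X n)) :
    (((tens (DRingKP.tB R)).obj K).obj L).Acyclic := by
  have := preservesColimitsOfShape_tens_obj (DRingKP.tB R) (DRingKP.preservesNat_tB R) K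
  refine acyclic_of_isColimit (isColimitOfPreserves ((tens (DRingKP.tB R)).obj K) (isColimitTruncCocone L b))
    fun k => ?_
  change (((tens (DRingKP.tB R)).obj K).obj (trunc L (b + 1 - k))).Acyclic
  induction k with
  | zero =>
    refine acyclic_of_isZero fun i => Functor.map_isZero (eval _ _ i) (((tens (DRingKP.tB R)).obj K).map_isZero ?_)
    rw [IsZero.iff_id_eq_zero]
    refine HomologicalComplex.hom_ext _ _ fun q => ?_
    change 𝟙 (tX L (b + 1 - (0 : ℕ)) q) = 0
    by_cases hq : b + 1 - (0 : ℕ) ≤ q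
    · rw [tX, if_pos hq]; exact (hb q (by lia)).eq_of_src _ _
    · exact (isZero_tX L _ q hq).eq_of_src _ _
  | succ k ih =>
    have e : b + 1 - (k : ℤ) = b + 1 - ((k + 1 : ℕ) : ℤ) + 1 := by push_cast; lia
    rw [e] at ih
    exact acyclic₂ (shortExact_of_splitting (splittingObj (DRingKP.tB R) K (truncSC L _) (truncSplitting L _)))
      ih (acyclic_single K hK _ _)

include hK in
theorem acyclic_tens (L : CochainComplex (ModuleCat.{u} R) ℤ) :
    (((tens (DRingKP.tB R)).obj K).obj L).Acyclic := by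
  choose t ht using fun n : ℕ => exists_truncLE_step L (n : ℤ) ((n + 1 : ℕ) : ℤ) (by lia)
  let F : ℕ ⥤ CochainComplex (ModuleCat.{u} R) ℤ := Functor.ofSequence (X := fun n : ℕ => L.truncLE (n : ℤ)) t
  let c : Cocone F := Cocone.mk L (NatTrans.ofSequence (fun n => L.ιTruncLE (n : ℤ)) fun n => by
    refine Eq.trans ?_ (Category.comp_id _).symm
    erw [Functor.ofSequence_map_homOfLE_succ]
    exact ht n)
  have hc : IsColimit c := isColimitOfEval _ _ fun q => by
    refine IsColimit.ofExistsUnique fun s => ?_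
    let N : ℕ := (q + 1).toNat
    have hN : q < (N : ℤ) := by lia
    haveI := isIso_ιTruncLE_f L (N : ℤ) q hN
    refine ⟨inv ((L.ιTruncLE (N : ℤ)).f q) ≫ s.ι.app N, fun k => ?_, fun m hm => ?_⟩
    · change (L.ιTruncLE (k : ℤ)).f q ≫ _ = _
      rcases le_total k N with hk | hk
      · have e := congrArg (fun g => HomologicalComplex.Hom.f g q) (c.w (homOfLE hk))
        change (F.map (homOfLE hk)).f q ≫ (L.ιTruncLE (N : ℤ)).f q = (L.ιTruncLE (k : ℤ)).f q at e
        rw [← e, Category.assoc, IsIso.hom_inv_id_assoc]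
        exact s.w (homOfLE hk)
      · haveI := isIso_ιTruncLE_f L (k : ℤ) q (by lia)
        have e := congrArg (fun g => HomologicalComplex.Hom.f g q) (c.w (homOfLE hk))
        change (F.map (homOfLE hk)).f q ≫ (L.ιTruncLE (k : ℤ)).f q = (L.ιTruncLE (N : ℤ)).f q at e
        have e' : inv ((L.ιTruncLE (N : ℤ)).f q) ≫ (F.map (homOfLE hk)).f q = inv ((L.ιTruncLE (k : ℤ)).f q) := by
          rw [IsIso.inv_comp_eq, IsIso.eq_comp_inv]
          exact e
        have es : (F.map (homOfLE hk)).f q ≫ s.ι.app k = s.ι.app N := s.w (homOfLE hk)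
        rw [← es, reassoc_of% e', IsIso.hom_inv_id_assoc]
    · rw [← hm N]
      change m = inv _ ≫ (L.ιTruncLE (N : ℤ)).f q ≫ m
      rw [IsIso.inv_hom_id_assoc]
  have := preservesColimitsOfShape_tens_obj (DRingKP.tB R) (DRingKP.preservesNat_tB R) K
  refine acyclic_of_isColimit (isColimitOfPreserves ((tens (DRingKP.tB R)).obj K) hc) fun k => ?_
  exact acyclic_bddAbove K hK (L.truncLE (k : ℤ)) k fun n hn => (L.truncLE (k : ℤ)).isZero_of_isStrictlyLE (k : ℤ) n hn

end Groth.Agent.KFlat.PureAcyclic
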