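import Groth.Agent.KFlat.Assoc
import Groth.Agent.KFlat.Site

/-!
Tensor products of flat modules / K-flat complexes on a ringed site.
-/

set_option autoImplicit false
set_option linter.unusedSectionVars false
universe u

namespace Groth.Agent.KFlat

open CategoryTheory Limits HomologicalComplex

variable {C : Type u} [SmallCategory C] {J : GrothendieckTopology C} (O : Sheaf J CommRingCat.{u})

/-- `X ↦ (X ⊗ G) ⊗ F` is `X ↦ X ⊗ (G ⊗ F)` -/
noncomputable def flipAssocIso (G F : ModSite.Mod O) :
    (ModSite.tensorBi O).flip.obj G ⋙ (ModSite.tensorBi O).flip.obj F ≅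
      (ModSite.tensorBi O).flip.obj (((ModSite.tensorBi O).obj G).obj F) :=
  NatIso.ofComponents (fun X => assocApp O X G F) (fun a => assocApp_natural₁ O a G F)

theorem isFlat_tensor {G F : ModSite.Mod O} (hG : ModSite.IsFlat G) (hF : ModSite.IsFlat F) :
    ModSite.IsFlat (((ModSite.tensorBi O).obj G).obj F) := by
  have := hG.1
  have := hG.2
  have := hF.1
  have := hF.2
  exact ⟨preservesFiniteLimits_of_natIso (flipAssocIso O G F),
    preservesFiniteColimits_of_natIso (flipAssocIso O G F)⟩

theorem isKFlat_tensorCx {K L : CochainComplex (ModSite.Mod O) ℤ} (hK : RFlat (ModSite.tensorBi O) K)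
    (hL : RFlat (ModSite.tensorBi O) L) :
    RFlat (ModSite.tensorBi O) (((tens (ModSite.tensorBi O)).obj K).obj L) := fun M hM =>
  acyclic_of_iso (assocTot O M K L) (hL _ (hK M hM))

end Groth.Agent.KFlat
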